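import Groth.Agent.GrpSchLib.FieldAllComp
import Groth.Agent.GrpSchLib.SepPoints
import Groth.Agent.EtFound.Henselian
import Groth.Agent.Hensel.SmoothLift
import Groth.Prelude.Def_SGA7IX

/-!
# Components of the special fibre of a smooth group scheme over a henselian local ring
-/

set_option autoImplicit false
set_option linter.style.haveILetI false
set_option backward.isDefEq.respectTransparency false
set_option backward.isDefEq.respectTransparency.types false
universe u

open CategoryTheory AlgebraicGeometry MonoidalCategory CartesianMonoidalCategory MonObj GrpObj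
open Limits TopologicalSpace
open scoped CategoryTheory.Obj

namespace Groth.Agent.NeronComp

/-- Finitely many open components. -/
theorem finite_range_connectedComponent {X : Type u} [TopologicalSpace X] [CompactSpace X]
    (h : ∀ x : X, IsOpen (connectedComponent x)) : (Set.range (connectedComponent : X → Set X)).Finite := by
  obtain ⟨t, ht⟩ := isCompact_univ.elim_finite_subcover (fun x : X => connectedComponent x) h
    (fun x _ => Set.mem_iUnion.2 ⟨x, mem_connectedComponent⟩)
  refine (t.finite_toSet.image (fun x => connectedComponent x)).subset ?_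
  rintro _ ⟨x, rfl⟩
  obtain ⟨y, hy, hxy⟩ := Set.mem_iUnion₂.1 (ht (Set.mem_univ x))
  exact ⟨y, hy, connectedComponent_eq hxy⟩

/-- The component of a point of a closed embedding, inside the range. -/
theorem connectedComponentIn_range {X Y : Type u} [TopologicalSpace X] [TopologicalSpace Y] {f : X → Y}
    (hf : Topology.IsInducing f) (p : X) :
    connectedComponentIn (Set.range f) (f p) = f '' connectedComponent p := by
  refine subset_antisymm (fun q hq => ?_) ?_
  · obtain ⟨r, rfl⟩ := connectedComponentIn_subset _ _ hq
    refine ⟨r, IsPreconnected.subset_connectedComponent (s := f ⁻¹' connectedComponentIn (Set.range f) (f p)) ?_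
      (mem_connectedComponentIn ⟨_, rfl⟩) hq, rfl⟩
    rw [← hf.isPreconnected_image, Set.image_preimage_eq_of_subset (connectedComponentIn_subset _ _)]
    exact isPreconnected_connectedComponentIn
  · exact (isPreconnected_connectedComponent.image _ hf.continuous.continuousOn).subset_connectedComponentIn
      ⟨_, mem_connectedComponent, rfl⟩ (Set.image_subset_range _ _)

/-- A smooth scheme over a henselian local ring has a section through a rational point of the closed fibre. -/
theorem exists_section (R : Type u) [CommRing R] [HenselianLocalRing R] {U : Scheme.{u}}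
    (f : U ⟶ Spec (CommRingCat.of R)) [Smooth f]
    (u : Spec (CommRingCat.of (IsLocalRing.ResidueField R)) ⟶ U) (hu : u ≫ f = EtFound.cpt R) :
    ∃ σ : Spec (CommRingCat.of R) ⟶ U, σ ≫ f = 𝟙 _ ∧ EtFound.cpt R ≫ σ = u := by
  obtain ⟨A, j, hj, hmem, -⟩ := Scheme.exists_affine_mem_range_and_range_subset
    (x := u.base default) (U := (⊤ : U.Opens)) (by simp)
  let u' := IsOpenImmersion.lift j u (by
    rintro _ ⟨a, rfl⟩
    rw [show a = default from Subsingleton.elim _ _]; exact hmem)
  have hu' : u' ≫ j = u := IsOpenImmersion.lift_fac _ _ _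
  obtain ⟨φR, hφR⟩ := Spec.map_surjective (j ≫ f)
  obtain ⟨φu, hφu⟩ := Spec.map_surjective u'
  algebraize [φR.hom]
  have : Algebra.Smooth R A := by
    have h : Smooth (Spec.map φR) := by rw [hφR]; infer_instance
    exact (HasRingHomProperty.Spec_iff (P := @Smooth)).mp h
  have hcomp : φR ≫ φu = CommRingCat.ofHom (IsLocalRing.residue R) := by
    apply Spec.map_injective
    rw [Spec.map_comp, hφR, hφu, ← Category.assoc, hu', hu]
  let φ : A →ₐ[R] R ⧸ IsLocalRing.maximalIdeal R :=
    { φu.hom with commutes' := fun r => congr(($hcomp).hom r) }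
  obtain ⟨ψ, hψ⟩ := Groth.Agent.Hensel.exists_smooth_lift (IsLocalRing.maximalIdeal R) φ
  have hψR : φR ≫ CommRingCat.ofHom ψ.toRingHom = 𝟙 _ := by
    ext r; exact ψ.commutes r
  have hψu : CommRingCat.ofHom ψ.toRingHom ≫ CommRingCat.ofHom (IsLocalRing.residue R) = φu := by
    ext s; exact congr($hψ s)
  refine ⟨Spec.map (CommRingCat.ofHom ψ.toRingHom) ≫ j, ?_, ?_⟩
  · rw [Category.assoc, ← hφR, ← Spec.map_comp, hψR, Spec.map_id]
  · rw [← Category.assoc, ← Spec.map_comp, hψu, hφu, hu']

section
variable {k : Type u} [Field k] {F : Over (Spec (CommRingCat.of k))} [GrpObj F]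

/-- Right translation preserves lying in one component. -/
theorem mem_component_mul {a b : 𝟙_ (Over (Spec (CommRingCat.of k))) ⟶ F}
    (h : a.left (IsLocalRing.closedPoint k) ∈ connectedComponent (b.left (IsLocalRing.closedPoint k)))
    (c : 𝟙_ (Over (Spec (CommRingCat.of k))) ⟶ F) :
    (a * c).left (IsLocalRing.closedPoint k) ∈ connectedComponent ((b * c).left (IsLocalRing.closedPoint k)) := by
  let σ : F ⟶ F := 𝟙 F * (toUnit F ≫ c)
  have hσ : ∀ x : 𝟙_ (Over (Spec (CommRingCat.of k))) ⟶ F, x ≫ σ = x * c := fun x => by
    show x ≫ (𝟙 F * (toUnit F ≫ c)) = _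
    rw [MonObj.comp_mul, Category.comp_id, ← Category.assoc,
      show x ≫ toUnit F = 𝟙 _ from toUnit_unique _ _, Category.id_comp]
  rw [← hσ, ← hσ]
  show (a.left ≫ σ.left) _ ∈ connectedComponent ((b.left ≫ σ.left) _)
  rw [Scheme.Hom.comp_apply, Scheme.Hom.comp_apply]
  exact σ.left.continuous.image_connectedComponent_subset _ ⟨_, h, rfl⟩

end

section
variable (R : Type u) [CommRing R] [HenselianLocalRing R] (N : Over (Spec (CommRingCat.of R)))

/-- The special fibre of `N`. -/
noncomputable abbrev fib : Over (Spec (CommRingCat.of (IsLocalRing.ResidueField R))) :=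
  (Over.pullback (EtFound.cpt R)).obj N

/-- Its closed immersion into `N`. -/
noncomputable abbrev fibInc : (fib R N).left ⟶ N.left := pullback.fst N.hom (EtFound.cpt R)

instance : IsClosedImmersion (fibInc R N) := by
  haveI : IsClosedImmersion (EtFound.cpt R) :=
    IsClosedImmersion.spec_of_surjective _ IsLocalRing.residue_surjective
  exact MorphismProperty.pullback_fst _ _ inferInstance

theorem range_fibInc : Set.range (fibInc R N) = SGA7.specialFibreSet R N := by
  show Set.range (pullback.fst N.hom (EtFound.cpt R)) = N.hom ⁻¹' {IsLocalRing.closedPoint R}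
  rw [Scheme.Pullback.range_fst]
  congr 1
  ext t
  constructor
  · rintro ⟨w, rfl⟩
    exact EtFound.cpt_base R w
  · rintro rfl
    exact ⟨default, EtFound.cpt_base R _⟩

theorem connectedComponentIn_fibre (p : (fib R N).left) :
    connectedComponentIn (SGA7.specialFibreSet R N) (fibInc R N p) = fibInc R N '' connectedComponent p := by
  rw [← range_fibInc]
  exact connectedComponentIn_range (fibInc R N).isClosedEmbedding.isInducing p

/-- Reduction of sections as a homomorphism. -/
noncomputable def red [GrpObj N] :
    letI : GrpObj (fib R N) := Functor.grpObjObj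
    (𝟙_ (Over (Spec (CommRingCat.of R))) ⟶ N) →*
      (𝟙_ (Over (Spec (CommRingCat.of (IsLocalRing.ResidueField R)))) ⟶ fib R N) :=
  letI : GrpObj (fib R N) := Functor.grpObjObj
  { toFun := fun a => Functor.LaxMonoidal.ε (Over.pullback (EtFound.cpt R)) ≫
      (Over.pullback (EtFound.cpt R)).homMonoidHom a
    map_one' := by rw [map_one, MonObj.comp_one]
    map_mul' := fun a b => by rw [map_mul, MonObj.comp_mul] }

theorem fibInc_red [GrpObj N] (a : 𝟙_ (Over (Spec (CommRingCat.of R))) ⟶ N) :
    fibInc R N ((red R N a).left (IsLocalRing.closedPoint _)) = a.left (IsLocalRing.closedPoint R) := by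
  let i := EtFound.cpt R
  let G := Over.pullback i
  have hred : (red R N a).left ≫ fibInc R N = i ≫ a.left := by
    show ((Functor.LaxMonoidal.ε G).left ≫ (G.map a).left) ≫ pullback.fst N.hom i = i ≫ a.left
    have h1 : (G.map a).left ≫ pullback.fst N.hom i = pullback.fst _ i ≫ a.left := pullback.lift_fst _ _ _
    have h2 : (Functor.LaxMonoidal.ε G).left ≫ pullback.fst (𝟙_ (Over (Spec (CommRingCat.of R)))).hom i = i := by
      have h3 := Over.w (Functor.LaxMonoidal.ε G)
      have h4 : pullback.fst (𝟙_ (Over (Spec (CommRingCat.of R)))).hom i = pullback.snd _ i ≫ i := by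
        rw [← pullback.condition]
        exact (Category.comp_id _).symm
      rw [h4, ← Category.assoc]
      exact (congrArg (· ≫ i) h3).trans (Category.id_comp _)
    rw [Category.assoc, h1, ← Category.assoc, h2]
  rw [← Scheme.Hom.comp_apply, hred, Scheme.Hom.comp_apply]
  exact congrArg a.left (EtFound.cpt_base R _)

theorem secComp_eq [GrpObj N] (a : 𝟙_ (Over (Spec (CommRingCat.of R))) ⟶ N) :
    SGA7.secComp R N a = fibInc R N '' connectedComponent ((red R N a).left (IsLocalRing.closedPoint _)) := by
  rw [← connectedComponentIn_fibre, fibInc_red]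
  rfl

/-- The unit section as the neutral element. -/
theorem one_eq_unit [GrpObj N] : η[N] = (1 : 𝟙_ (Over (Spec (CommRingCat.of R))) ⟶ N) := by
  rw [Hom.one_def, show toUnit (𝟙_ (Over (Spec (CommRingCat.of R)))) = 𝟙 _ from toUnit_unique _ _, Category.id_comp]

theorem secUnitComp_eq [GrpObj N] (a : 𝟙_ (Over (Spec (CommRingCat.of R))) ⟶ N) :
    a ∈ SGA7.secUnitComp R N ↔ (red R N a).left (IsLocalRing.closedPoint _) ∈
      connectedComponent ((red R N 1).left (IsLocalRing.closedPoint _)) := by
  have : a ∈ SGA7.secUnitComp R N ↔ a.left (IsLocalRing.closedPoint R) ∈ SGA7.secComp R N 1 := by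
    rw [← one_eq_unit]
    rfl
  rw [this, secComp_eq, ← fibInc_red R N a, (fibInc R N).isClosedEmbedding.injective.mem_set_image]

/-- Components of the special fibre are the sections modulo those in the unit component. -/
theorem componentGroup [IsSepClosed (IsLocalRing.ResidueField R)] [GrpObj N]
    [Smooth N.hom] [QuasiCompact N.hom] :
    (Set.range (SGA7.secComp R N)).Finite ∧
    (∀ z ∈ SGA7.specialFibreSet R N, ∃ x : 𝟙_ (Over (Spec (CommRingCat.of R))) ⟶ N, z ∈ SGA7.secComp R N x) ∧
      ∀ x y : 𝟙_ (Over (Spec (CommRingCat.of R))) ⟶ N,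
        SGA7.secComp R N x = SGA7.secComp R N y ↔ x * y⁻¹ ∈ SGA7.secUnitComp R N := by
  letI : GrpObj (fib R N) := Functor.grpObjObj
  haveI : Smooth (fib R N).hom := inferInstanceAs (Smooth (pullback.snd N.hom (EtFound.cpt R)))
  haveI : QuasiCompact (fib R N).hom := inferInstanceAs (QuasiCompact (pullback.snd N.hom (EtFound.cpt R)))
  haveI : IsLocallyNoetherian (fib R N).left := LocallyOfFiniteType.isLocallyNoetherian (fib R N).hom
  haveI : CompactSpace (fib R N).left := QuasiCompact.compactSpace_of_compactSpace (fib R N).hom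
  have hopen : ∀ p : (fib R N).left, IsOpen (connectedComponent p) := GrpSchLib.isOpen_connectedComponent
  refine ⟨?_, fun z hz => ?_, fun x y => ?_⟩
  · refine ((finite_range_connectedComponent hopen).image (fun C => fibInc R N '' C)).subset ?_
    rintro _ ⟨a, rfl⟩
    exact ⟨_, ⟨_, rfl⟩, (secComp_eq R N a).symm⟩
  · rw [← range_fibInc] at hz
    obtain ⟨p, rfl⟩ := hz
    obtain ⟨s, hs, hsO⟩ := GrpSchLib.exists_point_of_smooth (fib R N).hom ⟨_, hopen p⟩ (x := p) mem_connectedComponent
    obtain ⟨σ, hσ, hσs⟩ := exists_section R N.hom (s ≫ fibInc R N) (by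
      rw [Category.assoc, show fibInc R N ≫ N.hom = (fib R N).hom ≫ EtFound.cpt R from pullback.condition,
        ← Category.assoc, hs, Category.id_comp])
    refine ⟨Over.homMk σ hσ, ?_⟩
    show _ ∈ connectedComponentIn _ (σ (IsLocalRing.closedPoint R))
    have e : σ (IsLocalRing.closedPoint R) = fibInc R N (s (IsLocalRing.closedPoint _)) := by
      rw [← Scheme.Hom.comp_apply, ← hσs, Scheme.Hom.comp_apply]
      exact (congrArg σ (EtFound.cpt_base R _)).symm
    rw [e, connectedComponentIn_fibre]
    exact ⟨p, (connectedComponent_eq hsO).le mem_connectedComponent, rfl⟩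
  · rw [secComp_eq, secComp_eq, (fibInc R N).isClosedEmbedding.injective.image_injective.eq_iff, secUnitComp_eq]
    constructor
    · intro h
      have h1 := mem_component_mul (a := red R N x) (b := red R N y) (h ▸ mem_connectedComponent) (red R N y)⁻¹
      rwa [_root_.mul_inv_cancel, ← map_inv, ← map_mul, ← map_one (red R N)] at h1
    · intro h
      have h1 := mem_component_mul h (red R N y)
      rw [← map_mul, ← map_mul, _root_.inv_mul_cancel_right, _root_.one_mul] at h1
      exact (connectedComponent_eq h1).symm

end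

end Groth.Agent.NeronComp
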