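import Groth.Agent.NeronComp.EndRoot

/-!
# Splitting of a group by an idempotent endomorphism
-/

set_option autoImplicit false
set_option linter.style.haveILetI false
set_option backward.isDefEq.respectTransparency false

universe u

open CategoryTheory CategoryTheory.Limits MonoidalCategory CartesianMonoidalCategory MonObj GrpObj AlgebraicGeometry

attribute [local instance] CategoryTheory.Hom.monoid CategoryTheory.Hom.group

namespace Groth.Agent.NeronComp.IdemSplit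

noncomputable section

variable {k : Type u} [Field k] {G : Over (Spec (CommRingCat.of k))} [GrpObj G] [IsCommMonObj G]

theorem comm {T : Over (Spec (CommRingCat.of k))} (x y : T ⟶ G) : x * y = y * x :=
  Deform.Extension.mul_comm_of x y

theorem connected_of_retraction [ConnectedSpace G.left] {H : Over (Spec (CommRingCat.of k))} (i : H ⟶ G)
    (r : G ⟶ H) (h : i ≫ r = 𝟙 H) : ConnectedSpace H.left := by
  have hs : Function.Surjective r.left.base := fun x => ⟨i.left x, by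
    have h' := congrArg (fun f : H ⟶ H => f.left x) h
    simpa using h'⟩
  exact hs.connectedSpace r.left.continuous

theorem split [LocallyOfFiniteType G.hom] [ConnectedSpace G.left] (p : G ⟶ G) [IsMonHom p] (hp : p ≫ p = p) :
    ∃ (G₁ G₂ : Over (Spec (CommRingCat.of k))) (_ : GrpObj G₁) (_ : GrpObj G₂) (i₁ : G₁ ⟶ G) (i₂ : G₂ ⟶ G),
      IsMonHom i₁ ∧ IsMonHom i₂ ∧ IsClosedImmersion i₁.left ∧ IsClosedImmersion i₂.left ∧
      AlgGrp.IsKernel i₁ (𝟙 G * p⁻¹) ∧ AlgGrp.IsKernel i₂ p ∧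
      ConnectedSpace ↥G₁.left ∧ ConnectedSpace ↥G₂.left ∧ IsIso ((i₁ ⊗ₘ i₂) ≫ μ[G]) := by
  haveI := GrpSchLib.AntiAffine.isSeparated_grp G
  haveI := EndRoot.isMonHom_inv p
  haveI : IsMonHom (𝟙 G * p⁻¹) := EndRoot.isMonHom_mul _ _
  obtain ⟨G₁, iG₁, i₁, hi₁, hic₁, -, hk₁⟩ := GrpSchLib.exists_kernel (𝟙 G * p⁻¹)
  obtain ⟨G₂, iG₂, i₂, hi₂, hic₂, -, hk₂⟩ := GrpSchLib.exists_kernel p
  letI := iG₁; letI := iG₂
  haveI := hi₁; haveI := hi₂; haveI := hic₁; haveI := hic₂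
  haveI : Mono i₁ := (Over.forget _).mono_of_mono_map (inferInstanceAs (Mono i₁.left))
  haveI : Mono i₂ := (Over.forget _).mono_of_mono_map (inferInstanceAs (Mono i₂.left))
  have hpq : p ≫ (𝟙 G * p⁻¹) = 1 := by
    rw [MonObj.comp_mul, Category.comp_id, GrpObj.comp_inv, hp, mul_inv_cancel]
  have hqp : (𝟙 G * p⁻¹) ≫ p = 1 := by
    rw [MonObj.mul_comp, Category.id_comp, GrpObj.inv_comp, hp, mul_inv_cancel]
  obtain ⟨r₁, hr₁⟩ := Deform.Chev.exists_lift_kernel i₁ _ hk₁ p hpq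
  obtain ⟨r₂, hr₂⟩ := Deform.Chev.exists_lift_kernel i₂ _ hk₂ (𝟙 G * p⁻¹) hqp
  have h₁ : i₁ ≫ p = i₁ := by
    have h : i₁ ≫ (𝟙 G * p⁻¹) = 1 := hk₁.w
    rw [MonObj.comp_mul, Category.comp_id, GrpObj.comp_inv, mul_inv_eq_one] at h
    exact h.symm
  have h₂ : i₂ ≫ p = 1 := hk₂.w
  have h₂' : i₂ ≫ (𝟙 G * p⁻¹) = i₂ := by
    rw [MonObj.comp_mul, Category.comp_id, GrpObj.comp_inv, h₂, inv_one, _root_.mul_one]
  refine ⟨G₁, G₂, iG₁, iG₂, i₁, i₂, hi₁, hi₂, hic₁, hic₂, hk₁, hk₂, ?_, ?_, ?_⟩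
  · exact connected_of_retraction i₁ r₁ (by rw [← cancel_mono i₁, Category.assoc, hr₁, h₁, Category.id_comp])
  · exact connected_of_retraction i₂ r₂ (by rw [← cancel_mono i₂, Category.assoc, hr₂, h₂', Category.id_comp])
  · let F : G₁ ⊗ G₂ ⟶ G := (i₁ ⊗ₘ i₂) ≫ μ[G]
    have hF : F = (fst G₁ G₂ ≫ i₁) * (snd G₁ G₂ ≫ i₂) := by
      rw [Hom.mul_def, CartesianMonoidalCategory.lift_fst_comp_snd_comp]
    have hFp : F ≫ p = fst G₁ G₂ ≫ i₁ := by
      rw [hF, MonObj.mul_comp, Category.assoc, Category.assoc, h₁, h₂, MonObj.comp_one, _root_.mul_one]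
    refine ⟨lift r₁ r₂, ?_, ?_⟩
    · apply CartesianMonoidalCategory.hom_ext
      · rw [Category.id_comp, Category.assoc, lift_fst, ← cancel_mono i₁, Category.assoc, hr₁]
        exact hFp
      · rw [Category.id_comp, Category.assoc, lift_snd, ← cancel_mono i₂, Category.assoc, hr₂]
        show F ≫ (𝟙 G * p⁻¹) = _
        rw [MonObj.comp_mul, Category.comp_id, GrpObj.comp_inv, hFp, hF, comm (fst G₁ G₂ ≫ i₁),
          mul_inv_cancel_right]
    · show lift r₁ r₂ ≫ F = 𝟙 G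
      rw [hF, MonObj.comp_mul, lift_fst_assoc, lift_snd_assoc, hr₁, hr₂, comm (𝟙 G), ← _root_.mul_assoc,
        mul_inv_cancel, _root_.one_mul]

variable [Smooth G.hom] [ConnectedSpace G.left] (hG : SGA7.FibresUnipotentRankZero G)

include hG in
/-- An endomorphism `p` is idempotent when its `n`-th power `m` satisfies `m ∘ m = n m`. -/
theorem idem_of {n : ℕ} (hn : 0 < n) (p : G ⟶ G) [IsMonHom p]
    (h : (p ^ n) ≫ (p ^ n) = (p ^ n) ^ n) : p ≫ p = p := by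
  haveI : IsMonHom (p ≫ p) := inferInstance
  refine EndRoot.pow_injective hG (Nat.mul_pos hn hn) ?_
  rw [pow_mul, pow_mul, ← h, MonObj.comp_pow, Deform.Extension.pow_comp_hom p p n]

end

end Groth.Agent.NeronComp.IdemSplit

namespace Groth.Agent.NeronComp.IdemSplit

noncomputable section

variable {k : Type u} [Field k] {G : Over (Spec (CommRingCat.of k))} [GrpObj G] [IsCommMonObj G]
  [Smooth G.hom] [ConnectedSpace G.left] (hG : SGA7.FibresUnipotentRankZero G)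

theorem sq_aux {M : Type*} [CommGroup M] (e U : M) (w : M) (hw : w ^ 2 = U * e⁻¹) :
    (e * w) * (e * w) = e * U ∧ (e * w) ^ 2 = e * U := by
  have h : (e * w) * (e * w) = e * U := by
    rw [_root_.mul_mul_mul_comm, ← sq w, hw, _root_.mul_comm U, ← _root_.mul_assoc, mul_inv_cancel_right]
  exact ⟨h, (sq _).trans h⟩

theorem dev_sq {M : Type*} [CommGroup M] (a b c : M) (h : c * b⁻¹ * (b * a⁻¹)⁻¹ = 1) (hac : c = a) :
    (b * a⁻¹) ^ 2 = 1 := by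
  subst hac
  have h1 : c * b⁻¹ = (b * c⁻¹)⁻¹ := by rw [_root_.mul_inv, _root_.inv_inv, _root_.mul_comm]
  rw [h1, ← _root_.mul_inv, inv_eq_one, ← sq] at h
  exact h

theorem cube_aux {M : Type*} [CommGroup M] (a b c : M) (h : c * b⁻¹ * (b * a⁻¹)⁻¹ = 1) (ha : a ^ 3 = 1)
    (hb : b ^ 3 = 1) : a * b * c = 1 := by
  rw [mul_inv_eq_one, mul_inv_eq_iff_eq_mul] at h
  rw [h, show a * b * (b * a⁻¹ * b) = (a * a⁻¹) * b ^ 3 by simp [pow_succ, _root_.mul_comm, mul_left_comm], mul_inv_cancel,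
    _root_.one_mul, hb]

include hG in
theorem idem_sq (U : G ⟶ G) [IsMonHom U] (hU : U ≫ U = 𝟙 G) (w : G ⟶ G) [IsMonHom w] (hw : w ^ 2 = U * (𝟙 G)⁻¹) :
    ∃ p : G ⟶ G, IsMonHom p ∧ p ≫ p = p ∧ p * p = 𝟙 G * U := by
  letI : CommGroup (G ⟶ G) := { (inferInstance : Group (G ⟶ G)) with mul_comm := comm }
  obtain ⟨h1, h2⟩ := sq_aux (𝟙 G) U w hw
  haveI : IsMonHom (𝟙 G * w) := EndRoot.isMonHom_mul _ _
  refine ⟨𝟙 G * w, inferInstance, idem_of hG two_pos _ ?_, h1⟩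
  rw [h2, MonObj.comp_mul, Category.comp_id, MonObj.mul_comp, Category.id_comp, hU, sq, _root_.mul_comm U (𝟙 G)]

theorem comp_dev {T : Over (Spec (CommRingCat.of k))} (x : T ⟶ G) (U : G ⟶ G) :
    x ≫ (U * (𝟙 G)⁻¹) = (x ≫ U) * x⁻¹ := by
  rw [MonObj.comp_mul, GrpObj.comp_inv, Category.comp_id]

include hG in
theorem exists_idem_two (U : G ⟶ G) [IsMonHom U] (hU : U ≫ U = 𝟙 G)
    (h : ∀ (T : Over (Spec (CommRingCat.of k))) (x : T ⟶ G), x ^ 2 = 1 → x ≫ U = x) :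
    ∃ p : G ⟶ G, IsMonHom p ∧ p ≫ p = p ∧ p * p = 𝟙 G * U := by
  haveI := EndRoot.isMonHom_inv (𝟙 G)
  haveI : IsMonHom (U * (𝟙 G)⁻¹) := EndRoot.isMonHom_mul _ _
  obtain ⟨w, hw, hw2⟩ := EndRoot.exists_root hG two_pos (U * (𝟙 G)⁻¹) fun T x hx => by
    rw [comp_dev, h T x hx, mul_inv_cancel]
  haveI := hw
  exact idem_sq hG U hU w hw2

include hG in
theorem exists_idem_four (U : G ⟶ G) [IsMonHom U] (hU : U ≫ U = 𝟙 G)
    (h : ∀ (T : Over (Spec (CommRingCat.of k))) (x : T ⟶ G), x ^ 4 = 1 →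
      (((x ≫ U) * x⁻¹) ≫ U) * ((x ≫ U) * x⁻¹)⁻¹ = 1) :
    ∃ p : G ⟶ G, IsMonHom p ∧ p ≫ p = p ∧ p * p = 𝟙 G * U := by
  haveI := EndRoot.isMonHom_inv (𝟙 G)
  haveI : IsMonHom (U * (𝟙 G)⁻¹) := EndRoot.isMonHom_mul _ _
  haveI := Deform.Chev.SemiAb.isMonHom_pow (U * (𝟙 G)⁻¹) 2
  obtain ⟨w, hw, hw4⟩ := EndRoot.exists_root hG four_pos ((U * (𝟙 G)⁻¹) ^ 2) fun T x hx => by
    letI : CommGroup (T ⟶ G) := { (inferInstance : Group (T ⟶ G)) with mul_comm := comm }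
    rw [MonObj.comp_pow, comp_dev]
    refine dev_sq x (x ≫ U) ((x ≫ U) ≫ U) ?_ (by rw [Category.assoc, hU, Category.comp_id])
    have h' := h T x hx
    rwa [MonObj.mul_comp, GrpObj.inv_comp] at h'
  haveI := hw
  haveI := Deform.Chev.SemiAb.isMonHom_pow w 2
  refine idem_sq hG U hU w (EndRoot.pow_injective hG two_pos (f := w ^ 2) (g := U * (𝟙 G)⁻¹) ?_)
  rw [← pow_mul]
  exact hw4

include hG in
theorem exists_idem_three (U U₂ : G ⟶ G) [IsMonHom U] [IsMonHom U₂] (hU₂ : U ≫ U = U₂) (hU : U₂ ≫ U = 𝟙 G)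
    (h : ∀ (T : Over (Spec (CommRingCat.of k))) (x : T ⟶ G), x ^ 3 = 1 →
      (((x ≫ U) * x⁻¹) ≫ U) * ((x ≫ U) * x⁻¹)⁻¹ = 1) :
    ∃ p : G ⟶ G, IsMonHom p ∧ p ≫ p = p ∧ p * p * p = 𝟙 G * U * U₂ := by
  haveI := EndRoot.isMonHom_mul (𝟙 G) U
  haveI := EndRoot.isMonHom_mul (𝟙 G * U) U₂
  obtain ⟨p, hp, hp3⟩ := EndRoot.exists_root hG three_pos (𝟙 G * U * U₂) fun T x hx => by
    letI : CommGroup (T ⟶ G) := { (inferInstance : Group (T ⟶ G)) with mul_comm := comm }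
    rw [MonObj.comp_mul, MonObj.comp_mul, Category.comp_id, ← hU₂, ← Category.assoc]
    refine cube_aux x (x ≫ U) ((x ≫ U) ≫ U) ?_ hx ?_
    · have h' := h T x hx
      rwa [MonObj.mul_comp, GrpObj.inv_comp] at h'
    · rw [← Deform.Extension.pow_comp_hom U, hx, MonObj.one_comp]
  haveI := hp
  refine ⟨p, hp, idem_of hG three_pos p ?_, by rw [← hp3, pow_three']⟩
  rw [hp3]
  letI : CommGroup (G ⟶ G) := { (inferInstance : Group (G ⟶ G)) with mul_comm := comm }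
  have hUm : U ≫ (𝟙 G * U * U₂) = 𝟙 G * U * U₂ := by
    have e : U ≫ U₂ = 𝟙 G := by rw [← hU₂, ← Category.assoc, hU₂, hU]
    rw [MonObj.comp_mul, MonObj.comp_mul, Category.comp_id, hU₂, e, _root_.mul_comm, ← _root_.mul_assoc]
  have hU2m : U₂ ≫ (𝟙 G * U * U₂) = 𝟙 G * U * U₂ := by
    rw [← hU₂, Category.assoc, hU₂, hUm, hUm]
  rw [MonObj.mul_comp, MonObj.mul_comp, Category.id_comp, hUm, hU2m, pow_three']

end

end Groth.Agent.NeronComp.IdemSplit
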