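import Mathlib.RingTheory.Adjoin.Basic
import Mathlib.Data.Nat.Choose.Dvd
import Mathlib.RingTheory.Int.Basic
import Mathlib.GroupTheory.OrderOfElement
import Mathlib.RingTheory.Coprime.Lemmas
import Mathlib.Tactic

/-!
# Serre's lemma on units of finite order congruent to one
-/

set_option autoImplicit false

namespace Groth.Agent.NeronComp.SerreLemma

open Finset

theorem exists_expansion {S : Type*} [CommRing S] (x : S) (i : ℕ) : ∃ Y, (1 + x) ^ i = 1 + (i : S) * x + x ^ 2 * Y := by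
  induction i with
  | zero => exact ⟨0, by simp⟩
  | succ i ih =>
    obtain ⟨Y, hY⟩ := ih
    exact ⟨(i : S) + Y + x * Y, by rw [pow_succ, hY]; push_cast; ring⟩

theorem exists_sum_expansion {S : Type*} [CommRing S] (x : S) (p : ℕ) :
    ∃ Y, ∑ i ∈ range p, (1 + x) ^ i = (p : S) + (p.choose 2 : S) * x + x ^ 2 * Y := by
  induction p with
  | zero => exact ⟨0, by simp⟩
  | succ p ih =>
    obtain ⟨Y, hY⟩ := ih
    obtain ⟨Z, hZ⟩ := exists_expansion x p
    refine ⟨Y + Z, ?_⟩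
    rw [sum_range_succ, hY, hZ, Nat.choose_succ_succ p 1, Nat.choose_one_right]
    push_cast
    ring

/-- An element annihilated by a factor congruent to one modulo `ℓ` is infinitely divisible by `ℓ`. -/
theorem divisible_of_unit {S : Type*} [CommRing S] (ℓ : S) (w U : S) (h : w * (1 + ℓ * U) = 0) (j : ℕ) :
    ∃ y : S, ℓ ^ j * y = w := by
  induction j with
  | zero => exact ⟨w, by simp⟩
  | succ j ih =>
    obtain ⟨y, hy⟩ := ih
    refine ⟨-(U * y), ?_⟩
    rw [pow_succ]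
    linear_combination (-(ℓ * U)) * hy - h

/-- In a commutative torsion-free ring: a root `1 + m w` of `1 + X + ⋯ + X ^ (p - 1)` makes `w`
infinitely divisible by `ℓ ∣ m`. -/
theorem divisible {S : Type*} [CommRing S] {m ℓ p : ℕ} (hp : p.Prime) (hℓ : ℓ.Prime) (hm : ℓ ∣ m)
    (hodd : ℓ = 2 → 4 ∣ m) (htf : ∀ (n : ℕ) (x : S), n ≠ 0 → (n : S) * x = 0 → x = 0) (w : S)
    (h : w * ∑ i ∈ range p, (1 + (m : S) * w) ^ i = 0) (j : ℕ) :
    ∃ y : S, (ℓ : S) ^ j * y = w := by
  obtain ⟨Y, hY⟩ := exists_sum_expansion ((m : S) * w) p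
  rw [hY] at h
  obtain ⟨m', rfl⟩ := hm
  push_cast at h
  by_cases hpl : p = ℓ
  · subst hpl
    have key : ∃ U : S, (p : S) * (w * (1 + (p : S) * U)) = 0 := by
      rcases hp.eq_two_or_odd' with rfl | hodd'
      · obtain ⟨m'', hm''⟩ := (Nat.mul_dvd_mul_iff_left (a := 2) two_pos).mp (show 2 * 2 ∣ 2 * m' from hodd rfl)
        subst hm''
        refine ⟨(m'' : S) * w + 4 * (m'' : S) ^ 2 * w ^ 2 * Y, ?_⟩
        norm_num at h ⊢
        linear_combination h
      · obtain ⟨c, hc⟩ : p ∣ p.choose 2 := Nat.Prime.dvd_choose_self hp two_ne_zero (by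
          rcases hodd' with ⟨t, rfl⟩
          have := hp.two_le
          omega)
        refine ⟨(c : S) * (m' : S) * w + (m' : S) ^ 2 * w ^ 2 * Y, ?_⟩
        rw [hc] at h
        push_cast at h
        linear_combination h
    obtain ⟨U, hU⟩ := key
    exact divisible_of_unit _ w U (htf p _ hp.ne_zero hU) j
  · obtain ⟨V, hV⟩ : ∃ V : S, (p : S) * w = (ℓ : S) * (V * w) := ⟨_, (by linear_combination h :
      (p : S) * w = (ℓ : S) * (-((m' : S) * (p.choose 2 : S) * w + (ℓ : S) * (m' : S) ^ 2 * w ^ 2 * Y) * w))⟩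
    have hj : ∀ j : ℕ, (p : S) ^ j * w = (ℓ : S) ^ j * (V ^ j * w) := by
      intro j
      induction j with
      | zero => simp
      | succ j ih =>
        rw [pow_succ, pow_succ, pow_succ]
        linear_combination (p : S) * ih + (ℓ : S) ^ j * V ^ j * hV
    obtain ⟨a, b, hab⟩ : IsCoprime ((p : S) ^ j) ((ℓ : S) ^ j) := by
      refine IsCoprime.pow ?_
      simpa using (Nat.isCoprime_iff_coprime.mpr ((Nat.coprime_primes hp hℓ).mpr hpl)).map (Int.castRingHom S)
    exact ⟨a * (V ^ j * w) + b * w, by linear_combination (-a) * hj j + w * hab⟩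

variable {R : Type*} [Ring R] (htf : ∀ (n : ℕ) (x : R), n ≠ 0 → (n : R) * x = 0 → x = 0)
  (hsep : ∀ ℓ : ℕ, ℓ.Prime → ∀ x : R, (∀ j, ∃ y : R, (ℓ : R) ^ j * y = x) → x = 0)

include htf hsep in
theorem eq_zero_of_prime {m ℓ p : ℕ} (hp : p.Prime) (hℓ : ℓ.Prime) (hm : ℓ ∣ m) (hodd : ℓ = 2 → 4 ∣ m) (hm0 : m ≠ 0)
    (w : R) (h : (1 + (m : R) * w) ^ p = 1) : w = 0 := by
  let S := Algebra.adjoin ℤ ({w} : Set R)
  letI : CommRing S := { (inferInstance : Ring S) with
    mul_comm := fun a b => Subtype.ext ((Algebra.commute_of_mem_adjoin_singleton_of_commute a.2 (Commute.symm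
      (Algebra.commute_of_mem_adjoin_singleton_of_commute b.2 (Commute.refl w)))).eq.symm) }
  let wS : S := ⟨w, Algebra.subset_adjoin rfl⟩
  have htfS : ∀ (n : ℕ) (x : S), n ≠ 0 → (n : S) * x = 0 → x = 0 := fun n x hn hx =>
    Subtype.ext (htf n x hn (by simpa using congrArg Subtype.val hx))
  have hS : wS * ∑ i ∈ range p, (1 + (m : S) * wS) ^ i = 0 := by
    refine htfS m _ hm0 ?_
    have h1 : (1 + (m : S) * wS) ^ p - 1 = 0 := Subtype.ext (by simp [wS, h])
    have h2 := mul_geom_sum (1 + (m : S) * wS) p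
    linear_combination h2 + h1
  refine hsep ℓ hℓ w fun j => ?_
  obtain ⟨y, hy⟩ := divisible hp hℓ hm hodd htfS wS hS j
  exact ⟨y, by simpa using congrArg Subtype.val hy⟩

include htf hsep in
/-- A finite-order element congruent to one modulo an odd prime, or modulo four, is one. -/
theorem eq_one_of_modulus {m ℓ : ℕ} (hℓ : ℓ.Prime) (hm : ℓ ∣ m) (hodd : ℓ = 2 → 4 ∣ m) (hm0 : m ≠ 0) :
    ∀ (N : ℕ) (w : R), 0 < N → (1 + (m : R) * w) ^ N = 1 → 1 + (m : R) * w = 1 := by
  intro N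
  induction N using Nat.strong_induction_on with
  | _ N ih =>
    intro w hN h
    by_cases h1 : N = 1
    · rwa [h1, pow_one] at h
    obtain ⟨p, hp, M, rfl⟩ := Nat.exists_prime_and_dvd h1
    have hM : 0 < M := Nat.pos_of_mul_pos_left hN
    rw [pow_mul] at h
    -- a power of a congruence is a congruence
    obtain ⟨w', hw'⟩ : ∃ w', (1 + (m : R) * w) ^ p = 1 + (m : R) * w' := by
      refine ⟨w * ∑ i ∈ range p, (1 + (m : R) * w) ^ i, ?_⟩
      rw [← mul_assoc]
      have h2 := mul_geom_sum (1 + (m : R) * w) p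
      rw [add_sub_cancel_left] at h2
      rw [h2, add_sub_cancel]
    rw [hw'] at h
    have h3 : (1 + (m : R) * w) ^ p = 1 := hw'.trans (ih M (lt_mul_of_one_lt_left hM hp.one_lt) w' hM h)
    rw [eq_zero_of_prime htf hsep hp hℓ hm hodd hm0 w h3, mul_zero, add_zero]

include htf hsep in
/-- Serre's lemma. -/
theorem eq_one {n N : ℕ} (hn : 2 ≤ n) (hN : 0 < N) (w : R) (h : (1 + (n : R) * w) ^ N = 1) :
    (3 ≤ n → 1 + (n : R) * w = 1) ∧ (n = 2 → (1 + (n : R) * w) * (1 + (n : R) * w) = 1) := by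
  refine ⟨fun h3 => ?_, fun h2 => ?_⟩
  · rcases Nat.four_dvd_or_exists_odd_prime_and_dvd_of_two_lt h3 with h4 | ⟨ℓ, hℓ, hd, ho⟩
    · exact eq_one_of_modulus htf hsep Nat.prime_two (dvd_trans (by norm_num) h4) (fun _ => h4) (by omega) N w hN h
    · exact eq_one_of_modulus htf hsep hℓ hd (fun e => absurd ho (by rw [e]; decide)) (by omega) N w hN h
  · subst h2
    have e : (1 + ((2 : ℕ) : R) * w) * (1 + ((2 : ℕ) : R) * w) = 1 + ((4 : ℕ) : R) * (w + w * w) := by
      push_cast; noncomm_ring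
    rw [e]
    refine eq_one_of_modulus htf hsep Nat.prime_two (by norm_num : 2 ∣ 4) (fun _ => dvd_rfl) (by norm_num) N _ hN ?_
    rw [← e, ← sq, ← pow_mul, mul_comm, pow_mul, h, one_pow]

end Groth.Agent.NeronComp.SerreLemma
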