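import Groth.Agent.NeronComp.EndSep
import Groth.Agent.NeronComp.IdemSplit
import Groth.Agent.NeronComp.SerreLemma
import Groth.Prelude.Def_EndRing

/-!
# Automorphisms of finite order of groups of unipotent rank zero
-/

set_option autoImplicit false
set_option linter.style.haveILetI false
set_option backward.isDefEq.respectTransparency false

universe u

open CategoryTheory CategoryTheory.Limits MonoidalCategory CartesianMonoidalCategory MonObj GrpObj AlgebraicGeometry

attribute [local instance] CategoryTheory.Hom.monoid CategoryTheory.Hom.group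

namespace Groth.Agent.NeronComp.EndFiniteOrder

noncomputable section

variable {k : Type u} [Field k] (G : Over (Spec (CommRingCat.of k))) [GrpObj G] [IsCommMonObj G] [Smooth G.hom]
  [ConnectedSpace G.left]

theorem eq_one_of_divisible (hG : SGA7.FibresUnipotentRankZero G) {n : ℕ} (hn : 2 ≤ n) (w : G ⟶ G) [IsMonHom w]
    (h : ∀ j : ℕ, ∃ v : G ⟶ G, IsMonHom v ∧ v ^ (n ^ j) = w) : w = 1 := by
  haveI := Deform.GenSub.quasiCompact_of_connected G
  let s : Spec (CommRingCat.of k) := IsLocalRing.closedPoint k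
  let K : Type u := AlgebraicClosure ((Spec (CommRingCat.of k)).residueField s)
  obtain ⟨φ, hφ⟩ := Spec.map_surjective (Red.geomPt s)
  let g : Spec (CommRingCat.of K) ⟶ Spec (CommRingCat.of k) := Spec.map φ
  haveI : ConnectedSpace (Red.bc g G).left := GrpSchLib.AntiAffine.connectedSpace_bc G φ.hom
  haveI : Smooth (Red.bc g G).hom := inferInstanceAs (Smooth (pullback.snd G.hom g))
  haveI : IsCommMonObj (Red.bc g G) := Deform.Extension.isCommMonObj_of fun T =>
    Deform.Extension.comm_bc g (fun T => Deform.Extension.mul_comm_of) T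
  have hsab := NoGa.isSemiAb (Red.bc g G) (by
    show ∀ j : Red.Ga (Spec (CommRingCat.of K)) ⟶ Red.bc (Spec.map φ) G, IsMonHom j → IsClosedImmersion j.left → False
    rw [hφ]
    exact hG s)
  haveI : IsMonHom ((Over.pullback g).map w) := inferInstance
  have h1 : (Over.pullback g).map w = 1 := EndSep.eq_one_semiAb hsab hn _ fun j => by
    obtain ⟨v, hv, hvw⟩ := h j
    haveI := hv
    refine ⟨(Over.pullback g).map v, inferInstance, ?_⟩
    rw [← hvw]
    exact (map_pow (Over.pullback g).homMonoidHom v (n ^ j)).symm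
  haveI := GrpSchLib.AntiAffine.isSeparated_grp G
  refine GrpSchLib.AntiAffine.eq_of_map_eq φ.hom ?_
  exact h1.trans (map_one (Over.pullback g).homMonoidHom).symm

theorem aut_finite_order (hG : SGA7.FibresUnipotentRankZero G) {n : ℕ} (hn : 2 ≤ n) (U : G ⟶ G) [IsMonHom U]
    {N : ℕ} (hN : 0 < N) (hUN : (EndAV.End.of U) ^ N = 1)
    (hu : ∀ (T : Over (Spec (CommRingCat.of k))) (x : T ⟶ G), x ^ n = 1 → x ≫ U = x) :
    (3 ≤ n → U = 𝟙 G) ∧ (n = 2 → U ≫ U = 𝟙 G) := by
  haveI := EndRoot.isMonHom_inv (𝟙 G)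
  haveI : IsMonHom (U * (𝟙 G)⁻¹) := EndRoot.isMonHom_mul _ _
  obtain ⟨w, hw, hwn⟩ := EndRoot.exists_root hG (by omega : 0 < n) (U * (𝟙 G)⁻¹) fun T x hx => by
    rw [MonObj.comp_mul, GrpObj.comp_inv, Category.comp_id, hu T x hx, mul_inv_cancel]
  haveI := hw
  have hsm : ∀ (m : ℕ) (x : EndAV.End G), ((m : EndAV.End G) * x).toHom = x.toHom ^ m := fun m x => by
    rw [← nsmul_eq_mul]
    exact EndAV.Hom.toHom_nsmul m x
  have hv : 1 + (n : EndAV.End G) * EndAV.End.of w = EndAV.End.of U := EndAV.End.ext (by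
    show (1 : EndAV.End G).toHom * ((n : EndAV.End G) * EndAV.End.of w).toHom = U
    rw [hsm, EndAV.End.toHom_of, hwn]
    show 𝟙 G * (U * (𝟙 G)⁻¹) = U
    rw [IdemSplit.comm U, ← _root_.mul_assoc, mul_inv_cancel, _root_.one_mul])
  obtain ⟨h3, h2⟩ := SerreLemma.eq_one (R := EndAV.End G) (fun m x hm hx => EndAV.End.ext (by
      refine EndRoot.pow_injective hG (Nat.pos_of_ne_zero hm) (f := x.toHom) (g := 1) ?_
      rw [one_pow, ← hsm, hx]
      rfl))
    (fun ℓ hℓ x hx => EndAV.End.ext (by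
      refine eq_one_of_divisible G hG hℓ.two_le x.toHom fun j => ?_
      obtain ⟨y, hy⟩ := hx j
      exact ⟨y.toHom, inferInstance, by rw [← hsm, Nat.cast_pow, hy]⟩))
    hn hN (EndAV.End.of w) (by rw [hv, hUN])
  rw [hv] at h3 h2
  exact ⟨fun h => congrArg EndAV.End.toHom (h3 h), fun h => congrArg EndAV.End.toHom (h2 h)⟩

end

end Groth.Agent.NeronComp.EndFiniteOrder
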