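import Groth.Agent.NeronComp.NoGaPow
import Groth.Agent.GrpSchLib.KernelGrp
import Groth.Agent.Deform.Chev.SemiAbExt

/-!
# Endomorphisms vanishing on torsion are divisible
-/

set_option autoImplicit false
set_option linter.style.haveILetI false
set_option backward.isDefEq.respectTransparency false

universe u

open CategoryTheory CategoryTheory.Limits MonoidalCategory CartesianMonoidalCategory MonObj GrpObj AlgebraicGeometry

attribute [local instance] CategoryTheory.Hom.monoid CategoryTheory.Hom.group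

namespace Groth.Agent.NeronComp.EndRoot

noncomputable section

variable {k : Type u} [Field k] {G : Over (Spec (CommRingCat.of k))} [GrpObj G] [IsCommMonObj G]

theorem isMonHom_mul (f g : G ⟶ G) [IsMonHom f] [IsMonHom g] : IsMonHom (f * g) :=
  WittEndoLib.isMonHom_of_mul _ fun Y x y => by
    rw [MonObj.comp_mul, MonObj.comp_mul, MonObj.comp_mul, MonObj.mul_comp, MonObj.mul_comp]
    exact mul_mul_mul_comm _ _ _ _

theorem isMonHom_inv (f : G ⟶ G) [IsMonHom f] : IsMonHom f⁻¹ :=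
  WittEndoLib.isMonHom_of_mul _ fun Y x y => by
    rw [GrpObj.comp_inv, GrpObj.comp_inv, GrpObj.comp_inv, MonObj.mul_comp, _root_.mul_inv]

theorem pow_comp (f : G ⟶ G) [IsMonHom f] (n : ℕ) : (𝟙 G ^ n : G ⟶ G) ≫ f = f ^ n := by
  rw [Deform.Extension.pow_comp_hom f (𝟙 G) n, Category.id_comp]

variable [Smooth G.hom] [ConnectedSpace G.left] (hG : SGA7.FibresUnipotentRankZero G)

include hG in
theorem pow_injective {n : ℕ} (hn : 0 < n) {f g : G ⟶ G} [IsMonHom f] [IsMonHom g] (h : f ^ n = g ^ n) : f = g := by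
  obtain ⟨hf, hs, hfin⟩ := NoGa.pow_props G hG hn
  haveI := hf; haveI := hs; haveI := hfin
  haveI : Epi (𝟙 G ^ n : G ⟶ G) := by
    haveI : Epi (𝟙 G ^ n : G ⟶ G).left := Flat.epi_of_flat_of_surjective _
    exact (Over.forget _).epi_of_epi_map (inferInstanceAs (Epi (𝟙 G ^ n : G ⟶ G).left))
  rw [← cancel_epi (𝟙 G ^ n : G ⟶ G), pow_comp, pow_comp, h]

include hG in
/-- An endomorphism which kills the `n`-torsion is an `n`-th power of an endomorphism. -/
theorem exists_root {n : ℕ} (hn : 0 < n) (v : G ⟶ G) [IsMonHom v]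
    (hv : ∀ (T : Over (Spec (CommRingCat.of k))) (x : T ⟶ G), x ^ n = 1 → x ≫ v = 1) :
    ∃ w : G ⟶ G, IsMonHom w ∧ w ^ n = v := by
  obtain ⟨hf, hs, hfin⟩ := NoGa.pow_props G hG hn
  haveI := hf; haveI := hs; haveI := hfin
  haveI := Deform.GenSub.quasiCompact_of_connected G
  haveI := GrpSchLib.AntiAffine.isSeparated_grp G
  haveI : IsMonHom (𝟙 G ^ n : G ⟶ G) := Deform.Chev.SemiAb.isMonHom_pow (𝟙 G) n
  obtain ⟨N, iN, i, -, -, -, hk⟩ := GrpSchLib.exists_kernel (𝟙 G ^ n : G ⟶ G)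
  obtain ⟨w, hw, hqw⟩ := Deform.Chev.SemiAbExt.exists_desc (𝟙 G ^ n : G ⟶ G) i hk v (hv N i (by
    have h : i ≫ (𝟙 G ^ n : G ⟶ G) = 1 := hk.w
    rwa [MonObj.comp_pow, Category.comp_id] at h))
  haveI := hw
  exact ⟨w, hw, (pow_comp w n).symm.trans hqw⟩

end

end Groth.Agent.NeronComp.EndRoot
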