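import Groth.Agent.NeronComp.EndRoot
import Groth.Agent.AVHomLib.TateIndep
import Groth.Agent.Deform.AVFactor

/-!
# Endomorphisms of semi-abelian groups are not infinitely divisible
-/

set_option autoImplicit false
set_option linter.style.haveILetI false
set_option backward.isDefEq.respectTransparency false

universe u

open CategoryTheory CategoryTheory.Limits MonoidalCategory CartesianMonoidalCategory MonObj GrpObj AlgebraicGeometry

attribute [local instance] CategoryTheory.Hom.monoid CategoryTheory.Hom.group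

namespace Groth.Agent.NeronComp.EndSep

open GrpSchLib.AffineHopf

noncomputable section

/-- An element of a free abelian group of finite rank divisible by all powers of `n ≥ 2` is zero. -/
theorem eq_zero_of_divisible {M : Type*} [AddCommGroup M] [Module.Free ℤ M] [Module.Finite ℤ M] {n : ℕ} (hn : 2 ≤ n)
    (x : M) (h : ∀ j : ℕ, ∃ y : M, n ^ j • y = x) : x = 0 := by
  let b := Module.Free.chooseBasis ℤ M
  apply b.repr.injective
  rw [map_zero]
  ext i
  by_contra hx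
  obtain ⟨y, hy⟩ := h (b.repr x i).natAbs
  have h1 := congrArg (fun m => b.repr m i) hy
  simp only [map_nsmul, Finsupp.smul_apply, nsmul_eq_mul] at h1
  have h2 : n ^ (b.repr x i).natAbs ∣ (b.repr x i).natAbs := by
    refine ⟨(b.repr y i).natAbs, ?_⟩
    rw [← Int.natAbs_natCast (n ^ (b.repr x i).natAbs), ← Int.natAbs_mul, h1]
  exact absurd (Nat.le_of_dvd (Int.natAbs_pos.mpr hx) h2) (not_le.mpr (Nat.lt_pow_self (by omega)))

variable {K : Type u} [Field K]

theorem eq_one_proper (A : Over (Spec (CommRingCat.of K))) [GrpObj A] [IsCommMonObj A] [IsProper A.hom]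
    [GeometricallyIntegral A.hom] {n : ℕ} (hn : 2 ≤ n) (w : A ⟶ A) [IsMonHom w]
    (h : ∀ j : ℕ, ∃ v : A ⟶ A, IsMonHom v ∧ v ^ (n ^ j) = w) : w = 1 := by
  obtain ⟨hfin, hfree⟩ := AVHomLib.hom_free (A := A) (B := A)
  haveI := hfin; haveI := hfree
  have h0 : EndAV.Hom.of w = 0 := eq_zero_of_divisible hn _ fun j => by
    obtain ⟨v, hv, hvw⟩ := h j
    haveI := hv
    exact ⟨EndAV.Hom.of v, EndAV.Hom.ext (by rw [EndAV.Hom.toHom_nsmul]; exact hvw)⟩
  exact congrArg EndAV.Hom.toHom h0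

theorem eq_of_groupLike {M : Type} [AddCommGroup M] (f : MonoidAlgebra K (Multiplicative M) →ₐc[K] MonoidAlgebra K (Multiplicative M))
    (m : Multiplicative M) : ∃ m', f (MonoidAlgebra.single m 1) = MonoidAlgebra.single m' 1 := by
  have hgl : IsGroupLikeElem K (MonoidAlgebra.single m (1 : K) : MonoidAlgebra K (Multiplicative M)) :=
    MonoidAlgebra.isGroupLikeElem_iff_mem_range_single_one.mpr ⟨m, rfl⟩
  obtain ⟨m', hm'⟩ := MonoidAlgebra.isGroupLikeElem_iff_mem_range_single_one.mp (hgl.map f)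
  exact ⟨m', hm'.symm⟩

theorem pow_spMap {A B : Type u} [CommRing A] [CommRing B] [Algebra K A] [Bialgebra K B] (f : B →ₐ[K] A) (N : ℕ) :
    spMap f ^ N = spMap (WithConv.toConv f ^ N).ofConv :=
  (map_pow Spec.mapMulEquiv (WithConv.toConv f) N).symm

theorem conv_pow_groupLike {B : Type u} [CommRing B] [Bialgebra K B] {A : Type u} [CommRing A] [Algebra K A]
    (f : WithConv (B →ₐ[K] A)) {g : B} (hg : IsGroupLikeElem K g) (N : ℕ) : (f ^ N).ofConv g = f.ofConv g ^ N := by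
  induction N with
  | zero =>
    rw [pow_zero, pow_zero, AlgHom.convOne_apply, hg.counit_eq_one, map_one]
  | succ N ih =>
    rw [pow_succ, pow_succ, AlgHom.convMul_apply, hg.comul_eq_tmul_self]
    simp [ih]

theorem eq_one_diag {M : Type} [AddCommGroup M] [Module.Free ℤ M] [Module.Finite ℤ M] {n : ℕ} (hn : 2 ≤ n)
    (w : sp K (MonoidAlgebra K (Multiplicative M)) ⟶ sp K (MonoidAlgebra K (Multiplicative M))) [IsMonHom w]
    (h : ∀ j : ℕ, ∃ v : sp K (MonoidAlgebra K (Multiplicative M)) ⟶ sp K (MonoidAlgebra K (Multiplicative M)),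
      IsMonHom v ∧ v ^ (n ^ j) = w) : w = 1 := by
  obtain ⟨f, rfl⟩ := exists_bialgHom w
  rw [← pow_zero (spMap ((f : _ →ₐc[K] _) : MonoidAlgebra K (Multiplicative M) →ₐ[K] MonoidAlgebra K (Multiplicative M))),
    pow_spMap, pow_zero]
  congr 1
  refine MonoidAlgebra.algHom_ext ?_ ?_
  on_goal 2 => exact AlgHom.ext fun c => by simpa using (f : MonoidAlgebra K (Multiplicative M) →ₐ[K] MonoidAlgebra K (Multiplicative M)).commutes c
  intro m
  have hgl : IsGroupLikeElem K (MonoidAlgebra.single m (1 : K) : MonoidAlgebra K (Multiplicative M)) :=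
    MonoidAlgebra.isGroupLikeElem_iff_mem_range_single_one.mpr ⟨m, rfl⟩
  obtain ⟨m', hm'⟩ := eq_of_groupLike f m
  have hm0 : Multiplicative.toAdd m' = 0 := eq_zero_of_divisible hn _ fun j => by
    obtain ⟨v, hv, hvw⟩ := h j
    haveI := hv
    obtain ⟨g, rfl⟩ := exists_bialgHom v
    obtain ⟨m'', hm''⟩ := eq_of_groupLike g m
    rw [pow_spMap] at hvw
    have e := AlgHom.congr_fun (spMap_injective hvw) (MonoidAlgebra.single m 1)
    rw [conv_pow_groupLike _ hgl] at e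
    change g (MonoidAlgebra.single m 1) ^ (n ^ j) = f (MonoidAlgebra.single m 1) at e
    rw [hm', hm'', MonoidAlgebra.single_pow, one_pow, MonoidAlgebra.single_left_inj one_ne_zero] at e
    exact ⟨Multiplicative.toAdd m'', congrArg Multiplicative.toAdd e⟩
  show f (MonoidAlgebra.single m 1) = _
  rw [hm', AlgHom.convOne_apply, hgl.counit_eq_one, map_one, MonoidAlgebra.one_def,
    show m' = 1 from Multiplicative.toAdd.injective hm0]

theorem eq_one_of_iso {X Y : Over (Spec (CommRingCat.of K))} [GrpObj X] [GrpObj Y] (a : Grp.mk X ≅ Grp.mk Y) {n : ℕ}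
    (hY : ∀ (w : Y ⟶ Y) [IsMonHom w], (∀ j : ℕ, ∃ v : Y ⟶ Y, IsMonHom v ∧ v ^ (n ^ j) = w) → w = 1)
    (w : X ⟶ X) [IsMonHom w] (h : ∀ j : ℕ, ∃ v : X ⟶ X, IsMonHom v ∧ v ^ (n ^ j) = w) : w = 1 := by
  let b : X ⟶ Y := a.hom.hom.hom
  let b' : Y ⟶ X := a.inv.hom.hom
  haveI : IsMonHom b := a.hom.hom.isMonHom_hom
  haveI : IsMonHom b' := a.inv.hom.isMonHom_hom
  have hbb : b ≫ b' = 𝟙 X := congrArg (fun f : Grp.mk X ⟶ Grp.mk X => f.hom.hom) a.hom_inv_id
  have h1 : b' ≫ w ≫ b = 1 := hY _ fun j => by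
    obtain ⟨v, hv, hvw⟩ := h j
    haveI := hv
    refine ⟨b' ≫ v ≫ b, inferInstance, ?_⟩
    rw [← hvw, Deform.Extension.pow_comp_hom b v, MonObj.comp_pow]
  calc w = b ≫ (b' ≫ w ≫ b) ≫ b' := by simp only [Category.assoc, reassoc_of% hbb, hbb, Category.comp_id]
    _ = 1 := by rw [h1, MonObj.one_comp, MonObj.comp_one]

variable [IsAlgClosed K]

theorem eq_one_torus {T : Over (Spec (CommRingCat.of K))} [GrpObj T] (hT : Red.IsTorus T) {n : ℕ} (hn : 2 ≤ n)
    (w : T ⟶ T) [IsMonHom w] (h : ∀ j : ℕ, ∃ v : T ⟶ T, IsMonHom v ∧ v ^ (n ^ j) = w) : w = 1 := by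
  obtain ⟨hTa, hTl, hTs, hTc⟩ := Deform.TorusBasic.props hT
  haveI := hTa; haveI := hTs; haveI := hTc
  obtain ⟨r, ⟨e⟩⟩ := Deform.Chev.SemiAbExt.split_of_multType (Deform.isMultTypeFT_of_isTorus hT)
  obtain ⟨e'⟩ := nonempty_DS_iso K (Fin r → ℤ)
  exact eq_one_of_iso (e ≪≫ e'.symm) (fun w _ h => eq_one_diag hn w h) w h

/-- On a semi-abelian group an endomorphism divisible by all powers of `n ≥ 2` is trivial. -/
theorem eq_one_semiAb {G : Over (Spec (CommRingCat.of K))} [GrpObj G] [IsCommMonObj G] [Smooth G.hom]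
    [ConnectedSpace G.left] (hG : Deform.Chev.SemiAbExt.IsSemiAb G) {n : ℕ} (hn : 2 ≤ n)
    (w : G ⟶ G) [IsMonHom w] (h : ∀ j : ℕ, ∃ v : G ⟶ G, IsMonHom v ∧ v ^ (n ^ j) = w) : w = 1 := by
  haveI := Deform.GenSub.quasiCompact_of_connected G
  obtain ⟨T, iT, t, A, iA, α, ht, htc, hT, hα, hαs, hαf, hk, hA, hAs, hAc⟩ := hG
  letI := iT; letI := iA
  haveI := ht; haveI := htc; haveI := hα; haveI := hαs; haveI := hαf; haveI := hA; haveI := hAs; haveI := hAc
  obtain ⟨hTa, hTl, hTs, hTc⟩ := Deform.TorusBasic.props hT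
  haveI := hTa; haveI := hTs; haveI := hTc
  haveI : Mono t := (Over.forget _).mono_of_mono_map (inferInstanceAs (Mono t.left))
  haveI := Deform.Chev.quasiCompact_of_grp α
  haveI hepi : Epi α := by
    haveI : Epi α.left := Flat.epi_of_flat_of_surjective _
    exact (Over.forget _).epi_of_epi_map (inferInstanceAs (Epi α.left))
  haveI : IsCommMonObj A := Deform.Chev.SemiAbExt.isCommMonObj_of_quotient α
  haveI : GeometricallyIntegral A.hom := Deform.AVFactor.geometricallyIntegral_smooth A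
  have hres : ∀ (f : G ⟶ G) [IsMonHom f], (∃ f' : T ⟶ T, IsMonHom f' ∧ f' ≫ t = t ≫ f) ∧
      ∃ f'' : A ⟶ A, IsMonHom f'' ∧ α ≫ f'' = f ≫ α := fun f _ => by
    obtain ⟨f', hf'⟩ := Deform.Chev.exists_lift_kernel t α hk (t ≫ f) (by
      rw [Category.assoc]; exact Deform.AVFactor.eq_one_of_affine (t ≫ f ≫ α))
    haveI : IsMonHom (f' ≫ t) := by rw [hf']; infer_instance
    refine ⟨⟨f', WittEndoLib.isMonHom_of_mul _ fun Y x y => ?_, hf'⟩, ?_⟩
    · rw [← cancel_mono t]
      simp only [MonObj.mul_comp, Category.assoc]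
    · exact Deform.Chev.SemiAbExt.exists_desc α t hk (f ≫ α) (Deform.AVFactor.eq_one_of_affine (t ≫ f ≫ α))
  obtain ⟨⟨wT, hwT, hwTt⟩, ⟨wA, hwA, hwAα⟩⟩ := hres w
  haveI := hwT; haveI := hwA
  have hT1 : wT = 1 := eq_one_torus hT hn wT fun j => by
    obtain ⟨v, hv, hvw⟩ := h j
    haveI := hv
    obtain ⟨⟨vT, hvT, hvTt⟩, -⟩ := hres v
    refine ⟨vT, hvT, ?_⟩
    rw [← cancel_mono t, Deform.Extension.pow_comp_hom t vT, hvTt, hwTt, ← MonObj.comp_pow, hvw]
  have hA1 : wA = 1 := eq_one_proper A hn wA fun j => by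
    obtain ⟨v, hv, hvw⟩ := h j
    haveI := hv
    obtain ⟨-, ⟨vA, hvA, hvAα⟩⟩ := hres v
    refine ⟨vA, hvA, ?_⟩
    rw [← cancel_epi α, MonObj.comp_pow, hvAα, hwAα, ← Deform.Extension.pow_comp_hom α v, hvw]
  have hwt : t ≫ w = 1 := by rw [← hwTt, hT1, MonObj.one_comp]
  have hwa : w ≫ α = 1 := by rw [← hwAα, hA1, MonObj.comp_one]
  obtain ⟨φ, hφ, hαφ⟩ := Deform.Chev.SemiAbExt.exists_desc α t hk w hwt
  haveI := hφ
  obtain ⟨ψ, hψ⟩ := Deform.Chev.exists_lift_kernel t α hk φ (by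
    rw [← cancel_epi α, ← Category.assoc, hαφ, hwa, MonObj.comp_one])
  have hΓ : Function.Bijective A.hom.appTop := H23.RigidGamma.bijective_appTop_of_algClosure A.hom
  have hψ1 : φ = 1 := by
    have hc := GrpSchLib.AntiAffine.eq_const_of_isAffine hΓ ψ η[A]
    rw [← hψ, hc, Category.assoc, Category.assoc, hψ, IsMonHom.one_hom, ← Hom.one_def]
  rw [← hαφ, hψ1, MonObj.comp_one]

end

end Groth.Agent.NeronComp.EndSep
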