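import Groth.Agent.NeronComp.NoGaPow
import Groth.Agent.Deform.Chev.PowIsogeny
import Groth.Agent.VarDim.Fibre
import Groth.Agent.VarDim.Top
import Groth.Agent.GrpSchLib.HomFibre
import Groth.Agent.GrpSchLib.HomFinite
import Groth.Agent.S4112
import Groth.Agent.Deform.AVFactor

/-!
# Endomorphisms of smooth connected groups over a field
-/

set_option autoImplicit false
set_option linter.style.haveILetI false
set_option backward.isDefEq.respectTransparency false

universe u

open CategoryTheory CategoryTheory.Limits MonoidalCategory CartesianMonoidalCategory MonObj GrpObj AlgebraicGeometry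

attribute [local instance] CategoryTheory.Hom.monoid CategoryTheory.Hom.group

namespace Groth.Agent.NeronComp.FibreEndo

noncomputable section

theorem surjective_of_finite {k : Type u} [Field k] [IsAlgClosed k] (G : Over (Spec (CommRingCat.of k))) [GrpObj G]
    [Smooth G.hom] [QuasiCompact G.hom] [ConnectedSpace G.left] (u : G ⟶ G) [IsFinite u.left] :
    Surjective u.left := by
  haveI : IsIntegral G.left := NoGa.isIntegral_of_smooth_connected G
  let η₀ := genericPoint G.left
  have hf : VarDim.fdeg u.left η₀ = 0 := by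
    have h1 := VarDim.topologicalKrullDim_fiber u.left (u.left η₀)
    haveI : Finite ↥(u.left.fiber (u.left η₀)) := by
      haveI := (Scheme.Hom.finite_preimage_singleton u.left (u.left η₀)).to_subtype
      exact (u.left.fiberHomeo (u.left η₀)).finite_iff.mpr inferInstance
    haveI : JacobsonSpace (Spec (G.left.residueField (u.left η₀))) :=
      inferInstanceAs (JacobsonSpace (PrimeSpectrum (G.left.residueField (u.left η₀))))
    haveI : JacobsonSpace ↥(u.left.fiber (u.left η₀)) :=
      LocallyOfFiniteType.jacobsonSpace (u.left.fiberToSpecResidueField (u.left η₀))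
    have h2 : topologicalKrullDim ↥(u.left.fiber (u.left η₀)) ≤ 0 :=
      topologicalKrullDim_zero_of_discreteTopology _
    have h3 := (le_iSup (fun x : u.left ⁻¹' {u.left η₀} => ((VarDim.fdeg u.left x.1 : ℕ∞) : WithBot ℕ∞))
      ⟨η₀, rfl⟩).trans (h1.symm.le.trans h2)
    simpa using h3
  have hη : u.left η₀ = η₀ := by
    refine (VarDim.eq_of_specializes_of_deg_le (p := G.hom) (genericPoint_specializes (u.left η₀)) ?_).symm
    rw [VarDim.deg_eq_add u.left G.hom (Over.w u) η₀, hf, add_zero]
  refine ⟨Set.range_eq_univ.mp (Set.eq_univ_of_univ_subset ?_)⟩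
  intro x _
  exact (genericPoint_specializes x).mem_closed u.left.isClosedMap.isClosed_range ⟨η₀, hη⟩

/-- Surjective and quasi-finite endomorphisms of connected groups are the same; they are flat. -/
theorem endo_props {k : Type u} [Field k] (G : Over (Spec (CommRingCat.of k))) [GrpObj G] [Smooth G.hom]
    [ConnectedSpace G.left] (u : G ⟶ G) [IsMonHom u] :
    (Surjective u.left → LocallyQuasiFinite u.left) ∧
      (LocallyQuasiFinite u.left → Flat u.left ∧ Surjective u.left) ∧ (Flat u.left → Surjective u.left) := by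
  haveI := Deform.GenSub.quasiCompact_of_connected G
  haveI := GrpSchLib.AntiAffine.isSeparated_grp G
  haveI := Deform.Chev.quasiCompact_of_grp u
  haveI : LocallyOfFiniteType (u.left ≫ G.hom) := by rw [Over.w u]; infer_instance
  haveI : LocallyOfFiniteType u.left := locallyOfFiniteType_of_comp u.left G.hom
  let K : Type u := AlgebraicClosure k
  let g : Spec (CommRingCat.of K) ⟶ Spec (CommRingCat.of k) := Spec.map (CommRingCat.ofHom (algebraMap k K))
  haveI : ConnectedSpace (Red.bc g G).left := GrpSchLib.AntiAffine.connectedSpace_bc G (algebraMap k K)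
  haveI : Smooth (Red.bc g G).hom := inferInstanceAs (Smooth (pullback.snd G.hom g))
  haveI : QuasiCompact (Red.bc g G).hom := inferInstanceAs (QuasiCompact (pullback.snd G.hom g))
  let v := (Over.pullback g).map u
  haveI : IsMonHom v := inferInstance
  have sq := Deform.Extension.isPullback_map_left g u
  haveI : Surjective g := inferInstanceAs (Surjective (Spec.map _))
  haveI : Surjective (pullback.fst G.hom g) := MorphismProperty.pullback_fst (P := @Surjective) _ _ ‹_›
  have hπ : (@Surjective ⊓ @Flat ⊓ @QuasiCompact : MorphismProperty Scheme.{u}) (pullback.fst G.hom g) :=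
    ⟨⟨inferInstance, inferInstance⟩, inferInstance⟩
  have hfin : Surjective u.left → LocallyQuasiFinite u.left := by
    intro hs
    haveI : Surjective v.left := MorphismProperty.of_isPullback (P := @Surjective) sq.flip hs
    have h := Deform.Chev.PowIsogeny.isFinite_of_surjective (Red.bc g G) v
    haveI := EtFound.fpqc_isFinite.{u}
    haveI : IsFinite u.left := MorphismProperty.of_isPullback_of_descendsAlong (P := @IsFinite) sq hπ h
    infer_instance
  refine ⟨hfin, fun hqf => ?_, fun hfl => ?_⟩
  · haveI : IsSeparated (u.left ≫ G.hom) := by rw [Over.w u]; infer_instance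
    haveI : IsSeparated u.left := IsSeparated.of_comp u.left G.hom
    haveI : IsFinite u.left := GrpSchLib.HomFinite.isFinite u
    haveI : IsFinite v.left := MorphismProperty.of_isPullback (P := @IsFinite) sq.flip ‹_›
    haveI := surjective_of_finite (Red.bc g G) v
    haveI : Surjective (pullback.fst G.hom g ≫ u.left) := by
      rw [← sq.w]
      exact inferInstanceAs (Surjective (v.left ≫ pullback.fst G.hom g))
    haveI : Surjective u.left := Surjective.of_comp (pullback.fst G.hom g) _
    haveI : IsReduced G.left := GrpSchLib.isReduced_of_smooth_field G.hom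
    exact ⟨GrpSchLib.flat_of_surjective_hom u, inferInstance⟩
  · haveI : IsLocallyNoetherian G.left := LocallyOfFiniteType.isLocallyNoetherian G.hom
    haveI : LocallyOfFinitePresentation u.left := inferInstance
    haveI : UniversallyOpen u.left := inferInstance
    have hne : (Set.range u.left).Nonempty := ⟨_, (η[G] : 𝟙_ _ ⟶ G).left (IsLocalRing.closedPoint k), rfl⟩
    have hclopen : IsClopen (Set.range u.left) :=
      ⟨GrpSchLib.HomClosedRange.isClosed_range u, u.left.isOpenMap.isOpen_range⟩
    exact ⟨Set.range_eq_univ.mp (hclopen.eq_univ hne)⟩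

/-- A proper group contains no closed `G_a`. -/
theorem noGa_of_proper {K : Type u} [Field K] [IsAlgClosed K] (H : Over (Spec (CommRingCat.of K))) [GrpObj H]
    [IsProper H.hom] (j : Red.Ga (Spec (CommRingCat.of K)) ⟶ H) (hj : IsMonHom j) (hjc : IsClosedImmersion j.left) :
    False := by
  haveI := hj; haveI := hjc
  obtain ⟨e⟩ := NoGa.ga_iso K
  let b := e.inv.hom.hom
  haveI : IsIso b.left := ((Grp.forget _ ⋙ Over.forget _).mapIso e).isIso_inv
  let j' : GrpSchLib.AffineHopf.sp K (SymmetricAlgebra K K) ⟶ H := b ≫ j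
  haveI : IsClosedImmersion j'.left := inferInstanceAs (IsClosedImmersion (b.left ≫ j.left))
  haveI : IsFinite (GrpSchLib.AffineHopf.sp K (SymmetricAlgebra K K)).hom := by
    rw [IsFinite.iff_isProper_and_isAffineHom]
    haveI : IsAffine (GrpSchLib.AffineHopf.sp K (SymmetricAlgebra K K)).left :=
      inferInstanceAs (IsAffine (Spec (CommRingCat.of (SymmetricAlgebra K K))))
    refine ⟨?_, isAffineHom_of_isAffine _⟩
    rw [← Over.w j']
    infer_instance
  have hfin : (algebraMap K (SymmetricAlgebra K K)).Finite := (IsFinite.SpecMap_iff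
    (f := CommRingCat.ofHom (algebraMap K (SymmetricAlgebra K K)))).mp ‹IsFinite (GrpSchLib.AffineHopf.sp K _).hom›
  haveI : Module.Finite K (SymmetricAlgebra K K) := RingHom.finite_algebraMap.mp hfin
  let f : SymmetricAlgebra K K →ₐ[K] Polynomial K := SymmetricAlgebra.lift (LinearMap.toSpanSingleton K _ Polynomial.X)
  have hX : IsIntegral K (Polynomial.X : Polynomial K) := by
    have h := (IsIntegral.of_finite K (SymmetricAlgebra.ι K K 1)).map f
    rwa [show f (SymmetricAlgebra.ι K K 1) = Polynomial.X by simp [f]] at h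
  exact Polynomial.transcendental_X K hX.isAlgebraic

end

end Groth.Agent.NeronComp.FibreEndo

namespace Groth.Agent.NeronComp.FibreEndo

noncomputable section

variable {S : Scheme.{u}}

/-- Properness of a fibre is detected by any field-valued point over the point. -/
theorem isProper_fibre {X : Scheme.{u}} (f : X ⟶ S) {K : Type u} [Field K] (x : Spec (CommRingCat.of K) ⟶ S)
    (h : IsProper (pullback.snd f x)) :
    IsProper (pullback.snd f (S.fromSpecResidueField (x (IsLocalRing.closedPoint K)))) := by
  obtain ⟨⟨s, g⟩, hxg⟩ := (Scheme.SpecToEquivOfField K S).symm.surjective x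
  replace hxg : Spec.map g ≫ S.fromSpecResidueField s = x := hxg
  have hs : x (IsLocalRing.closedPoint K) = s := by
    rw [← hxg, Scheme.Hom.comp_apply, Scheme.fromSpecResidueField_apply]
  rw [hs]
  subst hxg
  haveI : Surjective (Spec.map g) := inferInstance
  letI : Algebra (S.residueField s) K := g.hom.toAlgebra
  haveI : Flat (Spec.map g) := by
    rw [HasRingHomProperty.Spec_iff (P := @Flat)]
    exact RingHom.flat_algebraMap_iff.mpr inferInstance
  have hπ : (@Surjective ⊓ @Flat ⊓ @QuasiCompact : MorphismProperty Scheme.{u}) (Spec.map g) :=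
    ⟨⟨inferInstance, inferInstance⟩, inferInstance⟩
  haveI := EtFound.fpqc_isProper.{u}
  let m : pullback f (Spec.map g ≫ S.fromSpecResidueField s) ⟶ pullback f (S.fromSpecResidueField s) :=
    pullback.lift (pullback.fst _ _) (pullback.snd _ _ ≫ Spec.map g) (by rw [Category.assoc]; exact pullback.condition)
  have sq : IsPullback m (pullback.snd f (Spec.map g ≫ S.fromSpecResidueField s))
      (pullback.snd f (S.fromSpecResidueField s)) (Spec.map g) :=
    IsPullback.of_right (by
      rw [show m ≫ pullback.fst _ _ = pullback.fst f _ from pullback.lift_fst _ _ _]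
      exact IsPullback.of_hasPullback _ _) (pullback.lift_snd _ _ _) (IsPullback.of_hasPullback _ _)
  exact MorphismProperty.of_isPullback_of_descendsAlong (P := @IsProper) sq.flip hπ h

variable {G : Over S} [GrpObj G] [IsCommMonObj G] [Smooth G.hom] (s : S)
  [ConnectedSpace ↥(Red.bc (S.fromSpecResidueField s) G).left]

theorem fib_pow (n : ℕ) :
    GrpSchLib.HomFibre.fib (𝟙 G ^ n : G ⟶ G) s = (𝟙 (Red.bc (S.fromSpecResidueField s) G) ^ n) :=
  Deform.Extension.pow_bc (S.fromSpecResidueField s) G n

theorem lqf_fib_pow {n : ℕ} (hn : 0 < n)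
    (h : (n : S.residueField s) ≠ 0 ∨ SGA7.FibreUnipotentRankZero s G ∨
      IsProper (Red.bc (S.fromSpecResidueField s) G).hom) :
    LocallyQuasiFinite (GrpSchLib.HomFibre.fib (𝟙 G ^ n : G ⟶ G) s).left := by
  let σ := S.fromSpecResidueField s
  haveI : Smooth (Red.bc σ G).hom := inferInstanceAs (Smooth (pullback.snd G.hom σ))
  haveI : IsCommMonObj (Red.bc σ G) := Deform.Extension.isCommMonObj_of fun T =>
    Deform.Extension.comm_bc σ (fun T => Deform.Extension.mul_comm_of) T
  haveI := Deform.GenSub.quasiCompact_of_connected (Red.bc σ G)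
  rw [fib_pow]
  let π : Spec (CommRingCat.of (AlgebraicClosure (S.residueField s))) ⟶ Spec (S.residueField s) :=
    Spec.map (CommRingCat.ofHom (algebraMap (S.residueField s) (AlgebraicClosure (S.residueField s))))
  rcases h with h | h | h
  · haveI := S4112.result (S.residueField s) (Red.bc σ G) n h
    infer_instance
  · obtain ⟨-, -, hfin⟩ := NoGa.pow_props_of_bc (Red.bc σ G) π (fun j hj hjc => by
      obtain ⟨e⟩ := GrpSchLib.MultTypeBC.bc_bc π σ G
      let b : Red.bc π (Red.bc σ G) ⟶ Red.geomFibre s G := e.hom.hom.hom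
      haveI : IsMonHom b := e.hom.hom.isMonHom_hom
      haveI : IsIso b.left := ((Grp.forget _ ⋙ Over.forget _).mapIso e).isIso_hom
      haveI := hj; haveI := hjc
      exact h (j ≫ b) inferInstance (inferInstanceAs (IsClosedImmersion (j.left ≫ b.left)))) hn
    haveI := hfin
    infer_instance
  · haveI : IsProper (Red.bc π (Red.bc σ G)).hom := MorphismProperty.pullback_snd (P := @IsProper) _ _ h
    obtain ⟨-, -, hfin⟩ := NoGa.pow_props_of_bc (Red.bc σ G) π (noGa_of_proper _) hn
    haveI := hfin
    infer_instance

/-- Multiplication by `n` is not quasi-finite on a fibre of characteristic dividing `n` containing `G_a`. -/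
theorem noGa_of_lqf {n : ℕ} (hn0 : (n : S.residueField s) = 0)
    (h : LocallyQuasiFinite (GrpSchLib.HomFibre.fib (𝟙 G ^ n : G ⟶ G) s).left) :
    SGA7.FibreUnipotentRankZero s G := by
  intro j hj hjc
  let σ := S.fromSpecResidueField s
  let K : Type u := AlgebraicClosure (S.residueField s)
  let π : Spec (CommRingCat.of K) ⟶ Spec (S.residueField s) :=
    Spec.map (CommRingCat.ofHom (algebraMap (S.residueField s) K))
  haveI : Mono j := (Over.forget _).mono_of_mono_map (inferInstanceAs (Mono j.left))
  haveI := hj; haveI := hjc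
  -- the geometric fibre of the power is quasi-finite
  obtain ⟨e⟩ := GrpSchLib.MultTypeBC.bc_bc π σ G
  let b : Red.bc π (Red.bc σ G) ⟶ Red.geomFibre s G := e.hom.hom.hom
  let b' : Red.geomFibre s G ⟶ Red.bc π (Red.bc σ G) := e.inv.hom.hom
  haveI : IsMonHom b := e.hom.hom.isMonHom_hom
  haveI : IsMonHom b' := e.inv.hom.isMonHom_hom
  haveI : IsIso b.left := ((Grp.forget _ ⋙ Over.forget _).mapIso e).isIso_hom
  haveI : IsIso b'.left := ((Grp.forget _ ⋙ Over.forget _).mapIso e).isIso_inv
  let H := Red.bc π (Red.bc σ G)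
  have hp : LocallyQuasiFinite (𝟙 H ^ n : H ⟶ H).left := by
    rw [fib_pow] at h
    rw [← Deform.Extension.pow_bc π (Red.bc σ G) n]
    exact MorphismProperty.of_isPullback (P := @LocallyQuasiFinite)
      (Deform.Extension.isPullback_map_left π (𝟙 (Red.bc σ G) ^ n)).flip h
  haveI := hp
  let i := j ≫ b'
  haveI : IsClosedImmersion i.left := inferInstanceAs (IsClosedImmersion (j.left ≫ b'.left))
  let Ga' := Red.Ga (Spec (CommRingCat.of K))
  have hGa : (𝟙 Ga' ^ n : Ga' ⟶ Ga') = 1 := by
    apply GrpSchLib.GaPts.gaFn_injective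
    have hpow : ∀ (m : ℕ), Red.gaFn (𝟙 Ga' ^ m : Ga' ⟶ Ga') = m • Red.gaFn (𝟙 Ga') := fun m => by
      induction m with
      | zero => rw [pow_zero, zero_nsmul, GrpSchLib.GaPts.gaFn_one]
      | succ m ih => rw [pow_succ, GrpSchLib.GaPts.gaFn_mul, ih, succ_nsmul]
    show Red.gaFn (𝟙 Ga' ^ n : Ga' ⟶ Ga') = Red.gaFn (1 : Ga' ⟶ Ga')
    rw [hpow, GrpSchLib.GaPts.gaFn_one, nsmul_eq_mul]
    have hz : ((n : ℕ) : Γ(Ga'.left, ⊤)) = 0 := by
      have hK : (n : K) = 0 := by
        rw [← map_natCast (algebraMap (S.residueField s) K), hn0, map_zero]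
      let φ := ((Scheme.ΓSpecIso (CommRingCat.of K)).inv ≫ Ga'.hom.appTop).hom
      rw [← map_natCast φ, show ((n : ℕ) : CommRingCat.of K) = 0 from hK, map_zero]
    rw [hz, zero_mul]
  have hconst : i ≫ (𝟙 H ^ n : H ⟶ H) = 1 := by
    rw [MonObj.comp_pow, Category.comp_id, ← Category.id_comp i, ← Deform.Extension.pow_comp_hom i, hGa,
      MonObj.one_comp]
  -- hence the additive group would be quasi-finite over the base
  haveI : LocallyQuasiFinite (i ≫ (𝟙 H ^ n : H ⟶ H)).left := by
    rw [Over.comp_left]; infer_instance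
  rw [hconst, Hom.one_def, Over.comp_left] at this
  haveI : LocallyQuasiFinite ((toUnit Ga').left ≫ η[H].left) := this
  haveI : LocallyQuasiFinite Ga'.hom := LocallyQuasiFinite.of_comp (toUnit Ga').left η[H].left
  obtain ⟨e'⟩ := NoGa.ga_iso K
  let c := e'.inv.hom.hom
  haveI : IsIso c.left := ((Grp.forget _ ⋙ Over.forget _).mapIso e').isIso_inv
  haveI : LocallyQuasiFinite (GrpSchLib.AffineHopf.sp K (SymmetricAlgebra K K)).hom := by
    rw [← Over.w c]; infer_instance
  haveI : LocallyOfFiniteType (GrpSchLib.AffineHopf.sp K (SymmetricAlgebra K K)).hom := by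
    have : LocallyOfFiniteType Ga'.hom := by
      haveI : LocallyOfFiniteType j.left := inferInstance
      haveI : LocallyOfFiniteType (Red.geomFibre s G).hom :=
        inferInstanceAs (LocallyOfFiniteType (pullback.snd G.hom _))
      rw [← Over.w j]
      infer_instance
    rw [← Over.w c]
    infer_instance
  haveI : QuasiCompact (GrpSchLib.AffineHopf.sp K (SymmetricAlgebra K K)).hom :=
    inferInstanceAs (QuasiCompact (Spec.map _))
  haveI hF : IsFinite (GrpSchLib.AffineHopf.sp K (SymmetricAlgebra K K)).hom := IsFinite.of_locallyQuasiFinite _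
  have hfin : (algebraMap K (SymmetricAlgebra K K)).Finite := (IsFinite.SpecMap_iff
    (f := CommRingCat.ofHom (algebraMap K (SymmetricAlgebra K K)))).mp hF
  haveI : Module.Finite K (SymmetricAlgebra K K) := RingHom.finite_algebraMap.mp hfin
  let f : SymmetricAlgebra K K →ₐ[K] Polynomial K := SymmetricAlgebra.lift (LinearMap.toSpanSingleton K _ Polynomial.X)
  have hX : IsIntegral K (Polynomial.X : Polynomial K) := by
    have h := (IsIntegral.of_finite K (SymmetricAlgebra.ι K K 1)).map f
    rwa [show f (SymmetricAlgebra.ι K K 1) = Polynomial.X by simp [f]] at h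
  exact Polynomial.transcendental_X K hX.isAlgebraic

end

end Groth.Agent.NeronComp.FibreEndo
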