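import Groth.Agent.GrpSchLib.FieldAllComp
import Groth.Agent.GrpSchLib.SepPoints
import Groth.Agent.S4112

/-!
# Divisibility of the identity component by an invertible integer
-/

set_option autoImplicit false
set_option linter.style.haveILetI false
universe u

open CategoryTheory AlgebraicGeometry MonoidalCategory CartesianMonoidalCategory MonObj GrpObj
open Limits TopologicalSpace
open scoped CategoryTheory.Obj

namespace Groth.Agent.NeronComp

variable {k : Type u} [Field k] {F : Over (Spec (CommRingCat.of k))}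

/-- The point of a rational point. -/
noncomputable abbrev pnt (a : 𝟙_ (Over (Spec (CommRingCat.of k))) ⟶ F) : F.left := a.left (IsLocalRing.closedPoint k)

theorem pnt_comp {G : Over (Spec (CommRingCat.of k))} (a : 𝟙_ (Over (Spec (CommRingCat.of k))) ⟶ F) (f : F ⟶ G) :
    pnt (a ≫ f) = f.left (pnt a) := Scheme.Hom.comp_apply a.left f.left _

theorem exists_point_preimage [IsSepClosed k] {φ : F ⟶ F} [Etale φ.left]
    (w : 𝟙_ (Over (Spec (CommRingCat.of k))) ⟶ F) {C : Set F.left} (hC : IsOpen C) (hw : pnt w ∈ φ.left '' C) :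
    ∃ a : 𝟙_ (Over (Spec (CommRingCat.of k))) ⟶ F, a ≫ φ = w ∧ pnt a ∈ C := by
  obtain ⟨p, hp, hpw⟩ := hw
  let wl : Spec (CommRingCat.of k) ⟶ F.left := w.left
  obtain ⟨z, hz, -⟩ := Scheme.Pullback.exists_preimage_pullback (f := φ.left) (g := wl) p
    (IsLocalRing.closedPoint k) hpw
  let q := pullback.snd φ.left wl
  haveI : Smooth q := inferInstance
  obtain ⟨s, hs, hsO⟩ := GrpSchLib.exists_point_of_smooth q ((pullback.fst φ.left wl) ⁻¹ᵁ ⟨C, hC⟩) (x := z)
    (by show pullback.fst φ.left wl z ∈ C; rw [hz]; exact hp)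
  have hcond : (s ≫ pullback.fst φ.left wl) ≫ φ.left = wl := by
    rw [Category.assoc, pullback.condition, ← Category.assoc, hs, Category.id_comp]
  refine ⟨Over.homMk (s ≫ pullback.fst φ.left wl) ?_, Over.OverMorphism.ext hcond, ?_⟩
  · rw [← Over.w φ, ← Category.assoc, hcond]
    exact Over.w w
  · show (s ≫ pullback.fst φ.left wl) (IsLocalRing.closedPoint k) ∈ C
    rw [Scheme.Hom.comp_apply]
    exact hsO

/-- The identity component is divisible by an integer invertible in the separably closed base. -/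
theorem exists_pow_eq [IsSepClosed k] [GrpObj F] [IsCommMonObj F] [Smooth F.hom] [QuasiCompact F.hom]
    (n : ℕ) (hn : (n : k) ≠ 0) (c : 𝟙_ (Over (Spec (CommRingCat.of k))) ⟶ F)
    (hc : pnt c ∈ connectedComponent (pnt η[F])) :
    ∃ b : 𝟙_ (Over (Spec (CommRingCat.of k))) ⟶ F, b ^ n = c ∧ pnt b ∈ connectedComponent (pnt η[F]) := by
  haveI : IsLocallyNoetherian F.left := LocallyOfFiniteType.isLocallyNoetherian F.hom
  let φ : F ⟶ F := 𝟙 F ^ n
  haveI : Etale φ.left := S4112.result k F n hn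
  let C : Set F.left := connectedComponent (pnt η[F])
  have hCo : IsOpen C := GrpSchLib.isOpen_connectedComponent _
  obtain ⟨m, hm, hme⟩ := GrpSchLib.exists_isMaxPt (pnt η[F])
  have hCi : IsIrreducible C := by
    show IsIrreducible (connectedComponent _)
    rw [GrpSchLib.connectedComponent_eq_closure hm hme]
    exact isIrreducible_singleton.closure
  have hmap : ∀ f : F ⟶ F, f.left (pnt η[F]) ∈ C → f.left '' C ⊆ C := by
    intro f hf
    refine (isPreconnected_connectedComponent.image _ f.left.continuous.continuousOn).subset_connectedComponent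
      (⟨_, mem_connectedComponent, rfl⟩) |>.trans ?_
    exact (connectedComponent_eq hf).ge
  have hone : η[F] = (1 : 𝟙_ (Over (Spec (CommRingCat.of k))) ⟶ F) := by
    rw [Hom.one_def, show toUnit (𝟙_ (Over (Spec (CommRingCat.of k)))) = 𝟙 _ from toUnit_unique _ _, Category.id_comp]
  have hpow : ∀ a : 𝟙_ (Over (Spec (CommRingCat.of k))) ⟶ F, a ≫ φ = a ^ n := fun a => by
    show a ≫ 𝟙 F ^ n = a ^ n
    rw [MonObj.comp_pow, Category.comp_id]
  have hφC : φ.left '' C ⊆ C := hmap φ (by rw [← pnt_comp, hpow, hone, one_pow, ← hone]; exact mem_connectedComponent)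
  let τ : F ⟶ F := (toUnit F ≫ c) * (𝟙 F)⁻¹
  have hτ : ∀ a : 𝟙_ (Over (Spec (CommRingCat.of k))) ⟶ F, a ≫ τ = c * a⁻¹ := fun a => by
    show a ≫ ((toUnit F ≫ c) * (𝟙 F)⁻¹) = _
    rw [MonObj.comp_mul, GrpObj.comp_inv, Category.comp_id, ← Category.assoc,
      show a ≫ toUnit F = 𝟙 _ from toUnit_unique _ _, Category.id_comp]
  have hττ : τ ≫ τ = 𝟙 F := by
    show τ ≫ ((toUnit F ≫ c) * (𝟙 F)⁻¹) = _
    rw [MonObj.comp_mul, GrpObj.comp_inv, Category.comp_id, ← Category.assoc,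
      show τ ≫ toUnit F = toUnit F from toUnit_unique _ _]
    show (toUnit F ≫ c) * ((toUnit F ≫ c) * (𝟙 F)⁻¹)⁻¹ = _
    rw [_root_.mul_inv_rev, _root_.inv_inv, _root_.mul_comm (𝟙 F), _root_.mul_inv_cancel_left]
  have hττp : ∀ z, τ.left (τ.left z) = z := fun z => by
    have := congrArg (fun f : F ⟶ F => f.left z) hττ
    simpa using this
  have hτC : τ.left '' C ⊆ C := hmap τ (by rw [← pnt_comp, hτ, hone, inv_one, _root_.mul_one]; exact hc)
  let V : Set F.left := φ.left '' C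
  have hVo : IsOpen V := φ.left.isOpenMap _ hCo
  have hV : V.Nonempty := ⟨_, pnt η[F], mem_connectedComponent, rfl⟩
  have h2 : (C ∩ τ.left ⁻¹' V).Nonempty := by
    obtain ⟨v, hv⟩ := hV
    exact ⟨τ.left v, hτC ⟨v, hφC hv, rfl⟩, show τ.left (τ.left v) ∈ V by rw [hττp]; exact hv⟩
  have h1 : (C ∩ V).Nonempty := by
    obtain ⟨v, hv⟩ := hV
    exact ⟨v, hφC hv, hv⟩
  obtain ⟨z, -, hz⟩ := hCi.2 V (τ.left ⁻¹' V) hVo (hVo.preimage τ.left.continuous) h1 h2
  obtain ⟨s, hs, hsO⟩ := GrpSchLib.exists_point_of_smooth F.hom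
    (⟨V ∩ τ.left ⁻¹' V, hVo.inter (hVo.preimage τ.left.continuous)⟩ : F.left.Opens) (x := z) hz
  let w : 𝟙_ (Over (Spec (CommRingCat.of k))) ⟶ F := Over.homMk s hs
  obtain ⟨a, ha, haC⟩ := exists_point_preimage (φ := φ) w hCo hsO.1
  obtain ⟨b, hb, hbC⟩ := exists_point_preimage (φ := φ) (w ≫ τ) hCo (by rw [pnt_comp]; exact hsO.2)
  rw [hpow] at ha hb
  rw [hτ] at hb
  refine ⟨a * b, by rw [mul_pow, ha, hb, mul_comm c, mul_inv_cancel_left], ?_⟩
  let σ : F ⟶ F := 𝟙 F * (toUnit F ≫ b)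
  have hσ : ∀ x : 𝟙_ (Over (Spec (CommRingCat.of k))) ⟶ F, x ≫ σ = x * b := fun x => by
    show x ≫ (𝟙 F * (toUnit F ≫ b)) = _
    rw [MonObj.comp_mul, Category.comp_id, ← Category.assoc,
      show x ≫ toUnit F = 𝟙 _ from toUnit_unique _ _, Category.id_comp]
  rw [← hσ, pnt_comp]
  exact hmap σ (by rw [← pnt_comp, hσ, hone, _root_.one_mul]; exact hbC) ⟨_, haC, rfl⟩

end Groth.Agent.NeronComp
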