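import Groth.Agent.NeronComp.InertiaSpec
import Groth.Agent.DescLib.Reduced
import Groth.Agent.GrpSchLib.RigidHom

/-!
# Good reduction: inertia fixes torsion of invertible order
-/

set_option autoImplicit false
set_option linter.style.haveILetI false
set_option backward.isDefEq.respectTransparency false
set_option backward.isDefEq.respectTransparency.types false
universe u

open CategoryTheory AlgebraicGeometry MonoidalCategory CartesianMonoidalCategory MonObj GrpObj
open Limits TopologicalSpace
open scoped CategoryTheory.Obj

namespace Groth.Agent.NeronComp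

variable {R K : Type u} [CommRing R] [IsDomain R] [Field K] [Algebra R K] [IsFractionRing R K]

/-- The generic fibre of a flat scheme is dense. -/
theorem isDominant_genericFibre (X : Over (Spec (CommRingCat.of R))) [Flat X.hom] :
    IsDominant (pullback.fst X.hom (Spec.map (CommRingCat.ofHom (algebraMap R K)))) := by
  let j := Spec.map (CommRingCat.ofHom (algebraMap R K))
  refine ⟨fun y => ?_⟩
  have h0 : j (IsLocalRing.closedPoint K) = (⊥ : PrimeSpectrum R) := by
    apply PrimeSpectrum.ext
    show Ideal.comap (algebraMap R K) (IsLocalRing.maximalIdeal K) = ⊥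
    rw [IsLocalRing.maximalIdeal_eq_bot, ← RingHom.ker_eq_comap_bot,
      (RingHom.injective_iff_ker_eq_bot _).1 (IsFractionRing.injective R K)]
  obtain ⟨y', hy', hX⟩ := Flat.generalizingMap X.hom (a := y)
    ((PrimeSpectrum.le_iff_specializes (⊥ : PrimeSpectrum R) (X.hom y)).1 bot_le)
  refine closure_mono (show ({y'} : Set X.left) ⊆ Set.range (pullback.fst X.hom j) from
    Set.singleton_subset_iff.2 ?_) (specializes_iff_mem_closure.1 hy')
  rw [Scheme.Pullback.range_fst]
  exact ⟨IsLocalRing.closedPoint K, h0.trans hX.symm⟩

/-- A separated smooth group scheme with commutative generic fibre is commutative. -/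
theorem isCommMonObj_of_genericFibre (N : Over (Spec (CommRingCat.of R))) [GrpObj N] [Smooth N.hom]
    [IsSeparated N.hom] [IsCommMonObj ((SGA7.genFib R K).obj N)] : IsCommMonObj N := by
  let j := Spec.map (CommRingCat.ofHom (algebraMap R K))
  let G := Over.pullback j
  letI : GrpObj (G.obj N) := Functor.grpObjObj
  haveI : IsCommMonObj (G.obj N) := ‹_›
  haveI : Smooth (N ⊗ N).hom := inferInstanceAs (Smooth (pullback.fst N.hom N.hom ≫ N.hom))
  haveI : IsReduced (N ⊗ N).left := DescLib.isReduced_of_smooth_of_isReduced (N ⊗ N).hom
  haveI := isDominant_genericFibre (K := K) (N ⊗ N)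
  have hG : G.map (fst N N * snd N N) = G.map (snd N N * fst N N) := by
    show G.homMonoidHom (fst N N * snd N N) = G.homMonoidHom (snd N N * fst N N)
    rw [map_mul, map_mul]
    exact _root_.mul_comm _ _
  have key : fst N N * snd N N = snd N N * fst N N := by
    refine Over.OverMorphism.ext (ext_of_isDominant_of_isSeparated N.hom ((Over.w _).trans (Over.w _).symm)
      (pullback.fst (N ⊗ N).hom j) ?_)
    have h : ∀ k : N ⊗ N ⟶ N, pullback.fst (N ⊗ N).hom j ≫ k.left = (G.map k).left ≫ pullback.fst N.hom j :=
      fun k => (pullback.lift_fst _ _ _).symm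
    rw [h, h, hG]
  refine isCommMonObj_of_points fun T x y => ?_
  have := congrArg (lift x y ≫ ·) key
  simpa [MonObj.comp_mul] using this

variable [IsLocalRing R] {Ω : Type u} [Field Ω] [Algebra K Ω] [Algebra R Ω] [IsScalarTower R K Ω]

/-- Points of a proper scheme extend to the valuation ring. -/
theorem exists_extend_of_isProper (W : ValuationSubring Ω) (hW : SGA7.LiesOver K R W)
    (N : Over (Spec (CommRingCat.of R))) [IsProper N.hom] (x : SGA7.Pts Ω ((SGA7.genFib R K).obj N)) :
    ∃ g : Spec (CommRingCat.of W) ⟶ N.left,
      Spec.map (CommRingCat.ofHom W.subtype) ≫ g =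
        x.left ≫ pullback.fst N.hom (Spec.map (CommRingCat.ofHom (algebraMap R K))) ∧
      g ≫ N.hom = Spec.map (CommRingCat.ofHom ((algebraMap R Ω).codRestrict W (ValExt.mem_base W hW))) := by
  let j := Spec.map (CommRingCat.ofHom (algebraMap R K))
  let S : ValuativeCommSq N.hom :=
    { R := W
      K := Ω
      i₁ := x.left ≫ pullback.fst N.hom j
      i₂ := Spec.map (CommRingCat.ofHom ((algebraMap R Ω).codRestrict W (ValExt.mem_base W hW)))
      commSq := ⟨by
        rw [Category.assoc, pullback.condition, ← Category.assoc,
          show x.left ≫ pullback.snd N.hom j = Spec.map (CommRingCat.ofHom (algebraMap K Ω)) from Over.w x,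
          ← Spec.map_comp, ← Spec.map_comp]
        congr 1
        ext r
        exact (IsScalarTower.algebraMap_apply R K Ω r).symm⟩ }
  have hV : ValuativeCriterion N.hom := by
    have h : IsProper N.hom := ‹_›
    rw [IsProper.eq_valuativeCriterion] at h
    exact h.1.1.1
  obtain ⟨l⟩ := hV S
  exact ⟨l.default.l, l.default.fac_left, l.default.fac_right⟩

end Groth.Agent.NeronComp
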