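import Groth.Agent.S1365
import Groth.Agent.H23.RigidGamma
import Groth.Agent.DescLib.Reduced
import Groth.Agent.EtNorm.Dedekind
import Groth.Prelude.Def_Neron

/-!
# Group law and connected fibres of a proper Néron model
-/

set_option autoImplicit false
set_option linter.style.haveILetI false
set_option backward.isDefEq.respectTransparency false
set_option backward.isDefEq.respectTransparency.types false
universe u

open CategoryTheory AlgebraicGeometry MonoidalCategory CartesianMonoidalCategory MonObj GrpObj
open Limits
open scoped CategoryTheory.Obj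

namespace Groth.Agent.NeronComp

/-- A smooth scheme with the Néron mapping property inherits the group law of its generic fibre. -/
theorem nonempty_grpObj {S S' : Scheme.{u}} (j : S' ⟶ S) (N : Over S) [Smooth N.hom]
    (hbij : ∀ Y : Over S, Smooth Y.hom → Function.Bijective (fun g : Y ⟶ N => (Over.pullback j).map g))
    [GrpObj ((Over.pullback j).obj N)] : Nonempty (GrpObj N) := by
  let G := Over.pullback j
  have sm : ∀ Y Z : Over S, Smooth Y.hom → Smooth Z.hom → Smooth (Y ⊗ Z).hom := fun Y Z hY hZ => by
    haveI := hY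
    haveI := hZ
    exact inferInstanceAs (Smooth (pullback.fst Y.hom Z.hom ≫ Y.hom))
  have h1 : Smooth (𝟙_ (Over S)).hom := inferInstanceAs (Smooth (𝟙 S))
  have h2 := sm N N ‹_› ‹_›
  obtain ⟨one, hone⟩ := (hbij _ h1).2 1
  obtain ⟨mul, hmul⟩ := (hbij _ h2).2 (G.map (fst N N) * G.map (snd N N))
  obtain ⟨inv, hinv⟩ := (hbij N ‹_›).2 (G.map (𝟙 N))⁻¹
  have hc : ∀ {T : Over S} (f : T ⟶ N ⊗ N), G.map (f ≫ mul) = G.map (f ≫ fst N N) * G.map (f ≫ snd N N) :=
    fun f => by
      have e : G.map mul = G.map (fst N N) * G.map (snd N N) := hmul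
      rw [Functor.map_comp, e, MonObj.comp_mul, Functor.map_comp, Functor.map_comp]
  have hc1 : ∀ {T : Over S} (f : T ⟶ 𝟙_ (Over S)), G.map (f ≫ one) = 1 := fun f => by
    have e : G.map one = 1 := hone
    rw [Functor.map_comp, e, MonObj.comp_one]
  have hci : ∀ {T : Over S} (f : T ⟶ N), G.map (f ≫ inv) = (G.map f)⁻¹ := fun f => by
    have e : G.map inv = (G.map (𝟙 N))⁻¹ := hinv
    rw [Functor.map_comp, e, GrpObj.comp_inv, ← Functor.map_comp, Category.comp_id]
  letI M : MonObj N :=
    { one := one
      mul := mul
      one_mul := (hbij _ (sm _ _ h1 ‹_›)).1 <| by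
        show G.map ((one ▷ N) ≫ mul) = G.map (λ_ N).hom
        rw [hc, whiskerRight_fst, whiskerRight_snd, hc1, _root_.one_mul, leftUnitor_hom]
      mul_one := (hbij _ (sm _ _ ‹_› h1)).1 <| by
        show G.map ((N ◁ one) ≫ mul) = G.map (ρ_ N).hom
        rw [hc, whiskerLeft_fst, whiskerLeft_snd, hc1, _root_.mul_one, rightUnitor_hom]
      mul_assoc := (hbij _ (sm _ _ h2 ‹_›)).1 <| by
        show G.map ((mul ▷ N) ≫ mul) = G.map ((α_ N N N).hom ≫ (N ◁ mul) ≫ mul)
        rw [hc, whiskerRight_fst, whiskerRight_snd, hc, ← Category.assoc, hc, Category.assoc, whiskerLeft_fst,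
          Category.assoc, whiskerLeft_snd, ← Category.assoc, hc, associator_hom_fst, Category.assoc,
          associator_hom_snd_fst, Category.assoc, associator_hom_snd_snd]
        exact _root_.mul_assoc _ _ _ }
  refine ⟨{ inv := inv, left_inv := (hbij N ‹_›).1 ?_, right_inv := (hbij N ‹_›).1 ?_ }⟩
  · show G.map (lift inv (𝟙 N) ≫ mul) = G.map (toUnit N ≫ one)
    rw [hc, hc1, lift_fst, lift_snd, show G.map inv = (G.map (𝟙 N))⁻¹ from hinv, _root_.inv_mul_cancel]
  · show G.map (lift (𝟙 N) inv ≫ mul) = G.map (toUnit N ≫ one)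
    rw [hc, hc1, lift_fst, lift_snd, show G.map inv = (G.map (𝟙 N))⁻¹ from hinv, _root_.mul_inv_cancel]

/-- The fibre over the generic point has constant functions if the generic fibre over the fraction field does. -/
theorem bijective_fibre_genericPoint (R : Type u) [CommRing R] [IsDomain R] {X : Scheme.{u}}
    (f : X ⟶ Spec (CommRingCat.of R)) (h : Function.Bijective (pullback.snd f (Neron.genPt R)).appTop) :
    Function.Bijective (f.fiberToSpecResidueField (genericPoint (Spec (CommRingCat.of R)))).appTop := by
  let S := Spec (CommRingCat.of R)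
  let K := FractionRing R
  obtain ⟨⟨x, g⟩, hxg⟩ := (Scheme.SpecToEquivOfField K S).symm.surjective (Neron.genPt R)
  replace hxg : Spec.map g ≫ S.fromSpecResidueField x = Neron.genPt R := hxg
  have hx : x = genericPoint S := by
    have e : Neron.genPt R (IsLocalRing.closedPoint K) = x := by
      rw [← hxg, Scheme.Hom.comp_apply, Scheme.fromSpecResidueField_apply]
    rw [← e, genericPoint_eq_bot_of_affine]
    apply PrimeSpectrum.ext
    show Ideal.comap (algebraMap R K) (IsLocalRing.maximalIdeal K) = ⊥
    rw [IsLocalRing.maximalIdeal_eq_bot, ← RingHom.ker_eq_comap_bot,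
      (RingHom.injective_iff_ker_eq_bot _).1 (IsFractionRing.injective R K)]
  subst hx
  obtain ⟨φ, hφ⟩ := Spec.map_surjective (S.fromSpecResidueField (genericPoint S))
  have hcomp : φ ≫ g = CommRingCat.ofHom (algebraMap R K) :=
    Spec.map_injective (by rw [Spec.map_comp, hφ]; exact hxg)
  haveI : IsIso g := (ConcreteCategory.isIso_iff_bijective _).2 ⟨g.hom.injective, fun z => by
    obtain ⟨a, b, hb, rfl⟩ := IsFractionRing.div_surjective R z
    refine ⟨φ a / φ b, ?_⟩
    show g.hom (φ a / φ b) = _
    rw [map_div₀]
    exact congrArg₂ (· / ·) congr(($hcomp).hom a) congr(($hcomp).hom b)⟩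
  let m : pullback f (Neron.genPt R) ⟶ f.fiber (genericPoint S) :=
    pullback.lift (pullback.fst _ _) (pullback.snd _ _ ≫ Spec.map g) (by
      rw [Category.assoc, hxg]; exact pullback.condition)
  have sq : IsPullback m (pullback.snd f (Neron.genPt R)) (f.fiberToSpecResidueField (genericPoint S)) (Spec.map g) :=
    IsPullback.of_right (by
      rw [show m ≫ pullback.fst _ _ = pullback.fst f (Neron.genPt R) from pullback.lift_fst _ _ _, hxg]
      exact IsPullback.of_hasPullback _ _) (pullback.lift_snd _ _ _) (IsPullback.of_hasPullback _ _)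
  haveI : IsIso m := sq.isIso_fst_of_isIso
  have hw := congrArg (fun k => Scheme.Hom.appTop k) sq.w
  simp only [Scheme.Hom.comp_appTop] at hw
  have bij : ∀ {A B : CommRingCat.{u}} (u : A ⟶ B) [IsIso u], Function.Bijective u := fun u _ =>
    ConcreteCategory.bijective_of_isIso u
  have e : ((f.fiberToSpecResidueField (genericPoint S)).appTop ≫ m.appTop).hom =
      ((Spec.map g).appTop ≫ (pullback.snd f (Neron.genPt R)).appTop).hom := congrArg (fun k => k.hom) hw
  exact (Function.Bijective.of_comp_iff' (bij m.appTop) _).1 (by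
    show Function.Bijective ((f.fiberToSpecResidueField (genericPoint S)).appTop ≫ m.appTop).hom
    rw [e]
    exact h.comp (bij (Spec.map g).appTop))

/-- A proper smooth scheme over a DVR with geometrically integral generic fibre has geometrically connected fibres. -/
theorem geometricallyConnected_of_genericFibre (R : Type u) [CommRing R] [IsDomain R] [IsDiscreteValuationRing R]
    (N : Over (Spec (CommRingCat.of R))) [IsProper N.hom] [Smooth N.hom]
    {A : Over (Spec (CommRingCat.of (FractionRing R)))} (e : (Neron.genericFibre R).obj N ≅ A)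
    [IsProper A.hom] [hA : GeometricallyIntegral A.hom] : GeometricallyConnected N.hom := by
  haveI : IsReduced N.left := DescLib.isReduced_of_smooth_of_isReduced N.hom
  refine (S1365.result N.hom (EtNorm.isNormalScheme_spec _ fun p hp => ⟨
    IsLocalization.isDomain_localization p.primeCompl_le_nonZeroDivisors,
    isIntegrallyClosed_of_isLocalization _ p.primeCompl p.primeCompl_le_nonZeroDivisors⟩) (fun Z hZ x hx => ?_)
    (bijective_fibre_genericPoint R N.hom ?_)).2
  · obtain ⟨y, hy, hyx⟩ := Flat.generalizingMap N.hom ((genericPoint_spec (Spec (CommRingCat.of R))).specializes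
      (y := N.hom x) trivial)
    have hsub : closure {x} ⊆ closure {y} := closure_minimal (by simpa using hy.mem_closure) isClosed_closure
    have hZy : Z = closure {y} := by
      refine hZ.eq_of_subset isIrreducible_singleton.closure ?_
      rw [← hx.def]; exact hsub
    have : x = y := hx.eq hZy.symm
    rw [this]; exact hyx
  · let k := FractionRing R
    haveI := hA.geometrically_isIntegral _ _ _
      (IsPullback.of_hasPullback A.hom (Spec.map (CommRingCat.ofHom (algebraMap k (AlgebraicClosure k)))))
    have hb := H23.RigidGamma.bijective_appTop_of_algClosure A.hom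
    have hw : e.hom.left ≫ A.hom = pullback.snd N.hom (Neron.genPt R) := Over.w e.hom
    rw [← hw, Scheme.Hom.comp_appTop]
    haveI : IsIso e.hom.left := inferInstanceAs (IsIso ((Over.forget _).map e.hom))
    exact (ConcreteCategory.bijective_of_isIso e.hom.left.appTop).comp hb

/-- Composing with an isomorphism is bijective. -/
theorem postcomp_bijective {C : Type*} [Category C] {Z A B : C} (i : A ≅ B) :
    Function.Bijective (fun f : Z ⟶ A => f ≫ i.hom) :=
  ⟨fun _ _ h => (cancel_mono i.hom).1 h, fun g => ⟨g ≫ i.inv, by simp⟩⟩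

end Groth.Agent.NeronComp
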