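import Groth.Agent.Hensel.Local
import Groth.Prelude.Def_SGA7a
import Mathlib.RingTheory.Valuation.ValuationSubring
import Mathlib.RingTheory.Valuation.LocalSubring

/-!
# Valuation rings of an algebraic extension of the fraction field of a henselian valuation ring
-/

set_option autoImplicit false
set_option linter.style.haveILetI false
universe u

open Polynomial IsLocalRing

namespace Groth.Agent.NeronComp.ValExt

variable {R K Ω : Type u} [CommRing R] [IsDomain R] [IsLocalRing R] [Field K] [Algebra R K] [IsFractionRing R K]
  [Field Ω] [Algebra K Ω] [Algebra R Ω] [IsScalarTower R K Ω]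

theorem mem_base (W : ValuationSubring Ω) (hW : SGA7.LiesOver K R W) (r : R) : algebraMap R Ω r ∈ W := by
  rw [IsScalarTower.algebraMap_apply R K Ω]
  exact hW.1 r

theorem valuation_lt_one_of_mem (W : ValuationSubring Ω) (hW : SGA7.LiesOver K R W) {r : R}
    (hr : r ∈ maximalIdeal R) : W.valuation (algebraMap R Ω r) < 1 := by
  rw [IsScalarTower.algebraMap_apply R K Ω]
  exact hW.2 r hr

theorem valuation_eq_one_of_not_mem (W : ValuationSubring Ω) (hW : SGA7.LiesOver K R W) {r : R}
    (hr : r ∉ maximalIdeal R) : W.valuation (algebraMap R Ω r) = 1 := by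
  obtain ⟨s, hs⟩ := isUnit_iff_exists_inv.1 (notMem_maximalIdeal.1 hr)
  have h : W.valuation (algebraMap R Ω r) * W.valuation (algebraMap R Ω s) = 1 := by
    rw [← map_mul, ← map_mul, hs, map_one, map_one]
  refine le_antisymm ((W.valuation_le_one_iff _).2 (mem_base W hW r)) ?_
  calc 1 = W.valuation (algebraMap R Ω r) * W.valuation (algebraMap R Ω s) := h.symm
    _ ≤ W.valuation (algebraMap R Ω r) := mul_le_of_le_one_right' ((W.valuation_le_one_iff _).2 (mem_base W hW s))

theorem integral_mem (W : ValuationSubring Ω) (hW : SGA7.LiesOver K R W) {x : Ω} (hx : IsIntegral R x) :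
    x ∈ W := by
  let f : R →+* W := (algebraMap R Ω).codRestrict W (mem_base W hW)
  letI : Algebra R W := f.toAlgebra
  haveI : IsScalarTower R W Ω := IsScalarTower.of_algebraMap_eq fun r => rfl
  obtain ⟨w, hw⟩ := IsIntegrallyClosed.isIntegral_iff.1 (hx.tower_top (A := W))
  exact hw ▸ w.2

/-- The prime of the integral closure cut out by a valuation ring. -/
def centre (W : ValuationSubring Ω) (hW : SGA7.LiesOver K R W) : Ideal (integralClosure R Ω) :=
  (maximalIdeal W).comap (((integralClosure R Ω).val.toRingHom).codRestrict W fun x => integral_mem W hW x.2)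

instance (W : ValuationSubring Ω) (hW : SGA7.LiesOver K R W) : (centre W hW).IsPrime := Ideal.IsPrime.comap _

theorem mem_centre (W : ValuationSubring Ω) (hW : SGA7.LiesOver K R W) (b : integralClosure R Ω) :
    b ∈ centre W hW ↔ W.valuation (b : Ω) < 1 :=
  (W.valuation_lt_one_iff (⟨(b : Ω), integral_mem W hW b.2⟩ : W))

theorem not_mem_centre (W : ValuationSubring Ω) (hW : SGA7.LiesOver K R W) {b : integralClosure R Ω}
    (hb : b ∉ centre W hW) : W.valuation (b : Ω) = 1 :=
  le_antisymm ((W.valuation_le_one_iff _).2 (integral_mem W hW b.2)) (not_lt.1 fun h => hb ((mem_centre W hW b).2 h))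

theorem mem_base_of_mem [ValuationRing R] (W : ValuationSubring Ω) (hW : SGA7.LiesOver K R W) {c : K}
    (hc : algebraMap K Ω c ∈ W) : ∃ r : R, algebraMap R K r = c := by
  rcases ValuationRing.isInteger_or_isInteger R c with h | ⟨s, hs⟩
  · exact h
  · rcases eq_or_ne c 0 with rfl | hc0
    · exact ⟨0, map_zero _⟩
    by_cases hsm : s ∈ maximalIdeal R
    · exfalso
      have h1 := hW.2 s hsm
      rw [hs, map_inv₀, map_inv₀] at h1
      have h2 : 0 < W.valuation (algebraMap K Ω c) :=
        zero_lt_iff.2 ((_root_.map_ne_zero _).2 ((_root_.map_ne_zero _).2 hc0))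
      exact absurd ((inv_lt_one₀ h2).1 h1) (not_lt.2 ((W.valuation_le_one_iff _).2 hc))
    · obtain ⟨t, ht⟩ := isUnit_iff_exists_inv.1 (notMem_maximalIdeal.1 hsm)
      refine ⟨t, ?_⟩
      have h1 := congrArg (algebraMap R K) ht
      rw [map_mul, hs, map_one] at h1
      exact ((inv_mul_eq_one₀ hc0).1 h1).symm

/-- Every element of the valuation ring is a fraction of integral elements with denominator off the centre. -/
theorem exists_frac [ValuationRing R] [Algebra.IsAlgebraic K Ω] (W : ValuationSubring Ω) (hW : SGA7.LiesOver K R W)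
    {x : Ω} (hx : x ∈ W) :
    ∃ b s : integralClosure R Ω, s ∉ centre W hW ∧ x * (s : Ω) = (b : Ω) := by
  classical
  suffices key : ∀ (n : ℕ) (c : ℕ → integralClosure R Ω), (∃ i, i ≤ n ∧ c i ∉ centre W hW) →
      ∑ i ∈ Finset.range (n + 1), (c i : Ω) * x ^ i = 0 →
      ∃ b s : integralClosure R Ω, s ∉ centre W hW ∧ x * (s : Ω) = (b : Ω) by
    let p := minpoly K x
    have hp : p.Monic := minpoly.monic (Algebra.IsIntegral.isIntegral x)
    obtain ⟨j, hj, hmax⟩ := Finset.exists_max_image (Finset.range (p.natDegree + 1))
      (fun i => W.valuation (algebraMap K Ω (p.coeff i))) ⟨0, by simp⟩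
    have hj0 : p.coeff j ≠ 0 := by
      intro h
      have := hmax p.natDegree (by simp)
      rw [h, map_zero, map_zero, hp.coeff_natDegree, map_one, map_one] at this
      exact not_lt.2 this zero_lt_one
    have hc : ∀ i, ∃ r : R, i ≤ p.natDegree → algebraMap R K r = p.coeff i / p.coeff j := fun i => by
      by_cases hi : i ≤ p.natDegree
      swap
      · exact ⟨0, fun h => absurd h hi⟩
      obtain ⟨r, hr⟩ := mem_base_of_mem W hW (c := p.coeff i / p.coeff j) (by
        refine (W.valuation_le_one_iff _).1 ?_
        rw [map_div₀, map_div₀]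
        refine div_le_one_of_le₀ (hmax i (by simp; omega)) zero_le')
      exact ⟨r, fun _ => hr⟩
    choose r hr using hc
    refine key p.natDegree (fun i => algebraMap R (integralClosure R Ω) (r i))
      ⟨j, Nat.lt_succ_iff.1 (Finset.mem_range.1 hj), fun h => ?_⟩ ?_
    · have h1 := (mem_centre W hW _).1 h
      rw [show ((algebraMap R (integralClosure R Ω) (r j) : integralClosure R Ω) : Ω) = algebraMap R Ω (r j) from rfl,
        IsScalarTower.algebraMap_apply R K Ω, hr j (Nat.lt_succ_iff.1 (Finset.mem_range.1 hj)), div_self hj0,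
        map_one, map_one] at h1
      exact lt_irrefl _ h1
    · have h0 : ∑ i ∈ Finset.range (p.natDegree + 1), algebraMap K Ω (p.coeff i) * x ^ i = 0 := by
        have h := minpoly.aeval K x
        rw [aeval_eq_sum_range] at h
        simpa only [Algebra.smul_def] using h
      calc _ = ∑ i ∈ Finset.range (p.natDegree + 1),
              (algebraMap K Ω (p.coeff i) * x ^ i) * algebraMap K Ω (p.coeff j)⁻¹ := Finset.sum_congr rfl fun i hi => by
              show algebraMap R Ω (r i) * x ^ i = _
              rw [IsScalarTower.algebraMap_apply R K Ω, hr i (Nat.lt_succ_iff.1 (Finset.mem_range.1 hi)),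
                div_eq_mul_inv, map_mul]
              ring
        _ = 0 := by rw [← Finset.sum_mul, h0, zero_mul]
  intro n
  induction n with
  | zero =>
    rintro c ⟨i, hi, hic⟩ h
    exfalso
    obtain rfl : i = 0 := by omega
    simp at h
    rw [h] at hic
    exact hic (zero_mem _)
  | succ n ih =>
    rintro c ⟨i, hi, hic⟩ h
    -- `a x` is integral for the leading coefficient `a`
    let a : Ω := c (n + 1)
    have hint : IsIntegral R (a * x) := by
      let P : (integralClosure R Ω)[X] := ∑ k ∈ Finset.range (n + 2), C (c k) * Polynomial.X ^ k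
      have hP : aeval x P = 0 := by
        simp only [P, map_sum, map_mul, aeval_C, map_pow, aeval_X]
        exact h
      have hdeg : P.natDegree ≤ n + 1 := by
        refine natDegree_sum_le_of_forall_le _ _ fun k hk => (natDegree_C_mul_X_pow_le _ _).trans ?_
        simp at hk; omega
      have hco : P.coeff (n + 1) = c (n + 1) := by simp [P, finsetSum_coeff, coeff_C_mul_X_pow]
      by_cases ha : c (n + 1) = 0
      · simp only [a, ha, ZeroMemClass.coe_zero, zero_mul]; exact isIntegral_zero
      have hlead : P.leadingCoeff = c (n + 1) := by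
        rw [leadingCoeff, le_antisymm hdeg (le_natDegree_of_ne_zero (by rwa [hco])), hco]
      have h1 := RingHom.isIntegralElem_leadingCoeff_mul (algebraMap (integralClosure R Ω) Ω) P x hP
      rw [hlead] at h1
      haveI : Algebra.IsIntegral R (integralClosure R Ω) := ⟨fun z =>
        (isIntegral_algHom_iff (integralClosure R Ω).val Subtype.val_injective).1 z.2⟩
      exact isIntegral_trans (R := R) (A := integralClosure R Ω) _ h1
    by_cases hb : c (n + 1) ∈ centre W hW
    swap
    · exact ⟨⟨a * x, hint⟩, c (n + 1), hb, mul_comm _ _⟩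
    let c' : ℕ → integralClosure R Ω := fun k => if k = n then c n + ⟨a * x, hint⟩ else c k
    refine ih c' ?_ ?_
    · have hax : (⟨a * x, hint⟩ : integralClosure R Ω) ∈ centre W hW := by
        rw [mem_centre, map_mul]
        calc W.valuation a * W.valuation x ≤ W.valuation a :=
              mul_le_of_le_one_right' ((W.valuation_le_one_iff _).2 hx)
          _ < 1 := (mem_centre W hW _).1 hb
      refine ⟨i, ?_, ?_⟩
      · rcases Nat.lt_or_ge i (n + 1) with h' | h'
        · omega
        · exact absurd ((show i = n + 1 by omega) ▸ hb) hic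
      · by_cases hin : i = n
        · simp only [c', hin, if_pos]
          intro hmem
          exact hic (hin ▸ ((Ideal.add_mem_iff_left _ hax).1 hmem))
        · simp only [c', if_neg hin]; exact hic
    · rw [Finset.sum_range_succ]
      rw [Finset.sum_range_succ, Finset.sum_range_succ] at h
      rw [Finset.sum_congr rfl fun k hk => by
        rw [show c' k = c k from if_neg (by simp at hk; omega)]]
      simp only [c', if_pos]
      rw [← h]
      push_cast
      ring

/-- The integral closure of a henselian local ring in a field is local. -/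
theorem isLocalRing_integralClosure' (R : Type u) [CommRing R] [HenselianLocalRing R] (Ω : Type u) [Field Ω]
    [Algebra R Ω] : IsLocalRing (integralClosure R Ω) := by
  let B := integralClosure R Ω
  haveI hBint : Algebra.IsIntegral R B := ⟨fun z =>
    (isIntegral_algHom_iff B.val Subtype.val_injective).1 z.2⟩
  obtain ⟨M, hM⟩ := Ideal.exists_maximal B
  refine IsLocalRing.of_unique_max_ideal ⟨M, hM, fun M' hM' => ?_⟩
  by_contra hne
  obtain ⟨b, hb, hb'⟩ := SetLike.not_le_iff_exists.1 fun h : M' ≤ M => hne (hM'.eq_of_le hM.ne_top h)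
  let S := Algebra.adjoin R ({b} : Set B)
  haveI : Module.Finite R S := Module.Finite.iff_fg.2 (Algebra.IsIntegral.isIntegral b).fg_adjoin_singleton
  obtain ⟨_, e, he, hE⟩ := Hensel.exists_idempotents_of_henselian R S
  haveI : Algebra.IsIntegral R S := Algebra.IsIntegral.of_finite R S
  have hmax : ∀ N : Ideal B, N.IsMaximal → (N.comap S.val.toRingHom).IsMaximal := fun N hN => by
    haveI := hN
    haveI : (N.comap S.val.toRingHom).IsPrime := Ideal.IsPrime.comap _
    refine Ideal.isMaximal_of_isIntegral_of_isMaximal_comap (R := R) _ ?_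
    rw [Ideal.comap_comap, show S.val.toRingHom.comp (algebraMap R S) = algebraMap R B from rfl]
    exact Ideal.isMaximal_comap_of_isIntegral_of_isMaximal N
  let s : MaximalSpectrum S := ⟨_, hmax M hM⟩
  let s' : MaximalSpectrum S := ⟨_, hmax M' hM'⟩
  have hss : s' ≠ s := fun h => hb' (show (⟨b, Algebra.subset_adjoin rfl⟩ : S) ∈ s.asIdeal from
    h ▸ (show (⟨b, Algebra.subset_adjoin rfl⟩ : S) ∈ s'.asIdeal from hb))
  obtain ⟨h1, h2⟩ := hE s
  rcases IsIdempotentElem.iff_eq_zero_or_one.mp (he.idem s) with h | h
  · exact h1 (h ▸ Ideal.zero_mem _)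
  · exact (hmax M' hM').ne_top ((Ideal.eq_top_iff_one _).mpr (h ▸ h2 s' hss))

/-- The valuation ring over a henselian valuation ring is unique. -/
theorem unique {R : Type u} [CommRing R] [IsDomain R] [HenselianLocalRing R] [ValuationRing R] [Algebra R K]
    [IsFractionRing R K] [Algebra R Ω] [IsScalarTower R K Ω] [Algebra.IsAlgebraic K Ω]
    (V W : ValuationSubring Ω) (hV : SGA7.LiesOver K R V) (hW : SGA7.LiesOver K R W) : V = W := by
  haveI := isLocalRing_integralClosure' R Ω
  haveI : Algebra.IsIntegral R (integralClosure R Ω) := ⟨fun z =>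
    (isIntegral_algHom_iff (integralClosure R Ω).val Subtype.val_injective).1 z.2⟩
  have hc : ∀ (U : ValuationSubring Ω) (hU : SGA7.LiesOver K R U),
      centre U hU = maximalIdeal (integralClosure R Ω) := by
    intro U hU
    refine IsLocalRing.eq_maximalIdeal (Ideal.isMaximal_of_isIntegral_of_isMaximal_comap (R := R) _ ?_)
    rw [show (centre U hU).comap (algebraMap R (integralClosure R Ω)) = maximalIdeal R from ?_]
    · infer_instance
    ext r
    rw [Ideal.mem_comap, mem_centre]
    constructor
    · intro h
      by_contra hr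
      rw [show ((algebraMap R (integralClosure R Ω) r : integralClosure R Ω) : Ω) = algebraMap R Ω r from rfl,
        valuation_eq_one_of_not_mem U hU hr] at h
      exact lt_irrefl _ h
    · exact fun h => valuation_lt_one_of_mem U hU h
  have hle : ∀ (U U' : ValuationSubring Ω), SGA7.LiesOver K R U → SGA7.LiesOver K R U' → U ≤ U' := by
    intro U U' hU hU' x hx
    obtain ⟨b, s, hs, hxs⟩ := exists_frac U hU hx
    have hs' : s ∉ centre U' hU' := by rw [hc] at hs ⊢; exact hs
    have hv := not_mem_centre U' hU' hs'
    refine (U'.valuation_le_one_iff _).1 ?_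
    have := congrArg U'.valuation hxs
    rw [map_mul, hv, mul_one] at this
    rw [this]
    exact (U'.valuation_le_one_iff _).2 (integral_mem U' hU' b.2)
  exact le_antisymm (hle V W hV hW) (hle W V hW hV)

end Groth.Agent.NeronComp.ValExt
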