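import Groth.Agent.H9PiOne.InertiaInd
import Groth.Agent.NeronComp.ValExt
import Groth.Prelude.Def_SGA7IX
import Mathlib.FieldTheory.IsSepClosed
import Mathlib.AlgebraicGeometry.Morphisms.Smooth

/-!
# Points fixed by inertia specialise to the closed fibre of a Néron model
-/

set_option autoImplicit false
set_option linter.style.haveILetI false
set_option backward.isDefEq.respectTransparency false
set_option backward.isDefEq.respectTransparency.types false
universe u

open CategoryTheory AlgebraicGeometry Limits TensorProduct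

namespace Groth.Agent.NeronComp

open H9PiOne

variable {R K Ω : Type u} [CommRing R] [IsDomain R] [IsLocalRing R] [ValuationRing R] [Field K]
  [Algebra R K] [IsFractionRing R K] [Field Ω] [Algebra K Ω] [Algebra R Ω] [IsScalarTower R K Ω]

/-- Automorphisms trivial on integral elements modulo the centre. -/
noncomputable def inertiaAt (q : Ideal (integralClosure R Ω)) : Subgroup (Ω ≃ₐ[K] Ω) where
  carrier := {σ | ∀ b : integralClosure R Ω, ∃ c ∈ q, (c : Ω) = σ b - b}
  one_mem' b := ⟨0, q.zero_mem, by simp⟩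
  mul_mem' {σ τ} hσ hτ b := by
    obtain ⟨c, hc, hc'⟩ := hσ ⟨τ b, IsIntegral.map (τ.toAlgHom.restrictScalars R) b.2⟩
    obtain ⟨d, hd, hd'⟩ := hτ b
    refine ⟨c + d, q.add_mem hc hd, ?_⟩
    push_cast
    rw [hc', hd']
    show σ (τ b) - τ b + (τ b - b) = σ (τ b) - b
    ring
  inv_mem' {σ} hσ b := by
    obtain ⟨c, hc, hc'⟩ := hσ ⟨σ.symm b, IsIntegral.map (σ.symm.toAlgHom.restrictScalars R) b.2⟩
    refine ⟨-c, q.neg_mem hc, ?_⟩
    push_cast
    rw [hc']
    show -(σ (σ.symm b) - σ.symm b) = σ.symm b - b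
    rw [AlgEquiv.apply_symm_apply]
    ring

theorem isInertia_of_mem [Algebra.IsAlgebraic K Ω] (W : ValuationSubring Ω) (hW : SGA7.LiesOver K R W)
    {σ : Ω ≃ₐ[K] Ω} (hσ : σ ∈ inertiaAt (ValExt.centre W hW)) : SGA7.IsInertia W σ := by
  intro x hx
  obtain ⟨b, s, hs, hxs⟩ := ValExt.exists_frac W hW hx
  have hd : ∀ c : integralClosure R Ω, W.valuation (σ c - c) < 1 := fun c => by
    obtain ⟨d, hd, hd'⟩ := hσ c
    rw [← hd']
    exact (ValExt.mem_centre W hW d).1 hd
  have hσs : W.valuation (σ s) = 1 := by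
    have h := Valuation.map_eq_of_sub_lt W.valuation (show W.valuation (σ s - s) < W.valuation (s : Ω) by
      rw [ValExt.not_mem_centre W hW hs]; exact hd s)
    rw [h, ValExt.not_mem_centre W hW hs]
  have hσx : σ x * σ s = σ b := by rw [← map_mul, hxs]
  have hxW : W.valuation x ≤ 1 := (W.valuation_le_one_iff _).2 hx
  refine ⟨(W.valuation_le_one_iff _).1 ?_, ?_⟩
  · have h := congrArg W.valuation hσx
    rw [map_mul, hσs, mul_one] at h
    rw [h]
    exact (W.valuation_le_one_iff _).2 (ValExt.integral_mem W hW (IsIntegral.map (σ.toAlgHom.restrictScalars R) b.2))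
  · have h : (σ x - x) * σ s = (σ b - b) + x * ((s : Ω) - σ s) := by linear_combination hσx - hxs
    have h' := congrArg W.valuation h
    rw [map_mul, hσs, mul_one] at h'
    rw [h']
    refine Valuation.map_add_lt _ (hd b) ?_
    rw [map_mul, Valuation.map_sub_swap]
    exact mul_lt_one_of_nonneg_of_lt_one_right hxW zero_le' (hd s)

/-- Finitely many elements fixed by inertia live on an étale algebra inside the valuation ring. -/
theorem exists_etale_sub [IsGalois K Ω] [IsIntegrallyClosed R] (W : ValuationSubring Ω)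
    (hW : SGA7.LiesOver K R W) {J : Type u} [Fintype J] (y : J → Ω)
    (hy : ∀ σ ∈ inertiaAt (K := K) (ValExt.centre W hW), ∀ p, σ (y p) = y p) :
    ∃ (C : Type u) (_ : CommRing C) (_ : Algebra R C) (_ : Algebra.Etale R C) (ι₀ : C →ₐ[R] Ω),
      Function.Injective ι₀ ∧ (∀ z, ι₀ z ∈ W) ∧ ∀ p, ∃ r : R, r ≠ 0 ∧ r • y p ∈ Set.range ι₀ := by
  classical
  let q := ValExt.centre W hW
  let I : Subgroup (Ω ≃ₐ[K] Ω) := inertiaAt q
  have hI : ∀ σ : Ω ≃ₐ[K] Ω, σ ∈ I ↔ ∀ b : integralClosure R Ω, ∃ c ∈ q, (c : Ω) = σ b - b := fun σ => Iff.rfl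
  choose lev hlev using fun p : J => InertiaInd.exists_level q I hI (y p) (fun σ hσ => hy σ hσ p)
  let E' : FiniteGaloisIntermediateField K Ω := Finset.univ.sup lev
  let E := E'.toIntermediateField
  let R' := integralClosure R E
  let qE : Ideal R' := q.comap (InertiaInd.toBig E)
  haveI : qE.IsPrime := Ideal.IsPrime.comap _
  let T := FixedPoints.subring R' (qE.inertia (E ≃ₐ[K] E))
  obtain ⟨g, hg, hget⟩ := Groth.Agent.InertiaEtale.main (G := E ≃ₐ[K] E) qE
  let C := Localization.Away g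
  let κ := (algebraMap R R').codRestrict (FixedPoints.subring R' (E ≃ₐ[K] E)) fun a g => smul_algebraMap g a
  letI : Algebra R C := ((algebraMap (FixedPoints.subring R' (E ≃ₐ[K] E)) C).comp κ).toAlgebra
  haveI : Algebra.Etale R C := RingHom.etale_algebraMap.1 (RingHom.Etale.stableUnderComposition _ _
    (RingHom.Etale.of_bijective (InertiaInd.bijective_toFixed E)) (RingHom.etale_algebraMap.2 hget))
  -- the embedding of `C` into the valuation ring
  let toΩ : T →+* Ω := (integralClosure R Ω).val.toRingHom.comp ((InertiaInd.toBig (A := R) E).toRingHom.comp T.subtype)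
  let toW : T →+* W := toΩ.codRestrict W fun t => ValExt.integral_mem W hW (InertiaInd.toBig E (t : R')).2
  have hgv : W.valuation (toΩ g) = 1 := ValExt.not_mem_centre W hW hg
  have hgu : IsUnit (toW g) := (W.valuation_eq_one_iff _).2 hgv
  let toWC : C →+* W := IsLocalization.Away.lift g hgu
  have htoWC : ∀ t, (toWC (algebraMap T C t) : Ω) = toΩ t := fun t =>
    congrArg Subtype.val (IsLocalization.Away.lift_eq g hgu t)
  have hCalg : ∀ r, (toWC (algebraMap R C r) : Ω) = algebraMap R Ω r := fun r => by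
    show (toWC (algebraMap (FixedPoints.subring R' (E ≃ₐ[K] E)) C (κ r)) : Ω) = _
    rw [IsScalarTower.algebraMap_apply _ T C, htoWC]
    rfl
  let ι₀ : C →ₐ[R] Ω := { W.subtype.comp toWC with commutes' := hCalg }
  have htoΩ : Function.Injective toΩ := fun a b h => Subtype.ext (Subtype.ext (Subtype.ext h))
  haveI : IsDomain T := htoΩ.isDomain
  have hg0 : g ≠ 0 := fun h => hg (h ▸ zero_mem _)
  have hTC : Function.Injective (algebraMap T C) := IsLocalization.injective C
    (Submonoid.powers_le.2 (mem_nonZeroDivisors_of_ne_zero hg0))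
  have hι : Function.Injective ι₀ := by
    refine (injective_iff_map_eq_zero ι₀).2 fun z hz => ?_
    obtain ⟨⟨a, s⟩, hs⟩ := IsLocalization.surj (Submonoid.powers g) z
    have h := congrArg ι₀ hs
    rw [map_mul, hz, zero_mul] at h
    have ha : a = 0 := htoΩ (by rw [map_zero]; exact (htoWC a).symm.trans h.symm)
    rw [ha, map_zero] at hs
    exact (IsLocalization.map_units C s).mul_left_eq_zero.1 hs
  refine ⟨C, inferInstance, inferInstance, inferInstance, ι₀, hι, fun z => (toWC z).2, fun p => ?_⟩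
  obtain ⟨hpE, hpfix⟩ := hlev p E' (Finset.le_sup (Finset.mem_univ p))
  obtain ⟨r, hr, hint⟩ : ∃ r : R, r ≠ 0 ∧ IsIntegral R (r • y p) := by
    have halg : IsAlgebraic R (y p) :=
      (IsFractionRing.isAlgebraic_iff R K Ω).2 (Algebra.IsAlgebraic.isAlgebraic _)
    obtain ⟨r, hr, h⟩ := halg.exists_integral_multiple
    exact ⟨r, hr, h⟩
  have hbE : r • y p ∈ E := by
    rw [Algebra.smul_def, IsScalarTower.algebraMap_apply R K Ω]
    exact E.mul_mem (E.algebraMap_mem _) hpE
  let b : R' := InertiaInd.ofMem E ⟨r • y p, hint⟩ hbE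
  have hbT : b ∈ T := fun τ => by
    obtain ⟨σ, hσ⟩ := AlgEquiv.restrictNormalHom_surjective (F := K) (K₁ := E) Ω τ.1
    have hτ : σ.restrictNormal E ∈ qE.inertia (E ≃ₐ[K] E) := by
      have := τ.2
      rw [← hσ] at this
      exact this
    refine Subtype.ext (Subtype.ext ?_)
    change ((τ.1 (⟨r • y p, hbE⟩ : E) : E) : Ω) = r • y p
    rw [← hσ]
    refine (AlgEquiv.restrictNormal_commutes σ E ⟨r • y p, hbE⟩).trans ?_
    show σ (r • y p) = _
    rw [Algebra.smul_def, map_mul, hpfix σ ((InertiaInd.mem_inertia_iff q E σ).1 hτ),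
      IsScalarTower.algebraMap_apply R K Ω, AlgEquiv.commutes]
  exact ⟨r, hr, algebraMap T C ⟨b, hbT⟩, htoWC _⟩

/-- An algebra embedded in a field stays embedded after tensoring with the fraction field. -/
theorem lift_tensor_injective {C : Type u} [CommRing C] [Algebra R C] (ι₀ : C →ₐ[R] Ω)
    (hι : Function.Injective ι₀) :
    Function.Injective (Algebra.TensorProduct.lift ι₀ (IsScalarTower.toAlgHom R K Ω) fun _ _ => mul_comm _ _) := by
  have hden : ∀ z : C ⊗[R] K, ∃ (a : C) (r : R), r ≠ 0 ∧ r • z = a ⊗ₜ[R] (1 : K) := by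
    intro z
    induction z using TensorProduct.induction_on with
    | zero => exact ⟨0, 1, one_ne_zero, by simp⟩
    | tmul a k =>
      obtain ⟨n, d, hd, rfl⟩ := IsFractionRing.div_surjective R k
      refine ⟨n • a, d, nonZeroDivisors.ne_zero hd, ?_⟩
      rw [← TensorProduct.tmul_smul, Algebra.smul_def, mul_div_cancel₀ _
        ((map_ne_zero_iff _ (IsFractionRing.injective R K)).2 (nonZeroDivisors.ne_zero hd)),
        TensorProduct.smul_tmul, Algebra.smul_def, mul_one]
    | add z₁ z₂ h₁ h₂ =>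
      obtain ⟨a₁, r₁, hr₁, h₁⟩ := h₁
      obtain ⟨a₂, r₂, hr₂, h₂⟩ := h₂
      refine ⟨r₂ • a₁ + r₁ • a₂, r₁ * r₂, mul_ne_zero hr₁ hr₂, ?_⟩
      calc (r₁ * r₂) • (z₁ + z₂) = r₂ • (r₁ • z₁) + r₁ • (r₂ • z₂) := by module
        _ = r₂ • (a₁ ⊗ₜ[R] (1 : K)) + r₁ • (a₂ ⊗ₜ[R] (1 : K)) := by rw [h₁, h₂]
        _ = _ := by rw [TensorProduct.add_tmul, TensorProduct.smul_tmul', TensorProduct.smul_tmul']
  let χ := Algebra.TensorProduct.lift ι₀ (IsScalarTower.toAlgHom R K Ω) fun _ _ => mul_comm _ _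
  show Function.Injective χ
  refine (injective_iff_map_eq_zero χ).2 fun z hz => ?_
  obtain ⟨a, r, hr, hz'⟩ := hden z
  have h := congrArg χ hz'
  rw [map_smul, hz, smul_zero, Algebra.TensorProduct.lift_tmul, map_one, mul_one] at h
  rw [(injective_iff_map_eq_zero ι₀).1 hι a h.symm, TensorProduct.zero_tmul] at hz'
  have hu : IsUnit (algebraMap R (C ⊗[R] K) r) := by
    rw [← (Algebra.TensorProduct.includeRight (R := R) (A := C) (B := K)).commutes r]
    exact (IsUnit.mk0 _ ((map_ne_zero_iff _ (IsFractionRing.injective R K)).2 hr)).map _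
  rw [Algebra.smul_def] at hz'
  exact hu.mul_right_eq_zero.1 hz'

set_option maxHeartbeats 1600000 in
/-- An `Ω`-point fixed by inertia specialises to the closed fibre. -/
theorem exists_specializes [IsGalois K Ω] [IsIntegrallyClosed R] (W : ValuationSubring Ω)
    (hW : SGA7.LiesOver K R W) (N : Over (Spec (CommRingCat.of R))) [LocallyOfFiniteType N.hom]
    (hN : ∀ Y : Over (Spec (CommRingCat.of R)), Smooth Y.hom →
      Function.Bijective (fun g : Y ⟶ N => (SGA7.genFib R K).map g))
    (x : SGA7.Pts Ω ((SGA7.genFib R K).obj N))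
    (hfix : ∀ σ : Ω ≃ₐ[K] Ω, SGA7.IsInertia W σ → SGA7.galAct σ x = x) :
    ∃ z ∈ SGA7.specialFibreSet R N,
      (x.left ≫ pullback.fst N.hom (Spec.map (CommRingCat.ofHom (algebraMap R K)))).base
        (IsLocalRing.closedPoint Ω) ⤳ z := by
  classical
  let j := Spec.map (CommRingCat.ofHom (algebraMap R K))
  let G := SGA7.genFib R K
  let X := G.obj N
  haveI : LocallyOfFiniteType X.hom := inferInstanceAs (LocallyOfFiniteType (pullback.snd N.hom j))
  -- an affine open around the point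
  let xl : Spec (CommRingCat.of Ω) ⟶ X.left := x.left
  obtain ⟨V, hV, hpV, -⟩ :=
    exists_isAffineOpen_mem_and_subset (show xl (IsLocalRing.closedPoint Ω) ∈ (⊤ : X.left.Opens) from trivial)
  obtain ⟨φ, hφ⟩ := Spec.map_surjective (IsOpenImmersion.lift hV.fromSpec xl (by
    rintro _ ⟨t, rfl⟩
    rw [hV.range_fromSpec, show t = IsLocalRing.closedPoint Ω from @Subsingleton.elim (PrimeSpectrum Ω) inferInstance _ _]
    exact hpV))
  have hφx : Spec.map φ ≫ hV.fromSpec = xl := by rw [hφ]; exact IsOpenImmersion.lift_fac _ _ _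
  obtain ⟨c, hc⟩ := Spec.map_surjective (hV.fromSpec ≫ X.hom)
  have hcΩ : c ≫ φ = CommRingCat.ofHom (algebraMap K Ω) := Spec.map_injective (by
    rw [Spec.map_comp, hc, ← Category.assoc, hφx]; exact Over.w x)
  letI : Algebra K Γ(X.left, V) := c.hom.toAlgebra
  haveI : Algebra.FiniteType K Γ(X.left, V) := by
    haveI : LocallyOfFiniteType (Spec.map c) := by rw [hc]; infer_instance
    exact (HasRingHomProperty.Spec_iff (P := @LocallyOfFiniteType)).1 ‹_›
  obtain ⟨gens, hgens⟩ := Algebra.FiniteType.out (R := K) (A := Γ(X.left, V))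
  have hinv : ∀ σ ∈ inertiaAt (K := K) (ValExt.centre W hW), ∀ t, σ (φ.hom t) = φ.hom t := by
    intro σ hσ t
    have h := congrArg CommaMorphism.left (hfix σ (isInertia_of_mem W hW hσ))
    have h' : Spec.map (CommRingCat.ofHom (σ : Ω →+* Ω)) ≫ xl = xl := h
    rw [← hφx, ← Category.assoc, ← Spec.map_comp, cancel_mono] at h'
    exact congr(($(Spec.map_injective h')).hom t)
  obtain ⟨C, _, _, _, ι₀, hι, hιW, hys⟩ :=
    exists_etale_sub W hW (J := gens) (fun p => φ.hom p) fun σ hσ p => hinv σ hσ p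
  let toWC : C →+* W := ι₀.toRingHom.codRestrict W hιW
  have hCalg : ∀ r, (toWC (algebraMap R C r) : Ω) = algebraMap R Ω r := fun r => ι₀.commutes r
  let χ : C ⊗[R] K →ₐ[R] Ω :=
    Algebra.TensorProduct.lift ι₀ (IsScalarTower.toAlgHom R K Ω) fun _ _ => mul_comm _ _
  have hχ : Function.Injective χ := lift_tensor_injective ι₀ hι
  have hgen : ∀ p : gens, φ.hom p ∈ Set.range χ := by
    intro p
    obtain ⟨r, hr, a, ha⟩ := hys p
    refine ⟨a ⊗ₜ (algebraMap R K r)⁻¹, ?_⟩
    have hr' : algebraMap R Ω r ≠ 0 := by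
      rw [IsScalarTower.algebraMap_apply R K Ω]
      exact (_root_.map_ne_zero _).2 ((map_ne_zero_iff _ (IsFractionRing.injective R K)).2 hr)
    rw [Algebra.TensorProduct.lift_tmul, ha, IsScalarTower.toAlgHom_apply, map_inv₀,
      ← IsScalarTower.algebraMap_apply R K Ω, Algebra.smul_def, mul_comm (algebraMap R Ω r), mul_assoc,
      mul_inv_cancel₀ hr', mul_one]
  have hrange : ∀ t, φ.hom t ∈ χ.toRingHom.range := by
    intro t
    have ht : t ∈ Algebra.adjoin K (gens : Set Γ(X.left, V)) := hgens ▸ Algebra.mem_top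
    induction ht using Algebra.adjoin_induction with
    | mem y hy => exact hgen ⟨y, hy⟩
    | algebraMap k =>
      refine ⟨(1 : C) ⊗ₜ k, ?_⟩
      show χ ((1 : C) ⊗ₜ k) = φ.hom (c.hom k)
      rw [Algebra.TensorProduct.lift_tmul, map_one, one_mul]
      exact (congr(($hcΩ).hom k)).symm
    | add y z _ _ h₁ h₂ => rw [map_add]; exact add_mem h₁ h₂
    | mul y z _ _ h₁ h₂ => rw [map_mul]; exact mul_mem h₁ h₂
  let eχ : C ⊗[R] K ≃+* χ.toRingHom.range := RingEquiv.ofBijective χ.toRingHom.rangeRestrict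
    ⟨fun a b h => hχ (congrArg Subtype.val h), χ.toRingHom.rangeRestrict_surjective⟩
  let ψ : Γ(X.left, V) ⟶ CommRingCat.of (C ⊗[R] K) :=
    CommRingCat.ofHom (eχ.symm.toRingHom.comp (φ.hom.codRestrict _ hrange))
  have hψ : ∀ t, χ (ψ.hom t) = φ.hom t := fun t => congrArg Subtype.val (eχ.apply_symm_apply ⟨φ.hom t, hrange t⟩)
  have hψc : c ≫ ψ = CommRingCat.ofHom (Algebra.TensorProduct.includeRight (R := R) (A := C) (B := K)).toRingHom := by
    ext k
    apply hχ
    show χ (ψ.hom (c.hom k)) = χ ((1 : C) ⊗ₜ k)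
    rw [hψ, Algebra.TensorProduct.lift_tmul, map_one, one_mul]
    exact congr(($hcΩ).hom k)
  let Y : Over (Spec (CommRingCat.of R)) := Over.mk (Spec.map (CommRingCat.ofHom (algebraMap R C)))
  haveI : Smooth Y.hom := by
    show Smooth (Spec.map (CommRingCat.ofHom (algebraMap R C)))
    rw [HasRingHomProperty.Spec_iff (P := @Smooth), CommRingCat.hom_ofHom, RingHom.smooth_algebraMap]
    infer_instance
  let e := pullbackSpecIso R C K
  let h : G.obj Y ⟶ X := Over.homMk (e.hom ≫ Spec.map ψ ≫ hV.fromSpec) (by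
    show (e.hom ≫ Spec.map ψ ≫ hV.fromSpec) ≫ X.hom = _
    rw [Category.assoc, Category.assoc, ← hc, ← Spec.map_comp, hψc]
    exact pullbackSpecIso_hom_snd R C K)
  obtain ⟨g₀, hg₀⟩ := (hN Y ‹_›).2 h
  let pW : Spec (CommRingCat.of W) ⟶ Y.left := Spec.map (CommRingCat.ofHom toWC)
  let iW : Spec (CommRingCat.of Ω) ⟶ Spec (CommRingCat.of W) := Spec.map (CommRingCat.ofHom W.subtype)
  have hkey : iW ≫ pW ≫ g₀.left = xl ≫ pullback.fst N.hom j := by
    have h1 : h.left ≫ pullback.fst N.hom j = pullback.fst Y.hom j ≫ g₀.left := by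
      rw [← hg₀]
      exact pullback.lift_fst _ _ _
    have h2 : Spec.map (CommRingCat.ofHom χ.toRingHom) ≫ Spec.map ψ ≫ hV.fromSpec = xl := by
      rw [← Category.assoc, ← Spec.map_comp, show ψ ≫ CommRingCat.ofHom χ.toRingHom = φ from CommRingCat.hom_ext (RingHom.ext hψ)]
      exact hφx
    have h3 : e.inv ≫ pullback.fst Y.hom j =
        Spec.map (CommRingCat.ofHom (Algebra.TensorProduct.includeLeft (R := R) (S := R) (A := C) (B := K)).toRingHom) :=
      pullbackSpecIso_inv_fst R C K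
    have h4 : Spec.map (CommRingCat.ofHom χ.toRingHom) ≫ e.inv ≫ pullback.fst Y.hom j = iW ≫ pW := by
      rw [h3, ← Spec.map_comp, ← Spec.map_comp]
      congr 1
      ext a
      show χ (a ⊗ₜ 1) = _
      rw [Algebra.TensorProduct.lift_tmul, map_one, mul_one]
      rfl
    rw [← Category.assoc, ← h4, Category.assoc, Category.assoc, ← h1]
    show _ ≫ _ ≫ (e.hom ≫ Spec.map ψ ≫ hV.fromSpec) ≫ pullback.fst N.hom j = _
    rw [← h2]
    simp only [Category.assoc, Iso.inv_hom_id_assoc]
  refine ⟨(pW ≫ g₀.left) (IsLocalRing.closedPoint W), ?_, ?_⟩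
  · show N.hom ((pW ≫ g₀.left) (IsLocalRing.closedPoint W)) = IsLocalRing.closedPoint R
    rw [← Scheme.Hom.comp_apply, Category.assoc, Over.w g₀]
    show (Spec.map (CommRingCat.ofHom toWC) ≫ Spec.map (CommRingCat.ofHom (algebraMap R C))) _ = _
    rw [← Spec.map_comp]
    apply PrimeSpectrum.ext
    ext r
    show toWC (algebraMap R C r) ∈ IsLocalRing.maximalIdeal W ↔ r ∈ IsLocalRing.maximalIdeal R
    rw [W.valuation_lt_one_iff, hCalg]
    exact ⟨fun h => by_contra fun hr => h.ne (ValExt.valuation_eq_one_of_not_mem W hW hr),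
      fun h => ValExt.valuation_lt_one_of_mem W hW h⟩
  · show (xl ≫ pullback.fst N.hom j) (IsLocalRing.closedPoint Ω) ⤳ _
    rw [← hkey]
    exact (IsLocalRing.specializes_closedPoint (iW (IsLocalRing.closedPoint Ω))).map (pW ≫ g₀.left).continuous

end Groth.Agent.NeronComp
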