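import Groth.Agent.GrpSchLib.HomFinite
import Groth.Agent.GrpSchLib.KernelGrp
import Groth.Agent.GrpSchLib.FieldDim
import Groth.Agent.H23.TopDim
import Groth.Agent.S7798
import Groth.Prelude.Def_SGA7IX

/-!
# A homomorphism quasi-finite on the closed fibre is finite on the generic fibre
-/

set_option autoImplicit false
set_option linter.style.haveILetI false
set_option backward.isDefEq.respectTransparency false
set_option backward.isDefEq.respectTransparency.types false
universe u

open CategoryTheory AlgebraicGeometry MonoidalCategory CartesianMonoidalCategory MonObj GrpObj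
open Limits TopologicalSpace
open scoped CategoryTheory.Obj

namespace Groth.Agent.NeronComp

/-- A group scheme of finite type over a field whose unit is an isolated point is discrete. -/
theorem discrete_of_isOpen_unit {k : Type u} [Field k] {F : Over (Spec (CommRingCat.of k))} [GrpObj F]
    [LocallyOfFiniteType F.hom] [QuasiCompact F.hom]
    (h : IsOpen ({η[F].left (IsLocalRing.closedPoint k)} : Set F.left)) : DiscreteTopology F.left := by
  haveI : IsLocallyNoetherian F.left := LocallyOfFiniteType.isLocallyNoetherian F.hom
  haveI : CompactSpace F.left := QuasiCompact.compactSpace_of_compactSpace F.hom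
  haveI : IsNoetherian F.left := {}
  let e := η[F].left (IsLocalRing.closedPoint k)
  have he : IsClosed ({e} : Set F.left) := by
    have h1 := (η[F]).left.isClosedEmbedding.isClosedMap _
      (isClosed_discrete (α := ↥(Spec (CommRingCat.of k))) {IsLocalRing.closedPoint k})
    exact (Set.image_singleton (f := (η[F]).left)) ▸ h1
  have hmax : GrpSchLib.IsMaxPt e := fun d hd => hd.mem_open h (Set.mem_singleton _)
  refine (H23.TopDim.finite_discrete_of_dim_le_zero ?_).2
  rw [GrpSchLib.topologicalKrullDim_eq_deg hmax, (VarDim.closedPoint_iff_deg_eq_zero F.hom e).mp he]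
  exact le_rfl

/-- The unit of a base change, followed by the projection. -/
theorem unit_fst {S T : Scheme.{u}} (j : T ⟶ S) (N : Over S) [GrpObj N] :
    η[(Over.pullback j).obj N].left ≫ pullback.fst N.hom j = j ≫ η[N].left := by
  let G := Over.pullback j
  show ((Functor.LaxMonoidal.ε G).left ≫ (G.map η[N]).left) ≫ pullback.fst N.hom j = j ≫ η[N].left
  have h1 : (G.map η[N]).left ≫ pullback.fst N.hom j = pullback.fst _ j ≫ η[N].left := pullback.lift_fst _ _ _
  have h2 : (Functor.LaxMonoidal.ε G).left ≫ pullback.fst (𝟙_ (Over S)).hom j = j := by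
    have h3 := Over.w (Functor.LaxMonoidal.ε G)
    have h4 : pullback.fst (𝟙_ (Over S)).hom j = pullback.snd _ j ≫ j := by
      rw [← pullback.condition]
      exact (Category.comp_id _).symm
    rw [h4, ← Category.assoc]
    exact (congrArg (· ≫ j) h3).trans (Category.id_comp _)
  rw [Category.assoc, h1, ← Category.assoc, h2]

section
variable {R : Type u} [CommRing R] [IsLocalRing R] {N N' : Over (Spec (CommRingCat.of R))}
  [LocallyOfFiniteType N.hom] [LocallyOfFiniteType N'.hom] [QuasiCompact N.hom] [IsSeparated N'.hom]
  (u : N ⟶ N') [LocallyQuasiFinite (SGA7.fibreHom (IsLocalRing.closedPoint R) u).left]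

/-- Quasi-finiteness at the points of the closed fibre. -/
theorem quasiFiniteAt_closedFibre [LocallyOfFiniteType u.left] {p : N.left}
    (hp : N.hom p = IsLocalRing.closedPoint R) : u.left.QuasiFiniteAt p := by
  let t := (Spec (CommRingCat.of R)).fromSpecResidueField (IsLocalRing.closedPoint R)
  let us := SGA7.fibreHom (IsLocalRing.closedPoint R) u
  haveI : QuasiCompact u.left := by
    haveI : QuasiCompact (u.left ≫ N'.hom) := by rw [Over.w u]; infer_instance
    exact QuasiCompact.of_comp u.left N'.hom
  haveI : QuasiCompact us.left := MorphismProperty.overPullbackMap (P := @QuasiCompact) _ u ‹_›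
  haveI : IsPreimmersion (pullback.fst N'.hom t) := MorphismProperty.pullback_fst _ _ inferInstance
  haveI : IsPreimmersion (pullback.fst N.hom t) := MorphismProperty.pullback_fst _ _ inferInstance
  have hw : ∀ x, u.left (pullback.fst N.hom t x) = pullback.fst N'.hom t (us.left x) := fun x => by
    exact ((Scheme.Hom.comp_apply (pullback.fst N.hom t) u.left x).symm.trans
      (congrArg (fun f : pullback N.hom t ⟶ N'.left => f x) (pullback.lift_fst (f := N'.hom) (g := t)
        (pullback.fst N.hom t ≫ u.left) (pullback.snd N.hom t)
        (by rw [Category.assoc, Over.w u]; exact pullback.condition)).symm)).trans (Scheme.Hom.comp_apply _ _ x)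
  have hlift : ∀ x : N.left, N.hom x = IsLocalRing.closedPoint R → ∃ x', pullback.fst N.hom t x' = x := fun x hx => by
    show x ∈ Set.range (pullback.fst N.hom t)
    rw [Scheme.Pullback.range_fst, Set.mem_preimage, Scheme.range_fromSpecResidueField]
    exact hx
  obtain ⟨p', hp'⟩ := hlift p hp
  have hfin : (u.left ⁻¹' {u.left p}).Finite := by
    refine ((us.left.finite_preimage_singleton (us.left p')).image (pullback.fst N.hom t)).subset fun x hx => ?_
    have hxs : N.hom x = IsLocalRing.closedPoint R := by
      rw [← Over.w u, Scheme.Hom.comp_apply, show u.left x = u.left p from hx, ← Scheme.Hom.comp_apply, Over.w u]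
      exact hp
    obtain ⟨x', rfl⟩ := hlift x hxs
    refine ⟨x', (pullback.fst N'.hom t).isEmbedding.injective ?_, rfl⟩
    rw [← hw, ← hw, hp']
    exact hx
  rw [Scheme.Hom.quasiFiniteAt_iff_isOpen_singleton_asFiber]
  haveI : Finite ↥(u.left ⁻¹' {u.left p}) := hfin.to_subtype
  haveI : Finite (u.left.fiber (u.left p)) := Finite.of_equiv _ (u.left.fiberHomeo (u.left p)).symm.toEquiv
  haveI : JacobsonSpace (Spec (N'.left.residueField (u.left p))) :=
    inferInstanceAs (JacobsonSpace (PrimeSpectrum (N'.left.residueField (u.left p))))
  haveI : JacobsonSpace ↥(u.left.fiber (u.left p)) :=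
    LocallyOfFiniteType.jacobsonSpace (u.left.fiberToSpecResidueField (u.left p))
  exact isOpen_discrete _

variable [GrpObj N] [GrpObj N'] [IsMonHom u] (K : Type u) [Field K] [Algebra R K]

/-- The base change to a point over which the base change is a monomorphism is finite. -/
theorem isFinite_map [IsPreimmersion (Spec.map (CommRingCat.ofHom (algebraMap R K)))] :
    IsFinite ((SGA7.genFib R K).map u).left := by
  let j := Spec.map (CommRingCat.ofHom (algebraMap R K))
  let G := SGA7.genFib R K
  let uK := G.map u
  letI : GrpObj (G.obj N) := Functor.grpObjObj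
  letI : GrpObj (G.obj N') := Functor.grpObjObj
  haveI : IsMonHom uK := inferInstance
  haveI : LocallyOfFiniteType u.left := by
    haveI : LocallyOfFiniteType (u.left ≫ N'.hom) := by rw [Over.w u]; infer_instance
    exact locallyOfFiniteType_of_comp u.left N'.hom
  haveI : QuasiCompact u.left := by
    haveI : QuasiCompact (u.left ≫ N'.hom) := by rw [Over.w u]; infer_instance
    exact QuasiCompact.of_comp u.left N'.hom
  haveI : LocallyOfFiniteType (G.obj N).hom := inferInstanceAs (LocallyOfFiniteType (pullback.snd N.hom j))
  haveI : LocallyOfFiniteType (G.obj N').hom := inferInstanceAs (LocallyOfFiniteType (pullback.snd N'.hom j))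
  haveI : QuasiCompact (G.obj N).hom := inferInstanceAs (QuasiCompact (pullback.snd N.hom j))
  haveI : IsSeparated (G.obj N').hom := inferInstanceAs (IsSeparated (pullback.snd N'.hom j))
  haveI : QuasiCompact uK.left := MorphismProperty.overPullbackMap (P := @QuasiCompact) _ u ‹_›
  obtain ⟨Ker, hg, i, hi, hic, -, hk⟩ := GrpSchLib.exists_kernel uK
  letI := hg
  haveI := hi
  haveI := hic
  haveI : LocallyOfFiniteType Ker.hom := by rw [← Over.w i]; infer_instance
  haveI : QuasiCompact Ker.hom := by rw [← Over.w i]; infer_instance
  haveI : IsPreimmersion (pullback.fst N.hom j) := MorphismProperty.pullback_fst _ _ ‹_›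
  let q : Ker.left ⟶ N.left := i.left ≫ pullback.fst N.hom j
  let e := η[Ker].left (IsLocalRing.closedPoint K)
  have hq : ∀ z, u.left (q z) = u.left (q e) := by
    have hw : q ≫ u.left = (toUnit Ker).left ≫ η[G.obj N'].left ≫ pullback.fst N'.hom j := by
      show (i.left ≫ pullback.fst N.hom j) ≫ u.left = _
      rw [Category.assoc, ← show uK.left ≫ pullback.fst N'.hom j = pullback.fst N.hom j ≫ u.left from
        pullback.lift_fst _ _ _, ← Category.assoc, ← Category.assoc]
      congr 1
      exact congrArg CommaMorphism.left hk.w
    intro z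
    rw [← Scheme.Hom.comp_apply, ← Scheme.Hom.comp_apply, hw, Scheme.Hom.comp_apply, Scheme.Hom.comp_apply]
    exact congrArg (fun w : ↥(Spec (CommRingCat.of K)) => (η[G.obj N'].left ≫ pullback.fst N'.hom j) w)
      (@Subsingleton.elim (PrimeSpectrum K) inferInstance ((toUnit Ker).left z) ((toUnit Ker).left e))
  have hqe : q e = η[N].left (j (IsLocalRing.closedPoint K)) := by
    have h1 : i.left e = η[G.obj N].left (IsLocalRing.closedPoint K) := by
      rw [← IsMonHom.one_hom i]
      rfl
    show (i.left ≫ pullback.fst N.hom j) e = _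
    rw [Scheme.Hom.comp_apply, h1]
    exact congrArg (fun f : Spec (CommRingCat.of K) ⟶ N.left => f (IsLocalRing.closedPoint K)) (unit_fst j N)
  have hqf : u.left.QuasiFiniteAt (q e) := by
    show q e ∈ u.left.quasiFiniteLocus
    rw [hqe]
    refine ((IsLocalRing.specializes_closedPoint (j (IsLocalRing.closedPoint K))).map η[N].left.continuous).mem_open
      u.left.quasiFiniteLocus.isOpen (quasiFiniteAt_closedFibre u ?_)
    exact congrArg (fun f : Spec (CommRingCat.of R) ⟶ Spec (CommRingCat.of R) => f (IsLocalRing.closedPoint R))
      (Over.w η[N])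
  rw [Scheme.Hom.quasiFiniteAt_iff_isOpen_singleton_asFiber] at hqf
  have h2 : IsOpen ({⟨q e, rfl⟩} : Set ↥(u.left ⁻¹' {u.left (q e)})) := by
    have := (u.left.fiberHomeo (u.left (q e))).isOpenMap _ hqf
    simpa [Scheme.Hom.asFiber] using this
  obtain ⟨W, hW, hWe⟩ := isOpen_induced_iff.1 h2
  have hopen : IsOpen ({e} : Set Ker.left) := by
    have : q ⁻¹' W = {e} := by
      refine Set.eq_singleton_iff_unique_mem.2 ⟨?_, fun z hz => q.isEmbedding.injective ?_⟩
      · have := Set.ext_iff.1 hWe ⟨q e, rfl⟩
        simpa using this
      · have := Set.ext_iff.1 hWe ⟨q z, hq z⟩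
        simp at this
        exact this.1 hz
    exact this ▸ hW.preimage q.continuous
  haveI := discrete_of_isOpen_unit hopen
  have sq : IsPullback i.left (toUnit Ker).left uK.left η[G.obj N'].left := hk.map (Over.forget _)
  exact GrpSchLib.HomFinite.isFinite_of_discrete_ker uK
    sq.isoPullback.hom.homeomorph.discreteTopology

end

open TopologicalSpace in
theorem surjective_of_finite_of_dim_eq {K : Type u} [Field K] {A B : Over (Spec (CommRingCat.of K))}
    [IsProper A.hom] [IsProper B.hom] [IsIntegral A.left] [IsIntegral B.left] (f : A ⟶ B) [IsFinite f.left]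
    (h : topologicalKrullDim A.left = topologicalKrullDim B.left) : Surjective f.left := by
  have hne : Nonempty A.left := inferInstance
  obtain ⟨x⟩ := hne
  haveI : Nonempty ↥(f.left.fiber (f.left x)) := ⟨f.left.asFiber x⟩
  have hy : topologicalKrullDim ↥(f.left.fiber (f.left x)) = 0 := by
    haveI : Finite ↥(f.left.fiber (f.left x)) := by
      haveI := (Scheme.Hom.finite_preimage_singleton f.left (f.left x)).to_subtype
      exact (f.left.fiberHomeo (f.left x)).finite_iff.mpr inferInstance
    haveI : JacobsonSpace (Spec (B.left.residueField (f.left x))) :=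
      inferInstanceAs (JacobsonSpace (PrimeSpectrum (B.left.residueField (f.left x))))
    haveI : LocallyOfFiniteType (f.left.fiberToSpecResidueField (f.left x)) := inferInstance
    haveI : JacobsonSpace ↥(f.left.fiber (f.left x)) :=
      LocallyOfFiniteType.jacobsonSpace (f.left.fiberToSpecResidueField (f.left x))
    refine le_antisymm (topologicalKrullDim_zero_of_discreteTopology _) ?_
    haveI : Nonempty (IrreducibleCloseds ↥(f.left.fiber (f.left x))) :=
      ⟨⟨closure {f.left.asFiber x}, isIrreducible_singleton.closure, isClosed_closure⟩⟩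
    exact Order.krullDim_nonneg
  exact (S7798.result K A.hom B.hom h.ge f.left (Over.w f) _ hy).1


end Groth.Agent.NeronComp
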