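import Groth.Agent.NeronComp.Field
import Groth.Agent.TorsLift.Basic
import Groth.Agent.S7785
import Groth.Prelude.Def_SGA7IX
import Groth.Agent.GrpSchLib.RankOneBase

/-!
# Lifting torsion of component groups of Néron models
-/

set_option autoImplicit false
set_option linter.style.haveILetI false
set_option backward.isDefEq.respectTransparency false
set_option backward.isDefEq.respectTransparency.types false
universe u

open CategoryTheory AlgebraicGeometry MonoidalCategory CartesianMonoidalCategory MonObj GrpObj
open Limits TopologicalSpace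
open scoped CategoryTheory.Obj

namespace Groth.Agent.NeronComp

theorem isCommMonObj_of_points {S : Scheme.{u}} {E : Over S} [GrpObj E]
    (h : ∀ (T : Over S) (x y : T ⟶ E), x * y = y * x) : IsCommMonObj E := by
  constructor
  have h1 := h (E ⊗ E) (snd E E) (fst E E)
  rw [Hom.mul_def, Hom.mul_def, lift_fst_snd, Category.id_comp] at h1
  refine Eq.trans ?_ h1
  congr 1

theorem isCommMonObj_of_neron (R K : Type u) [CommRing R] [Field K] [Algebra R K]
    (N : Over (Spec (CommRingCat.of R))) [GrpObj N] (hN : SGA7.IsNeron R K N)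
    [IsProper ((SGA7.genFib R K).obj N).hom] [GeometricallyIntegral ((SGA7.genFib R K).obj N).hom] :
    IsCommMonObj N := by
  haveI := hN.1
  let σ : Spec (CommRingCat.of K) ⟶ Spec (CommRingCat.of R) := Spec.map (CommRingCat.ofHom (algebraMap R K))
  let G := Over.pullback σ
  letI : GrpObj (G.obj N) := Functor.grpObjObj
  haveI : Smooth (G.obj N).hom := inferInstanceAs (Smooth (pullback.snd N.hom σ))
  haveI : IsProper (G.obj N).hom := ‹_›
  haveI hI : GeometricallyIntegral (G.obj N).hom := ‹_›
  haveI : GeometricallyConnected (G.obj N).hom := ⟨fun L _ x Z a b h => by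
    haveI := hI.geometrically_isIntegral x a b h
    infer_instance⟩
  haveI : IsCommMonObj (G.obj N) := S7785.result (G.obj N)
  haveI : Smooth (N ⊗ N).hom := inferInstanceAs (Smooth (pullback.fst N.hom N.hom ≫ N.hom))
  have key : fst N N * snd N N = snd N N * fst N N := by
    refine (hN.2.2.2 (N ⊗ N) inferInstance).1 ?_
    show G.homMonoidHom (fst N N * snd N N) = G.homMonoidHom (snd N N * fst N N)
    rw [map_mul, map_mul]
    exact _root_.mul_comm _ _
  refine isCommMonObj_of_points fun T x y => ?_
  have := congrArg (lift x y ≫ ·) key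
  simpa [MonObj.comp_mul] using this

section
variable (R : Type u) [CommRing R] [IsLocalRing R] (N : Over (Spec (CommRingCat.of R))) [GrpObj N]

theorem exists_lift [HenselianLocalRing R] [IsSepClosed (IsLocalRing.ResidueField R)] [IsCommMonObj N]
    [Smooth N.hom] [QuasiCompact N.hom] (n : ℕ) (hn : (n : IsLocalRing.ResidueField R) ≠ 0)
    (z : 𝟙_ (Over (Spec (CommRingCat.of R))) ⟶ N) (hz : z ∈ SGA7.secUnitComp R N) :
    ∃ y ∈ SGA7.secUnitComp R N, y ^ n = z := by
  let i := EtFound.cpt R
  let G := Over.pullback i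
  letI : GrpObj (G.obj N) := Functor.grpObjObj
  haveI : IsCommMonObj (G.obj N) := GrpSchLib.RankOne.isCommMonObj_bc i N
  haveI : Smooth (G.obj N).hom := inferInstanceAs (Smooth (pullback.snd N.hom i))
  haveI : QuasiCompact (G.obj N).hom := inferInstanceAs (QuasiCompact (pullback.snd N.hom i))
  haveI : IsClosedImmersion i := IsClosedImmersion.spec_of_surjective _ IsLocalRing.residue_surjective
  let pr : (G.obj N).left ⟶ N.left := pullback.fst N.hom i
  haveI : IsClosedImmersion pr := MorphismProperty.pullback_fst _ _ inferInstance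
  have hrange : Set.range pr = SGA7.specialFibreSet R N := by
    show Set.range (pullback.fst N.hom i) = N.hom ⁻¹' {IsLocalRing.closedPoint R}
    rw [Scheme.Pullback.range_fst]
    congr 1
    ext t
    constructor
    · rintro ⟨w, rfl⟩
      exact EtFound.cpt_base R w
    · rintro rfl
      exact ⟨default, EtFound.cpt_base R _⟩
  let red : (𝟙_ (Over (Spec (CommRingCat.of R))) ⟶ N) →* (𝟙_ (Over (Spec (CommRingCat.of (IsLocalRing.ResidueField R)))) ⟶ G.obj N) :=
    { toFun := fun a => Functor.LaxMonoidal.ε G ≫ G.homMonoidHom a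
      map_one' := by rw [map_one, MonObj.comp_one]
      map_mul' := fun a b => by rw [map_mul, MonObj.comp_mul] }
  have hred : ∀ a, (red a).left ≫ pr = i ≫ a.left := by
    intro a
    show ((Functor.LaxMonoidal.ε G).left ≫ (G.map a).left) ≫ pullback.fst N.hom i = i ≫ a.left
    have h1 : (G.map a).left ≫ pullback.fst N.hom i = pullback.fst _ i ≫ a.left := pullback.lift_fst _ _ _
    have h2 : (Functor.LaxMonoidal.ε G).left ≫ pullback.fst (𝟙_ (Over (Spec (CommRingCat.of R)))).hom i = i := by
      have h3 := Over.w (Functor.LaxMonoidal.ε G)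
      have h4 : pullback.fst (𝟙_ (Over (Spec (CommRingCat.of R)))).hom i = pullback.snd _ i ≫ i := by
        rw [← pullback.condition]
        exact (Category.comp_id _).symm
      rw [h4, ← Category.assoc]
      exact (congrArg (· ≫ i) h3).trans (Category.id_comp _)
    rw [Category.assoc, h1, ← Category.assoc, h2]
  have hredpt : ∀ a, pr (pnt (red a)) = a.left (IsLocalRing.closedPoint R) := fun a => by
    show pr ((red a).left (IsLocalRing.closedPoint _)) = _
    rw [← Scheme.Hom.comp_apply, hred, Scheme.Hom.comp_apply]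
    exact congrArg a.left (EtFound.cpt_base R _)
  have hη : η[N] = (1 : 𝟙_ (Over (Spec (CommRingCat.of R))) ⟶ N) := by
    rw [Hom.one_def, show toUnit (𝟙_ (Over (Spec (CommRingCat.of R)))) = 𝟙 _ from toUnit_unique _ _, Category.id_comp]
  have hη' : η[G.obj N] = red 1 := by
    rw [map_one, Hom.one_def, show toUnit (𝟙_ (Over (Spec (CommRingCat.of (IsLocalRing.ResidueField R))))) = 𝟙 _
      from toUnit_unique _ _, Category.id_comp]
  -- components
  have hcomp : SGA7.secUnitComp R N = {a | ∃ p ∈ connectedComponent (pnt η[G.obj N]),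
      pr p = a.left (IsLocalRing.closedPoint R)} := by
    ext a
    show a.left (IsLocalRing.closedPoint R) ∈ connectedComponentIn (SGA7.specialFibreSet R N)
      (η[N].left (IsLocalRing.closedPoint R)) ↔ _
    have e0 : η[N].left (IsLocalRing.closedPoint R) = pr (pnt η[G.obj N]) := by rw [hη', hredpt, hη]
    have e : connectedComponentIn (SGA7.specialFibreSet R N) (pr (pnt η[G.obj N])) =
        pr '' connectedComponent (pnt η[G.obj N]) := by
      rw [← hrange]
      refine subset_antisymm (fun q hq => ?_) ?_
      · obtain ⟨p, rfl⟩ := connectedComponentIn_subset _ _ hq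
        refine ⟨p, IsPreconnected.subset_connectedComponent (s := pr ⁻¹' connectedComponentIn (Set.range pr)
          (pr (pnt η[G.obj N]))) ?_ (mem_connectedComponentIn ⟨_, rfl⟩) hq, rfl⟩
        rw [← pr.isClosedEmbedding.isInducing.isPreconnected_image,
          Set.image_preimage_eq_of_subset (connectedComponentIn_subset _ _)]
        exact isPreconnected_connectedComponentIn
      · exact (isPreconnected_connectedComponent.image _ pr.continuous.continuousOn).subset_connectedComponentIn
          ⟨_, mem_connectedComponent, rfl⟩ (Set.image_subset_range _ _)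
    rw [e0, e]
    rfl
  have hmem : pnt (red z) ∈ connectedComponent (pnt η[G.obj N]) := by
    rw [hcomp] at hz
    obtain ⟨p, hp, hpe⟩ := hz
    rwa [show pnt (red z) = p from pr.isClosedEmbedding.injective ((hredpt z).trans hpe.symm)]
  obtain ⟨b, hb, hbC⟩ := exists_pow_eq n hn (red z) hmem
  -- lift
  have hnR : IsUnit (n : R) := IsLocalRing.notMem_maximalIdeal.1 fun h => hn (by
    rw [← map_natCast (IsLocalRing.residue R)]
    exact Ideal.Quotient.eq_zero_iff_mem.2 h)
  let φ : N ⟶ N := 𝟙 N ^ n
  haveI : Etale φ.left := TorsLift.etale_pow N n fun s h0 => by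
    have := hnR.map ((Scheme.ΓSpecIso (CommRingCat.of R)).inv ≫
      (Spec (CommRingCat.of R)).evaluation ⊤ s trivial).hom
    rw [map_natCast, h0] at this
    exact not_isUnit_zero this
  have hGφ : G.map φ = 𝟙 (G.obj N) ^ n := H23.MulEtale.map_pow i n
  have hbφ : (b.left ≫ pr) ≫ φ.left = i ≫ z.left := by
    rw [← hred z, ← hb]
    have h1 : (G.map φ).left ≫ pr = pr ≫ φ.left := pullback.lift_fst _ _ _
    have h2 : (b ≫ G.map φ).left = (b ^ n).left := by
      rw [hGφ, MonObj.comp_pow, Category.comp_id]
    rw [Category.assoc, ← h1, ← Category.assoc, ← h2]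
    rfl
  let zl : Spec (CommRingCat.of R) ⟶ N.left := z.left
  let v : Spec (CommRingCat.of (IsLocalRing.ResidueField R)) ⟶ pullback φ.left zl :=
    pullback.lift (b.left ≫ pr) i hbφ
  obtain ⟨σ₀, ⟨hσq, hσv⟩, -⟩ := EtFound.existsUnique_section R (pullback.snd φ.left zl) v (pullback.lift_snd _ _ _)
  let yl : Spec (CommRingCat.of R) ⟶ N.left := σ₀ ≫ pullback.fst φ.left zl
  have hyl : yl ≫ φ.left = zl := by
    rw [show yl ≫ φ.left = σ₀ ≫ pullback.fst φ.left zl ≫ φ.left from Category.assoc _ _ _, pullback.condition,
      ← Category.assoc, hσq, Category.id_comp]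
  refine ⟨Over.homMk yl ?_, ?_, ?_⟩
  · rw [← Over.w φ, ← Category.assoc, hyl]
    exact Over.w z
  · rw [hcomp]
    refine ⟨pnt b, hbC, ?_⟩
    show pr (b.left (IsLocalRing.closedPoint _)) = yl (IsLocalRing.closedPoint R)
    have h3 : i ≫ yl = b.left ≫ pr := by
      show i ≫ σ₀ ≫ pullback.fst φ.left zl = _
      rw [← Category.assoc, hσv]
      exact pullback.lift_fst _ _ _
    rw [← Scheme.Hom.comp_apply, ← h3, Scheme.Hom.comp_apply]
    exact congrArg yl (EtFound.cpt_base R _)
  · have h4 : ∀ a : 𝟙_ (Over (Spec (CommRingCat.of R))) ⟶ N, a ≫ φ = a ^ n := fun a => by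
      show a ≫ 𝟙 N ^ n = _
      rw [MonObj.comp_pow, Category.comp_id]
    rw [← h4]
    exact Over.OverMorphism.ext hyl

end

end Groth.Agent.NeronComp
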