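import Groth.Agent.NeronComp.ValExt
import Groth.Agent.NeronComp.Lift
import Groth.Agent.NeronComp.Isogeny

/-!
# Torsion points fixed by inertia and specialisation
-/

set_option autoImplicit false
set_option linter.style.haveILetI false
set_option backward.isDefEq.respectTransparency false
set_option backward.isDefEq.respectTransparency.types false
universe u

open CategoryTheory AlgebraicGeometry MonoidalCategory CartesianMonoidalCategory MonObj GrpObj
open Limits TopologicalSpace
open scoped CategoryTheory.Obj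

namespace Groth.Agent.NeronComp

/-- Two maps out of a local scheme with the same image under an unramified morphism and the same closed point
agree. -/
theorem eq_of_closedPoint {A : Type u} [CommRing A] [IsLocalRing A] {X Y : Scheme.{u}} (φ : X ⟶ Y)
    [FormallyUnramified φ] [LocallyOfFiniteType φ] (a b : Spec (CommRingCat.of A) ⟶ X) (h : a ≫ φ = b ≫ φ)
    (h0 : Spec.map (CommRingCat.ofHom (IsLocalRing.residue A)) ≫ a =
      Spec.map (CommRingCat.ofHom (IsLocalRing.residue A)) ≫ b) : a = b := by
  let δ := pullback.diagonal φ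
  let p := pullback.lift a b h
  let r := Spec.map (CommRingCat.ofHom (IsLocalRing.residue A))
  have hp : r ≫ p = (r ≫ a) ≫ δ := by
    apply pullback.hom_ext
    · rw [Category.assoc, Category.assoc, pullback.lift_fst, Category.assoc, pullback.diagonal_fst, Category.comp_id]
    · rw [Category.assoc, Category.assoc, pullback.lift_snd, Category.assoc, pullback.diagonal_snd, Category.comp_id]
      exact h0.symm
  have hr : r (IsLocalRing.closedPoint (IsLocalRing.ResidueField A)) = IsLocalRing.closedPoint A := by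
    apply PrimeSpectrum.ext
    show Ideal.comap (IsLocalRing.residue A) (IsLocalRing.maximalIdeal _) = IsLocalRing.maximalIdeal A
    rw [IsLocalRing.maximalIdeal_eq_bot, ← RingHom.ker_eq_comap_bot, IsLocalRing.ker_residue]
  have hrange : Set.range p ⊆ Set.range δ := by
    rintro _ ⟨t, rfl⟩
    refine ((IsLocalRing.specializes_closedPoint t).map p.continuous).mem_open δ.isOpenEmbedding.isOpen_range
      ⟨(r ≫ a) (IsLocalRing.closedPoint (IsLocalRing.ResidueField A)), ?_⟩
    rw [← Scheme.Hom.comp_apply, ← hp, Scheme.Hom.comp_apply]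
    exact congrArg p hr
  have hc := IsOpenImmersion.lift_fac δ p hrange
  have h1 := congrArg (· ≫ pullback.fst φ φ) hc
  have h2 := congrArg (· ≫ pullback.snd φ φ) hc
  simp only [δ, p, Category.assoc, pullback.diagonal_fst, pullback.diagonal_snd, Category.comp_id,
    pullback.lift_fst, pullback.lift_snd] at h1 h2
  exact h1.symm.trans h2

section
variable {R K Ω : Type u} [CommRing R] [IsDomain R] [IsLocalRing R] [Field K]
  [Algebra R K] [IsFractionRing R K] [Field Ω] [Algebra K Ω] [Algebra R Ω] [IsScalarTower R K Ω]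
  (W : ValuationSubring Ω) (N : Over (Spec (CommRingCat.of R)))

/-- Torsion of invertible order extending to the valuation ring is fixed by inertia. -/
theorem galAct_eq_of_extend [IsSeparated N.hom] [GrpObj N] (hW : SGA7.LiesOver K R W) (m : ℕ)
    [Etale (𝟙 N ^ m : N ⟶ N).left] (x : SGA7.Pts Ω ((SGA7.genFib R K).obj N)) (hx : x ^ m = 1)
    (g : Spec (CommRingCat.of W) ⟶ N.left)
    (hg : Spec.map (CommRingCat.ofHom W.subtype) ≫ g =
      x.left ≫ pullback.fst N.hom (Spec.map (CommRingCat.ofHom (algebraMap R K))))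
    (hgR : g ≫ N.hom = Spec.map (CommRingCat.ofHom ((algebraMap R Ω).codRestrict W (ValExt.mem_base W hW))))
    (σ : Ω ≃ₐ[K] Ω) (hσ : SGA7.IsInertia W σ) : SGA7.galAct σ x = x := by
  let j := Spec.map (CommRingCat.ofHom (algebraMap R K))
  let G := SGA7.genFib R K
  letI : GrpObj (G.obj N) := Functor.grpObjObj
  let f : Spec (CommRingCat.of Ω) ⟶ N.left := x.left ≫ pullback.fst N.hom j
  have hsnd : x.left ≫ pullback.snd N.hom j = Spec.map (CommRingCat.ofHom (algebraMap K Ω)) := Over.w x
  have hjΩ : Spec.map (CommRingCat.ofHom (algebraMap K Ω)) ≫ j = Spec.map (CommRingCat.ofHom (algebraMap R Ω)) := by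
    rw [← Spec.map_comp, IsScalarTower.algebraMap_eq R K Ω]
    rfl
  have hf : f ≫ N.hom = Spec.map (CommRingCat.ofHom (algebraMap R Ω)) := by
    show (x.left ≫ pullback.fst N.hom j) ≫ N.hom = _
    rw [Category.assoc, pullback.condition, ← Category.assoc, hsnd, hjΩ]
  replace hg : Spec.map (CommRingCat.ofHom W.subtype) ≫ g = f := hg
  let φ : N ⟶ N := 𝟙 N ^ m
  let incl := Spec.map (CommRingCat.ofHom W.subtype)
  let eW := Spec.map (CommRingCat.ofHom ((algebraMap R Ω).codRestrict W (ValExt.mem_base W hW)))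
  have hfφ : f ≫ φ.left = Spec.map (CommRingCat.ofHom (algebraMap R Ω)) ≫ η[N].left := by
    have h1 : x ≫ G.map φ = toUnit (SGA7.pt Ω) ≫ η[G.obj N] := by
      rw [H23.MulEtale.map_pow, MonObj.comp_pow, Category.comp_id, hx, Hom.one_def]
    have h2 : (G.map φ).left ≫ pullback.fst N.hom j = pullback.fst N.hom j ≫ φ.left := pullback.lift_fst _ _ _
    show (x.left ≫ pullback.fst N.hom j) ≫ φ.left = _
    rw [Category.assoc, ← h2, ← Category.assoc, ← Over.comp_left, h1, Over.comp_left, Category.assoc]
    erw [unit_fst j N]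
    rw [← Category.assoc]
    exact congrArg (· ≫ η[N].left) hjΩ
  have hιe : incl ≫ eW = Spec.map (CommRingCat.ofHom (algebraMap R Ω)) := by
    rw [← Spec.map_comp]
    rfl
  haveI : IsDominant incl := by
    constructor
    intro w
    have h0 : incl (IsLocalRing.closedPoint Ω) = (⊥ : PrimeSpectrum W) := by
      apply PrimeSpectrum.ext
      show Ideal.comap W.subtype (IsLocalRing.maximalIdeal Ω) = ⊥
      rw [IsLocalRing.maximalIdeal_eq_bot, ← RingHom.ker_eq_comap_bot]
      exact (RingHom.injective_iff_ker_eq_bot W.subtype).1 Subtype.val_injective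
    refine closure_mono (show ({(⊥ : PrimeSpectrum W)} : Set (PrimeSpectrum W)) ⊆ Set.range incl from
      Set.singleton_subset_iff.2 ⟨_, h0⟩) ?_
    exact specializes_iff_mem_closure.1 ((PrimeSpectrum.le_iff_specializes _ _).1 bot_le)
  have hgφ : g ≫ φ.left = eW ≫ η[N].left := by
    refine ext_of_isDominant_of_isSeparated N.hom ?_ incl ?_
    · rw [Category.assoc, Category.assoc, Over.w φ, hgR, Over.w η[N]]
      exact (Category.comp_id _).symm
    · rw [← Category.assoc, hg, hfφ, ← Category.assoc, hιe]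
  let s : W →+* W := ((σ : Ω →+* Ω).comp W.subtype).codRestrict W fun t => (hσ t.1 t.2).1
  let b := Spec.map (CommRingCat.ofHom s) ≫ g
  have hse : Spec.map (CommRingCat.ofHom s) ≫ eW = eW := by
    rw [← Spec.map_comp]
    congr 1
    ext r
    show σ (algebraMap R Ω r) = algebraMap R Ω r
    rw [IsScalarTower.algebraMap_apply R K Ω]
    exact σ.commutes _
  have hres : (IsLocalRing.residue W).comp s = IsLocalRing.residue W := by
    ext t
    show IsLocalRing.residue W (s t) = IsLocalRing.residue W t
    refine Ideal.Quotient.eq.2 ?_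
    exact (W.valuation_lt_one_iff _).2 (hσ t.1 t.2).2
  have hbg : g = b := by
    refine eq_of_closedPoint φ.left g b ?_ ?_
    · show g ≫ φ.left = (Spec.map (CommRingCat.ofHom s) ≫ g) ≫ φ.left
      rw [Category.assoc, hgφ, ← Category.assoc, hse]
    · show _ = _ ≫ Spec.map (CommRingCat.ofHom s) ≫ g
      rw [← Category.assoc, ← Spec.map_comp, ← CommRingCat.ofHom_comp, hres]
  refine Over.OverMorphism.ext (pullback.hom_ext ?_ ?_)
  · show (Spec.map (CommRingCat.ofHom (σ : Ω →+* Ω)) ≫ x.left) ≫ pullback.fst N.hom j = f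
    rw [Category.assoc]
    show Spec.map (CommRingCat.ofHom (σ : Ω →+* Ω)) ≫ f = f
    rw [← hg, ← Category.assoc, ← Spec.map_comp]
    have : Spec.map (CommRingCat.ofHom W.subtype ≫ CommRingCat.ofHom (σ : Ω →+* Ω)) =
        Spec.map (CommRingCat.ofHom W.subtype) ≫ Spec.map (CommRingCat.ofHom s) := by
      rw [← Spec.map_comp]; rfl
    rw [this, Category.assoc]
    exact congrArg (incl ≫ ·) hbg.symm
  · exact (Over.w (SGA7.galAct σ x)).trans (Over.w x).symm

end

section
variable {R K Ω : Type u} [CommRing R] [IsDomain R] [HenselianLocalRing R] [ValuationRing R] [Field K]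
  [Algebra R K] [IsFractionRing R K] [Field Ω] [Algebra K Ω] [Algebra R Ω] [IsScalarTower R K Ω]
  [Algebra.IsAlgebraic K Ω] (W : ValuationSubring Ω) (N : Over (Spec (CommRingCat.of R)))

/-- A point of `N` with values in `Ω` specialising to the closed fibre extends to the valuation ring. -/
theorem exists_extend (hW : SGA7.LiesOver K R W) (f : Spec (CommRingCat.of Ω) ⟶ N.left)
    (hf : f ≫ N.hom = Spec.map (CommRingCat.ofHom (algebraMap R Ω))) {z : N.left}
    (hz : f (IsLocalRing.closedPoint Ω) ⤳ z) (hzs : N.hom z = IsLocalRing.closedPoint R) :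
    ∃ g : Spec (CommRingCat.of W) ⟶ N.left,
      Spec.map (CommRingCat.ofHom W.subtype) ≫ g = f ∧
      g ≫ N.hom = Spec.map (CommRingCat.ofHom ((algebraMap R Ω).codRestrict W (ValExt.mem_base W hW))) := by
  let φz : N.left.presheaf.stalk z ⟶ CommRingCat.of Ω :=
    N.left.presheaf.stalkSpecializes hz ≫ Scheme.stalkClosedPointTo f
  have hφz : Spec.map φz ≫ N.left.fromSpecStalk z = f := by
    rw [Spec.map_comp, Category.assoc, Scheme.SpecMap_stalkSpecializes_fromSpecStalk,
      Scheme.Spec_stalkClosedPointTo_fromSpecStalk]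
  obtain ⟨V, hV⟩ := LocalSubring.exists_le_valuationSubring (LocalSubring.range φz.hom)
  obtain ⟨hle, hloc⟩ := LocalSubring.le_def.1 hV
  let ψ : N.left.presheaf.stalk z →+* V := φz.hom.codRestrict V fun t => hle ⟨t, rfl⟩
  haveI hψ : IsLocalHom ψ := ⟨fun t ht => by
    have h1 : IsUnit (φz.hom.rangeRestrict t) := hloc.map_nonunit _ ht
    haveI : IsLocalHom φz.hom.rangeRestrict := IsLocalHom.of_surjective _ φz.hom.rangeRestrict_surjective
    exact (isUnit_map_iff φz.hom.rangeRestrict t).1 h1⟩
  obtain ⟨a, ha⟩ := Spec.map_surjective (N.left.fromSpecStalk z ≫ N.hom)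
  have haΩ : a ≫ φz = CommRingCat.ofHom (algebraMap R Ω) := Spec.map_injective (by
    rw [Spec.map_comp, ha, ← Category.assoc, hφz, hf])
  have hVR : SGA7.LiesOver K R V := by
    have h : ∀ r, algebraMap K Ω (algebraMap R K r) = φz.hom (a.hom r) := fun r => by
      rw [← IsScalarTower.algebraMap_apply R K Ω]
      exact (congr(($haΩ).hom r)).symm
    refine ⟨fun r => h r ▸ hle ⟨_, rfl⟩, fun r hr => ?_⟩
    rw [h]
    have h1 : a.hom r ∈ IsLocalRing.maximalIdeal (N.left.presheaf.stalk z) := by
      have h2 : Spec.map a (IsLocalRing.closedPoint _) = IsLocalRing.closedPoint R := by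
        rw [ha, Scheme.Hom.comp_apply, Scheme.fromSpecStalk_closedPoint]
        exact hzs
      exact (congrArg PrimeSpectrum.asIdeal h2).ge hr
    exact (V.valuation_lt_one_iff (ψ (a.hom r))).1 fun hu => h1 ((isUnit_map_iff ψ _).1 hu)
  obtain rfl := ValExt.unique (R := R) V W hVR hW
  refine ⟨Spec.map (CommRingCat.ofHom ψ) ≫ N.left.fromSpecStalk z, ?_, ?_⟩
  · rw [← Category.assoc, ← Spec.map_comp]
    exact hφz
  · rw [Category.assoc, ← ha, ← Spec.map_comp]
    congr 1
    ext r
    exact congr(($haΩ).hom r)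

variable [GrpObj N] [IsSeparated N.hom]

/-- Torsion of invertible order specialising to the closed fibre is fixed by inertia. -/
theorem galAct_eq_of_specializes (hW : SGA7.LiesOver K R W) (m : ℕ) [Etale (𝟙 N ^ m : N ⟶ N).left]
    (x : SGA7.Pts Ω ((SGA7.genFib R K).obj N)) (hx : x ^ m = 1) {z : N.left}
    (hz : (x.left ≫ pullback.fst N.hom (Spec.map (CommRingCat.ofHom (algebraMap R K)))).base
      (IsLocalRing.closedPoint Ω) ⤳ z) (hzs : N.hom z = IsLocalRing.closedPoint R)
    (σ : Ω ≃ₐ[K] Ω) (hσ : SGA7.IsInertia W σ) : SGA7.galAct σ x = x := by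
  let j := Spec.map (CommRingCat.ofHom (algebraMap R K))
  let G := SGA7.genFib R K
  letI : GrpObj (G.obj N) := Functor.grpObjObj
  let f : Spec (CommRingCat.of Ω) ⟶ N.left := x.left ≫ pullback.fst N.hom j
  have hsnd : x.left ≫ pullback.snd N.hom j = Spec.map (CommRingCat.ofHom (algebraMap K Ω)) := Over.w x
  have hjΩ : Spec.map (CommRingCat.ofHom (algebraMap K Ω)) ≫ j = Spec.map (CommRingCat.ofHom (algebraMap R Ω)) := by
    rw [← Spec.map_comp, IsScalarTower.algebraMap_eq R K Ω]
    rfl
  have hf : f ≫ N.hom = Spec.map (CommRingCat.ofHom (algebraMap R Ω)) := by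
    show (x.left ≫ pullback.fst N.hom j) ≫ N.hom = _
    rw [Category.assoc, pullback.condition, ← Category.assoc, hsnd, hjΩ]
  obtain ⟨g, hg, hgR⟩ := exists_extend W N hW f hf hz hzs
  exact galAct_eq_of_extend W N hW m x hx g hg hgR σ hσ

end

end Groth.Agent.NeronComp
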