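import Groth.Agent.NeronComp.FibreEndo
import Groth.Agent.GrpSchLib.FieldDim
import Groth.Agent.GrpSchLib.IdentityComp
import Groth.Agent.GrpSchLib.IsogenyFibre
import Groth.Agent.GrpSchLib.HomFlatLft
import Groth.Agent.GrpSchLib.RedSubgroup
import Groth.Agent.NeronComp.EndSep
import Groth.Agent.AVRosati.QuasiSection
import Groth.Agent.AVTorsLib.Dense

/-!
# Homomorphisms of groups over a field with finite kernel
-/

set_option autoImplicit false
set_option linter.style.haveILetI false
set_option backward.isDefEq.respectTransparency false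

universe u

open CategoryTheory CategoryTheory.Limits MonoidalCategory CartesianMonoidalCategory MonObj GrpObj AlgebraicGeometry

attribute [local instance] CategoryTheory.Hom.monoid CategoryTheory.Hom.group

namespace Groth.Agent.NeronComp.IsogFib

noncomputable section

variable {k : Type u} [Field k] {G H : Over (Spec (CommRingCat.of k))} [GrpObj G] [GrpObj H]
  [LocallyOfFiniteType G.hom]

theorem fdeg_eq_zero {X Y : Over (Spec (CommRingCat.of k))} [LocallyOfFiniteType X.hom] [LocallyOfFiniteType Y.hom]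
    (f : X ⟶ Y) [LocallyOfFiniteType f.left] [LocallyQuasiFinite f.left] (x : X.left) :
    VarDim.fdeg f.left x = 0 := by
  have h1 := VarDim.topologicalKrullDim_fiber f.left (f.left x)
  haveI : DiscreteTopology ↥(f.left ⁻¹' {f.left x}) :=
    isDiscrete_iff_discreteTopology.mp (Scheme.Hom.isDiscrete_preimage_singleton _ _)
  haveI : DiscreteTopology ↥(f.left.fiber (f.left x)) := (f.left.fiberHomeo (f.left x)).symm.discreteTopology
  have h2 : topologicalKrullDim ↥(f.left.fiber (f.left x)) ≤ 0 :=
    topologicalKrullDim_zero_of_discreteTopology _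
  have h3 := (le_iSup (fun z : f.left ⁻¹' {f.left x} => ((VarDim.fdeg f.left z.1 : ℕ∞) : WithBot ℕ∞))
    ⟨x, rfl⟩).trans (h1.symm.le.trans h2)
  simpa using h3

theorem dim_eq_of_surjective {X Y : Over (Spec (CommRingCat.of k))} [LocallyOfFiniteType X.hom]
    [LocallyOfFiniteType Y.hom] (f : X ⟶ Y) [LocallyOfFiniteType f.left] [LocallyQuasiFinite f.left]
    [Surjective f.left] : topologicalKrullDim X.left = topologicalKrullDim Y.left := by
  have h : ∀ x : X.left, VarDim.deg X.hom x = VarDim.deg Y.hom (f.left x) := fun x => by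
    rw [VarDim.deg_eq_add f.left Y.hom (Over.w f) x, fdeg_eq_zero f x, add_zero]
  rw [VarDim.topologicalKrullDim_eq_iSup_deg X.hom, VarDim.topologicalKrullDim_eq_iSup_deg Y.hom,
    ← f.left.surjective.iSup_comp (g := fun y => ((VarDim.deg Y.hom y : ℕ∞) : WithBot ℕ∞))]
  exact iSup_congr fun x => by rw [h x]

/-- A homomorphism with finite kernel is quasi-finite. -/
theorem lqf_of_finite_kernel [QuasiCompact G.hom] [LocallyOfFiniteType H.hom] (u : G ⟶ H) [IsMonHom u]
    (h : ∀ (N : Over (Spec (CommRingCat.of k))) (i : N ⟶ G), AlgGrp.IsKernel i u → IsFinite N.hom) :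
    IsFinite u.left := by
  haveI := GrpSchLib.AntiAffine.isSeparated_grp H
  haveI := Deform.Chev.quasiCompact_of_grp u
  obtain ⟨N, iN, i, -, -, -, hk⟩ := GrpSchLib.exists_kernel u
  haveI := h N i hk
  have sq : IsPullback i.left (toUnit N).left u.left η[H].left := hk.map (Over.forget _)
  haveI : LocallyQuasiFinite N.hom := inferInstance
  haveI : DiscreteTopology N.left := by
    haveI : DiscreteTopology ↥(Spec (CommRingCat.of k)) := inferInstanceAs (DiscreteTopology (PrimeSpectrum k))
    haveI : Finite N.left := Set.finite_univ_iff.mp (by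
      have hf := N.hom.finite_preimage_singleton (IsLocalRing.closedPoint k)
      have e : N.hom ⁻¹' {IsLocalRing.closedPoint k} = Set.univ :=
        Set.eq_univ_of_forall fun x => @Subsingleton.elim (PrimeSpectrum k) inferInstance _ _
      rwa [e] at hf)
    haveI : JacobsonSpace N.left := LocallyOfFiniteType.jacobsonSpace N.hom
    infer_instance
  exact GrpSchLib.HomFinite.isFinite_of_discrete_ker u sq.isoPullback.inv.homeomorph.isEmbedding.discreteTopology

/-- The identity component as an open subgroup. -/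
theorem exists_open_component (F : Over (Spec (CommRingCat.of k))) [GrpObj F] [LocallyOfFiniteType F.hom] :
    ∃ (G₀ : Over (Spec (CommRingCat.of k))) (_ : GrpObj G₀) (c : G₀ ⟶ F), IsMonHom c ∧ IsClosedImmersion c.left ∧
      IsOpenImmersion c.left ∧ Set.range c.left = connectedComponent (η[F].left (IsLocalRing.closedPoint k)) ∧
      IrreducibleSpace G₀.left ∧ LocallyOfFiniteType G₀.hom ∧ QuasiCompact G₀.hom ∧
      topologicalKrullDim G₀.left = topologicalKrullDim F.left := by
  obtain ⟨G₀, iG₀, c, hc, hcc, hcf, hcr, hgi, hcp⟩ := GrpSchLib.exists_identityComponent (K := k) (G := F)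
  haveI := hcc; haveI := hcf; haveI := hgi; haveI := hcp
  haveI : IsLocallyNoetherian F.left := LocallyOfFiniteType.isLocallyNoetherian F.hom
  haveI : IsOpenImmersion c.left := IsOpenImmersion.of_flat_of_mono c.left
  haveI : LocallyOfFiniteType G₀.hom := by rw [← Over.w c]; infer_instance
  haveI : Flat G₀.hom := by rw [← Over.w c]; infer_instance
  haveI : IrreducibleSpace G₀.left := GeometricallyIrreducible.irreducibleSpace_of_subsingleton G₀.hom
  haveI : QuasiCompact G₀.hom := (quasiCompact_iff_compactSpace _).mpr inferInstance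
  refine ⟨G₀, iG₀, c, hc, hcc, inferInstance, hcr, inferInstance, inferInstance, inferInstance, ?_⟩
  have hg : GrpSchLib.IsMaxPt (c.left (genericPoint G₀.left)) := fun d hd => by
    have hmem : d ∈ Set.range c.left :=
      hd.mem_open c.left.isOpenEmbedding.isOpen_range ⟨_, rfl⟩
    obtain ⟨d₀, rfl⟩ := hmem
    exact congrArg c.left ((c.left.isOpenEmbedding.isInducing.specializes_iff.mp hd).antisymm
      (genericPoint_specializes d₀)).eq
  rw [GrpSchLib.topologicalKrullDim_eq_deg hg, VarDim.topologicalKrullDim_eq_deg_genericPoint G₀.hom,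
    VarDim.deg_eq_add c.left F.hom (Over.w c) (genericPoint G₀.left), VarDim.fdeg, VarDim.rdeg_preimmersion,
    map_zero, add_zero]

/-- A quasi-finite homomorphism to a smooth group of the same dimension is flat. -/
theorem flat_of_lqf [LocallyOfFiniteType H.hom] [Smooth H.hom] (u : G ⟶ H) [IsMonHom u] [LocallyQuasiFinite u.left]
    (hdim : topologicalKrullDim G.left = topologicalKrullDim H.left) : Flat u.left := by
  obtain ⟨G₀, iG, c, hc, hcc, hco, hcr, hci, hcl, hcq, hcd⟩ := exists_open_component G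
  obtain ⟨H₀, iH, d, hd, hdc, hdo, hdr, hdi, hdl, hdq, hdd⟩ := exists_open_component H
  letI := iG; letI := iH
  haveI := hc; haveI := hd; haveI := hco; haveI := hdo; haveI := hci; haveI := hdi
  haveI := hcl; haveI := hdl; haveI := hcq; haveI := hdq; haveI := hdc; haveI := hcc
  have hunit : (c ≫ u).left (η[G₀].left (IsLocalRing.closedPoint k)) = η[H].left (IsLocalRing.closedPoint k) :=
    congrArg (fun f : 𝟙_ _ ⟶ H => f.left (IsLocalRing.closedPoint k)) (IsMonHom.one_hom (c ≫ u))
  have hrange : Set.range (c ≫ u).left ⊆ Set.range d.left := by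
    rw [hdr]
    exact (isPreconnected_range (c ≫ u).left.continuous).subset_connectedComponent ⟨_, hunit⟩
  let v : G₀ ⟶ H₀ := Over.homMk (IsOpenImmersion.lift d.left (c ≫ u).left hrange) (by
    rw [← Over.w d, IsOpenImmersion.lift_fac_assoc, Over.w (c ≫ u)])
  have hv : v ≫ d = c ≫ u := Over.OverMorphism.ext (IsOpenImmersion.lift_fac _ _ _)
  haveI : Mono d := (Over.forget _).mono_of_mono_map (inferInstanceAs (Mono d.left))
  haveI : IsMonHom v := WittEndoLib.isMonHom_of_mul v fun Y x y => by
    rw [← cancel_mono d]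
    simp only [MonObj.mul_comp, Category.assoc, hv]
  haveI : LocallyOfFiniteType (u.left ≫ H.hom) := by rw [Over.w u]; infer_instance
  haveI : LocallyOfFiniteType u.left := locallyOfFiniteType_of_comp u.left H.hom
  haveI : LocallyQuasiFinite (c ≫ u).left := inferInstanceAs (LocallyQuasiFinite (c.left ≫ u.left))
  haveI : LocallyQuasiFinite (v.left ≫ d.left) := by rw [← Over.comp_left, hv]; infer_instance
  haveI : LocallyQuasiFinite v.left := LocallyQuasiFinite.of_comp v.left d.left
  haveI : LocallyOfFiniteType (v.left ≫ H₀.hom) := by rw [Over.w v]; infer_instance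
  haveI : LocallyOfFiniteType v.left := locallyOfFiniteType_of_comp v.left H₀.hom
  haveI := GrpSchLib.AntiAffine.isSeparated_grp H₀
  haveI := GrpSchLib.AntiAffine.isSeparated_grp G₀
  haveI := Deform.Chev.quasiCompact_of_grp v
  haveI : IsSeparated (v.left ≫ H₀.hom) := by rw [Over.w v]; infer_instance
  haveI : IsSeparated v.left := IsSeparated.of_comp v.left H₀.hom
  haveI : IsFinite v.left := GrpSchLib.HomFinite.isFinite v
  haveI : Surjective v.left := by
    have hη : v.left (genericPoint G₀.left) = genericPoint H₀.left := by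
      refine (VarDim.eq_of_specializes_of_deg_le (p := H₀.hom) (genericPoint_specializes _) ?_).symm
      have h1 := VarDim.deg_eq_add v.left H₀.hom (Over.w v) (genericPoint G₀.left)
      rw [fdeg_eq_zero v, add_zero] at h1
      have h2 := hcd.trans (hdim.trans hdd.symm)
      rw [VarDim.topologicalKrullDim_eq_deg_genericPoint G₀.hom,
        VarDim.topologicalKrullDim_eq_deg_genericPoint H₀.hom] at h2
      rw [← h1]
      exact_mod_cast h2.ge
    exact ⟨Set.range_eq_univ.mp (Set.eq_univ_of_univ_subset fun x _ =>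
      (genericPoint_specializes x).mem_closed v.left.isClosedMap.isClosed_range ⟨_, hη⟩)⟩
  haveI : Smooth H₀.hom := by rw [← Over.w d]; infer_instance
  haveI : GeometricallyReduced H₀.hom := GrpSchLib.IsogenyFibre.geometricallyReduced_of_smooth' H₀.hom
  haveI : Flat v.left := (GrpSchLib.HomFlatLft.flat_hom v).1
  haveI hcu : Flat (c.left ≫ u.left) := by
    rw [← Over.comp_left, ← hv, Over.comp_left]; infer_instance
  haveI : LocallyOfFinitePresentation u.left := by
    haveI : IsLocallyNoetherian H.left := LocallyOfFiniteType.isLocallyNoetherian H.hom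
    infer_instance
  refine Flat.of_stalkMap _ fun x => (GrpSchLib.HomFibre.mem_loc_FL_iff u.left x).mp ?_
  refine GrpSchLib.Saturate.saturated (GrpSchLib.Saturate.homAction u) u (GrpSchLib.Saturate.equivariant_hom u)
    GrpSchLib.Loci.compat_FL ⟨inferInstance, inferInstance⟩
    (x := c.left (η[G₀].left (IsLocalRing.closedPoint k))) ?_ (Subsingleton.elim _ _)
  refine (GrpSchLib.HomFibre.mem_loc_FL_iff u.left _).mpr ?_
  have := Flat.stalkMap (c.left ≫ u.left) (η[G₀].left (IsLocalRing.closedPoint k))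
  erw [Scheme.Hom.stalkMap_comp, CommRingCat.hom_comp] at this
  exact (RingHom.Flat.respectsIso.cancel_right_isIso _ (c.left.stalkMap _)).mp this

/-- A commutative group without `G_a` whose smooth connected subgroups have injective multiplication by some
`ℓ ≥ 2` is finite. -/
theorem isFinite_of_mono_pow {K : Type u} [Field K] [IsAlgClosed K] (F : Over (Spec (CommRingCat.of K)))
    [GrpObj F] [IsCommMonObj F] [LocallyOfFiniteType F.hom] [QuasiCompact F.hom]
    (hF : ∀ j : Red.Ga (Spec (CommRingCat.of K)) ⟶ F, IsMonHom j → IsClosedImmersion j.left → False)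
    {ℓ : ℕ} (hℓ : 2 ≤ ℓ)
    (hmono : ∀ (T : Over (Spec (CommRingCat.of K))) [GrpObj T] [IsCommMonObj T] [Smooth T.hom]
      [QuasiCompact T.hom] [ConnectedSpace T.left] (i : T ⟶ F) [IsMonHom i] [Mono i],
      Mono (𝟙 T ^ ℓ : T ⟶ T)) : IsFinite F.hom := by
  obtain ⟨R, iR, r, hr, hrc, hRr, hrs, hRl, hRq⟩ := GrpSchLib.RedSubgroup.exists_redSubgroup F
  letI := iR
  haveI := hr; haveI := hrc; haveI := hRr; haveI := hrs; haveI := hRl; haveI := hRq
  obtain ⟨T, iT, c, hc, hcc, hco, hcr, hci, hcl, hcq, -⟩ := exists_open_component R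
  letI := iT
  haveI := hc; haveI := hcc; haveI := hco; haveI := hci; haveI := hcl; haveI := hcq
  haveI : IsReduced T.left := isReduced_of_isOpenImmersion c.left
  haveI : Smooth T.hom := GrpSchLib.smooth_of_perfectField_of_isReduced T
  haveI : ConnectedSpace T.left := inferInstance
  let i : T ⟶ F := c ≫ r
  haveI : IsClosedImmersion i.left := inferInstanceAs (IsClosedImmersion (c.left ≫ r.left))
  haveI : Mono i := (Over.forget _).mono_of_mono_map (inferInstanceAs (Mono i.left))
  haveI : IsCommMonObj T := Deform.Extension.isCommMonObj_of fun Y x y => by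
    rw [← cancel_mono i, MonObj.mul_comp, MonObj.mul_comp, Deform.Extension.mul_comm_of (x ≫ i)]
  have hsab := NoGa.isSemiAb T fun j hj hjc => by
    haveI := hj; haveI := hjc
    exact hF (j ≫ i) inferInstance (inferInstanceAs (IsClosedImmersion (j.left ≫ i.left)))
  -- multiplication by `ℓ` is an isomorphism on the component
  haveI : IsMonHom (𝟙 T ^ ℓ : T ⟶ T) := Deform.Chev.SemiAb.isMonHom_pow (𝟙 T) ℓ
  haveI := GrpSchLib.AntiAffine.isSeparated_grp T
  obtain ⟨hfl, hsu, hfi⟩ := Deform.Chev.SemiAbExt.pow_props hsab (by omega : 0 < ℓ)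
  haveI := hfl; haveI := hsu; haveI := hfi
  haveI : Mono (𝟙 T ^ ℓ : T ⟶ T) := hmono T i
  haveI : IsLocallyNoetherian T.left := LocallyOfFiniteType.isLocallyNoetherian T.hom
  haveI : LocallyOfFinitePresentation (𝟙 T ^ ℓ : T ⟶ T).left := inferInstance
  haveI : Mono (𝟙 T ^ ℓ : T ⟶ T).left := inferInstanceAs (Mono ((Over.forget _).map (𝟙 T ^ ℓ : T ⟶ T)))
  haveI : IsOpenImmersion (𝟙 T ^ ℓ : T ⟶ T).left := IsOpenImmersion.of_flat_of_mono _
  haveI : IsIso ((Over.forget _).map (𝟙 T ^ ℓ : T ⟶ T)) :=
    show IsIso (𝟙 T ^ ℓ : T ⟶ T).left from (isIso_iff_isOpenImmersion_and_epi_base _).mpr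
      ⟨inferInstance, (TopCat.epi_iff_surjective _).mpr (𝟙 T ^ ℓ : T ⟶ T).left.surjective⟩
  haveI : IsIso (𝟙 T ^ ℓ : T ⟶ T) := isIso_of_reflects_iso _ (Over.forget _)
  haveI : IsMonHom (inv (𝟙 T ^ ℓ : T ⟶ T)) := WittEndoLib.isMonHom_of_mul _ fun _ x y => by
    rw [← cancel_mono (𝟙 T ^ ℓ : T ⟶ T)]
    simp only [MonObj.mul_comp, Category.assoc, IsIso.inv_hom_id, Category.comp_id]
  have hpw : ∀ j : ℕ, ∃ v : T ⟶ T, IsMonHom v ∧ v ^ (ℓ ^ j) = 𝟙 T := by
    intro j
    induction j with
    | zero => exact ⟨𝟙 T, inferInstance, by rw [pow_zero, pow_one]⟩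
    | succ j ih =>
      obtain ⟨v, hv, hvj⟩ := ih
      haveI := hv
      refine ⟨inv (𝟙 T ^ ℓ : T ⟶ T) ≫ v, inferInstance, ?_⟩
      rw [pow_succ, pow_mul, ← MonObj.comp_pow, hvj, Category.comp_id, ← Category.id_comp (inv _),
        ← Deform.Extension.pow_comp_hom, IsIso.hom_inv_id]
  have hT1 : (𝟙 T : T ⟶ T) = 1 := EndSep.eq_one_semiAb hsab hℓ _ hpw
  -- the component is a point
  have hsub : Subsingleton T.left := by
    refine ⟨fun a b => ?_⟩
    have key : ∀ z : T.left, z = η[T].left (IsLocalRing.closedPoint K) := fun z => by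
      conv_lhs => rw [show z = (𝟙 T : T ⟶ T).left z from rfl, hT1, Hom.one_def]
      show η[T].left _ = _
      exact congrArg _ (@Subsingleton.elim (PrimeSpectrum K) inferInstance _ _)
    rw [key a, key b]
  have hcomp : connectedComponent (η[R].left (IsLocalRing.closedPoint K)) = {η[R].left (IsLocalRing.closedPoint K)} := by
    refine Set.Subsingleton.eq_singleton_of_mem ?_ mem_connectedComponent
    rw [← hcr]
    rintro _ ⟨a, rfl⟩ _ ⟨b, rfl⟩
    rw [Subsingleton.elim a b]
  haveI : DiscreteTopology R.left := AVRosati.QuasiSection.discreteTopology_of_component hcomp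
  haveI : CompactSpace R.left := QuasiCompact.compactSpace_of_compactSpace R.hom
  haveI : Finite R.left := finite_of_compact_of_discrete
  haveI : Finite F.left := Finite.of_surjective r.left r.left.surjective
  haveI : LocallyQuasiFinite F.hom := LocallyQuasiFinite.of_finite_preimage_singleton _ fun _ => Set.toFinite _
  exact IsFinite.of_locallyQuasiFinite F.hom

/-- A commutative group without `G_a` and without points of some order prime to the characteristic is finite. -/
theorem isFinite_of_torsion_trivial {K : Type u} [Field K] [IsAlgClosed K] (F : Over (Spec (CommRingCat.of K)))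
    [GrpObj F] [IsCommMonObj F] [LocallyOfFiniteType F.hom] [QuasiCompact F.hom]
    (hF : ∀ j : Red.Ga (Spec (CommRingCat.of K)) ⟶ F, IsMonHom j → IsClosedImmersion j.left → False)
    {ℓ : ℕ} (hℓ : 2 ≤ ℓ) (hℓK : (ℓ : K) ≠ 0)
    (htors : ∀ x : 𝟙_ (Over (Spec (CommRingCat.of K))) ⟶ F, x ^ ℓ = 1 → x = 1) : IsFinite F.hom := by
  refine isFinite_of_mono_pow F hF hℓ fun T _ _ _ _ _ i _ _ => ?_
  haveI : IsMonHom (𝟙 T ^ ℓ : T ⟶ T) := Deform.Chev.SemiAb.isMonHom_pow (𝟙 T) ℓ
  haveI := GrpSchLib.AntiAffine.isSeparated_grp T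
  haveI := S4112.result K T ℓ hℓK
  obtain ⟨N, iN, m, hm, hmc, -, hk⟩ := GrpSchLib.exists_kernel (𝟙 T ^ ℓ : T ⟶ T)
  letI := iN
  haveI := hm; haveI := hmc
  haveI : Etale N.hom := by
    have sq : IsPullback m.left (toUnit N).left (𝟙 T ^ ℓ : T ⟶ T).left η[T].left := hk.map (Over.forget _)
    exact MorphismProperty.of_isPullback (P := @Etale) sq ‹_›
  haveI : Mono m := (Over.forget _).mono_of_mono_map (inferInstanceAs (Mono m.left))
  have hN1 : (𝟙 N : N ⟶ N) = 1 := by
    haveI : Subsingleton N.left := by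
      haveI : JacobsonSpace N.left := LocallyOfFiniteType.jacobsonSpace N.hom
      haveI : DiscreteTopology N.left := by
        haveI : DiscreteTopology ↥(N.hom ⁻¹' {IsLocalRing.closedPoint K}) :=
          isDiscrete_iff_discreteTopology.mp (Scheme.Hom.isDiscrete_preimage_singleton _ _)
        have e : N.hom ⁻¹' {IsLocalRing.closedPoint K} = Set.univ :=
          Set.eq_univ_of_forall fun x => @Subsingleton.elim (PrimeSpectrum K) inferInstance _ _
        exact ((Homeomorph.Set.univ N.left).symm.trans (Homeomorph.setCongr e.symm)).isEmbedding.discreteTopology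
      refine ⟨fun a b => ?_⟩
      have key : ∀ z : N.left, z = η[N].left (IsLocalRing.closedPoint K) := fun z => by
        obtain ⟨x, hx⟩ := AVTorsLib.exists_pnt_eq (X := N) (x := z) (isClosed_discrete _)
        have h1 : (x ≫ m ≫ i) = 1 := htors _ (by
          have h : (x ≫ m) ^ ℓ = 1 := by
            have hw : m ≫ (𝟙 T ^ ℓ : T ⟶ T) = 1 := hk.w
            rw [← MonObj.comp_one x, ← hw, MonObj.comp_pow, Category.comp_id, ← MonObj.comp_pow]
          rw [← Category.assoc, ← Deform.Extension.pow_comp_hom i, h, MonObj.one_comp])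
        have h2 : x = 1 := by
          rw [← cancel_mono m, ← cancel_mono i, Category.assoc, h1, MonObj.one_comp, MonObj.one_comp]
        rw [← hx, h2, MonObj.one_eq_one]
        rfl
      rw [key a, key b]
    haveI : IsReduced N.left := GrpSchLib.isReduced_of_smooth_field N.hom
    haveI := GrpSchLib.AntiAffine.isSeparated_grp N
    haveI : IsClosedImmersion η[N].left := by
      haveI : IsClosedImmersion (η[N].left ≫ N.hom) := by
        rw [Over.w]; exact inferInstanceAs (IsClosedImmersion (𝟙 (Spec (CommRingCat.of K))))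
      exact IsClosedImmersion.of_comp η[N].left N.hom
    haveI : Surjective η[N].left := ⟨fun z => ⟨IsLocalRing.closedPoint K, Subsingleton.elim _ _⟩⟩
    haveI : IsIso η[N].left := isIso_of_isClosedImmersion_of_surjective η[N].left
    haveI : IsIso ((Over.forget _).map η[N]) := inferInstanceAs (IsIso η[N].left)
    haveI : IsIso η[N] := isIso_of_reflects_iso η[N] (Over.forget _)
    exact Deform.Chev.SemiAbExt.eq_one_of_isIso_eta _
  exact ⟨fun a b hab => by
    have hd : (a * b⁻¹) ≫ (𝟙 T ^ ℓ : T ⟶ T) = 1 := by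
      rw [MonObj.mul_comp, GrpObj.inv_comp, hab, mul_inv_cancel]
    obtain ⟨n', hn'⟩ := Deform.Chev.exists_lift_kernel m _ hk _ hd
    have : a * b⁻¹ = 1 := by rw [← hn', ← Category.comp_id n', hN1, MonObj.comp_one, MonObj.one_comp]
    exact mul_inv_eq_one.mp this⟩

/-- A commutative group without `G_a` and without torsion of some order `ℓ ≥ 2` is finite. -/
theorem isFinite_of_kernel_trivial {K : Type u} [Field K] [IsAlgClosed K] (F : Over (Spec (CommRingCat.of K)))
    [GrpObj F] [IsCommMonObj F] [LocallyOfFiniteType F.hom] [QuasiCompact F.hom]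
    (hF : ∀ j : Red.Ga (Spec (CommRingCat.of K)) ⟶ F, IsMonHom j → IsClosedImmersion j.left → False)
    {ℓ : ℕ} (hℓ : 2 ≤ ℓ)
    (htors : ∀ (Y : Over (Spec (CommRingCat.of K))) (x : Y ⟶ F), x ^ ℓ = 1 → x = 1) : IsFinite F.hom := by
  refine isFinite_of_mono_pow F hF hℓ fun T _ _ _ _ _ i _ _ => ⟨fun {Y} a b hab => ?_⟩
  haveI : IsMonHom (𝟙 T ^ ℓ : T ⟶ T) := Deform.Chev.SemiAb.isMonHom_pow (𝟙 T) ℓ
  have hd : (a * b⁻¹) ≫ (𝟙 T ^ ℓ : T ⟶ T) = 1 := by
    rw [MonObj.mul_comp, GrpObj.inv_comp, hab, mul_inv_cancel]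
  rw [MonObj.comp_pow, Category.comp_id] at hd
  have h1 : (a * b⁻¹) ≫ i = 1 := htors Y _ (by rw [← Deform.Extension.pow_comp_hom i, hd, MonObj.one_comp])
  refine mul_inv_eq_one.mp ?_
  rw [← cancel_mono i, h1, MonObj.one_comp]

end

end Groth.Agent.NeronComp.IsogFib
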