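import Groth.Agent.NeronComp.IsogSpec
import Groth.Agent.GraphExt.Basic
import Groth.Agent.FlatMisc.Fibrewise

/-!
# Specialisation of isogenies of degree one
-/

set_option autoImplicit false
set_option linter.style.haveILetI false
set_option backward.isDefEq.respectTransparency false

universe u

open CategoryTheory CategoryTheory.Limits MonoidalCategory CartesianMonoidalCategory MonObj GrpObj AlgebraicGeometry
open IsLocalRing

attribute [local instance] CategoryTheory.Hom.monoid CategoryTheory.Hom.group

namespace Groth.Agent.NeronComp.IsogMono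

open GrpSchLib.HomFibre GrpSchLib.Loci

noncomputable section

variable {S : Scheme.{u}} {G H : Over S} [GrpObj G] [GrpObj H] (u : G ⟶ H)

/-- The kernel of `u` has only the trivial point over `Y`-schemes. -/
def Triv {Y : Scheme.{u}} (g : Y ⟶ S) : Prop :=
  ∀ (T : Over S) (b : T.left ⟶ Y), b ≫ g = T.hom → ∀ a : T ⟶ G, a ≫ u = 1 → a = 1

theorem Triv.comp {Y Y' : Scheme.{u}} {g : Y ⟶ S} (h : Triv u g) (f : Y' ⟶ Y) : Triv u (f ≫ g) :=
  fun T b hb a ha => h T (b ≫ f) (by rw [Category.assoc]; exact hb) a ha

theorem triv_of_mono {Y : Scheme.{u}} (g : Y ⟶ S) [Mono ((Over.pullback g).map u)] [IsMonHom u] : Triv u g := by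
  intro T b hb a ha
  let Z : Over Y := Over.mk b
  let e : (Over.map g).obj Z ≅ T := Over.isoMk (Iso.refl _) (by
    show 𝟙 _ ≫ T.hom = b ≫ g
    rw [hb, Category.id_comp])
  rw [← cancel_epi e.hom, MonObj.comp_one]
  apply (PtAdj.adjHom g Z G).injective
  rw [map_one, ← cancel_mono ((Over.pullback g).map u), ← PtAdj.adjHom_comp g u, Category.assoc, ha, MonObj.comp_one,
    map_one, MonObj.one_comp]

theorem mono_of_triv [IsMonHom u] {Y : Scheme.{u}} (g : Y ⟶ S) (h : Triv u g) :
    Mono ((Over.pullback g).map u) := by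
  refine ⟨fun {T} x y hxy => ?_⟩
  let e := PtAdj.adjHom g T G
  have hd : (x * y⁻¹) ≫ (Over.pullback g).map u = 1 := by
    rw [MonObj.mul_comp, GrpObj.inv_comp, hxy, mul_inv_cancel]
  have h1 : e.symm (x * y⁻¹) = 1 := h _ T.hom rfl _ (by
    rw [← PtAdj.adjHom_symm_comp g u, hd, map_one])
  exact mul_inv_eq_one.mp ((map_eq_one_iff e.symm e.symm.injective).mp h1)

theorem Triv.bc [IsMonHom u] {S' Y : Scheme.{u}} (i : S' ⟶ S) (g : Y ⟶ S') (h : Triv u (g ≫ i)) :
    Triv ((Over.pullback i).map u) g := by
  intro T b hb a ha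
  let e := PtAdj.adjHom i T G
  have h1 : e.symm a = 1 := h _ b (by
    show b ≫ g ≫ i = T.hom ≫ i
    rw [← Category.assoc, hb]) _ (by rw [← PtAdj.adjHom_symm_comp i u, ha, map_one])
  exact (map_eq_one_iff e.symm e.symm.injective).mp h1

/-- A flat homomorphism over a valuation ring with trivial generic kernel has trivial kernel. -/
theorem triv_val [IsMonHom u] [IsSeparated G.hom] {R K : Type u} [CommRing R] [IsDomain R] [Field K] [Algebra R K]
    (hinj : Function.Injective (algebraMap R K)) (i : Spec (CommRingCat.of R) ⟶ S)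
    [Flat ((Over.pullback i).map u).left]
    (h : Triv u (Spec.map (CommRingCat.ofHom (algebraMap R K)) ≫ i)) : Triv u i := by
  let ge := Spec.map (CommRingCat.ofHom (algebraMap R K))
  let v := (Over.pullback i).map u
  let X := Red.bc i G
  let e₀ := η[Red.bc i H]
  let q := pullback.snd v.left e₀.left
  haveI : Flat q := MorphismProperty.pullback_snd (P := @Flat) _ _ ‹_›
  let PA : Over (Spec (CommRingCat.of R)) := Over.mk q
  let i₀ : PA ⟶ X := Over.homMk (pullback.fst v.left e₀.left) (by
    show pullback.fst v.left e₀.left ≫ X.hom = q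
    rw [← Over.w v, pullback.condition_assoc, Over.w e₀]
    exact Category.comp_id _)
  have hi₀ : i₀ ≫ v = 1 := by
    rw [Hom.one_def]
    ext1
    exact pullback.condition
  haveI : IsDominant ge := AlgSpVal.isDominant_generic hinj
  haveI : IsSchemeTheoreticallyDominant ge := .of_isDominant ge
  let j := pullback.fst q ge
  haveI : IsSeparated X.hom := inferInstanceAs (IsSeparated (pullback.snd G.hom i))
  have hX : Triv v ge := Triv.bc u i ge h
  have hi : i₀ = 1 := by
    ext1
    refine GraphExt.ext_of_std j _ _ X.hom ((Over.w i₀).trans (Over.w (1 : PA ⟶ X)).symm) ?_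
    let W : Over (Spec (CommRingCat.of R)) := Over.mk (j ≫ q)
    let wj : W ⟶ PA := Over.homMk j rfl
    have := hX W (pullback.snd q ge) pullback.condition.symm (wj ≫ i₀) (by rw [Category.assoc, hi₀, MonObj.comp_one])
    have h2 := congrArg Over.Hom.left this
    rw [← MonObj.comp_one wj] at h2
    exact h2
  intro T b hb a ha
  let Z : Over (Spec (CommRingCat.of R)) := Over.mk b
  let e : (Over.map i).obj Z ≅ T := Over.isoMk (Iso.refl _) (by
    show 𝟙 _ ≫ T.hom = b ≫ i
    rw [hb, Category.id_comp])
  rw [← cancel_epi e.hom, MonObj.comp_one]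
  apply (PtAdj.adjHom i Z G).injective
  rw [map_one]
  let c := PtAdj.adjHom i Z G (e.hom ≫ a)
  have hc : c ≫ v = 1 := by rw [← PtAdj.adjHom_comp i u, Category.assoc, ha, MonObj.comp_one, map_one]
  let l : Z ⟶ PA := Over.homMk (pullback.lift c.left b (by
    rw [← Over.comp_left, hc, Hom.one_def]; rfl)) (pullback.lift_snd _ _ _)
  have hl : c = l ≫ i₀ := Over.OverMorphism.ext (pullback.lift_fst _ _ _).symm
  show c = 1
  rw [hl, hi, MonObj.comp_one]

/-- A homomorphism flat near a point has trivial kernel there if it does at a generization. -/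
theorem triv_fibre [IsMonHom u] [IsSeparated G.hom] {t x : S} (htx : t ⤳ x) (h : Triv u (S.fromSpecResidueField t))
    (hflat : ∀ {T : Scheme.{u}} (g : T ⟶ S), (∀ w, g w ⤳ x) → Flat ((Over.pullback g).map u).left) :
    Triv u (S.fromSpecResidueField x) := by
  have ht : Red.geomPt t (closedPoint (AlgebraicClosure (S.residueField t))) = t := by
    rw [Scheme.Hom.comp_apply]
    exact Scheme.fromSpecResidueField_apply t _
  obtain ⟨A, i, hi, hiK⟩ := AlgSpVal.exists_valuationRing_through (Red.geomPt t) x (by rw [ht]; exact htx)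
  haveI := hflat i fun w => hi ▸ (IsLocalRing.specializes_closedPoint w).map i.continuous
  have hA : Triv u i := triv_val u (FaithfulSMul.algebraMap_injective A _) i (by rw [hiK]; exact h.comp u _)
  obtain ⟨⟨x', φ⟩, hφ⟩ := (Scheme.SpecToEquivOfField (ResidueField A) S).symm.surjective (IsogSpec.rsd A ≫ i)
  replace hφ : Spec.map φ ≫ S.fromSpecResidueField x' = IsogSpec.rsd A ≫ i := hφ
  obtain rfl : x' = x := by
    have h := congrArg (fun q : Spec (CommRingCat.of (ResidueField A)) ⟶ S => q (closedPoint (ResidueField A))) hφ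
    simp only [Scheme.Hom.comp_apply, Scheme.fromSpecResidueField_apply, IsogSpec.rsd_apply] at h
    exact h.trans hi
  intro T b hb a ha
  haveI : Flat (Spec.map φ) := by
    rw [HasRingHomProperty.Spec_iff (P := @Flat)]
    exact RingHom.Flat.of_isField (Field.toIsField _) _
  haveI : Surjective (Spec.map φ) := ⟨fun w => ⟨closedPoint (ResidueField A),
    Subsingleton.elim (α := PrimeSpectrum (S.residueField x')) _ _⟩⟩
  let p := pullback.fst b (Spec.map φ)
  haveI : Flat p := MorphismProperty.pullback_fst (P := @Flat) _ _ ‹_›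
  haveI : Surjective p := MorphismProperty.pullback_fst (P := @Surjective) _ _ ‹_›
  let r : Over.mk (p ≫ T.hom) ⟶ T := Over.homMk p rfl
  haveI : Epi r.left := Flat.epi_of_flat_of_surjective p
  refine PtAdj.eq_one_of_epi r a (hA _ (pullback.snd b (Spec.map φ) ≫ IsogSpec.rsd A) ?_ _ ?_)
  · rw [Category.assoc, ← hφ, ← pullback.condition_assoc, hb]
    rfl
  · rw [Category.assoc, ha, MonObj.comp_one]

/-- The fibre of a homomorphism, flat and with trivial kernel, is an open immersion. -/
theorem isOpenImmersion_fib [IsMonHom u] [LocallyOfFinitePresentation u.left] (x : S)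
    (h : Triv u (S.fromSpecResidueField x)) [Flat (GrpSchLib.HomFibre.fib u x).left] :
    IsOpenImmersion (GrpSchLib.HomFibre.fib u x).left := by
  haveI := mono_of_triv u _ h
  haveI : Mono (GrpSchLib.HomFibre.fib u x).left :=
    inferInstanceAs (Mono ((Over.forget _).map (GrpSchLib.HomFibre.fib u x)))
  haveI := fib_lfp u (S.fromSpecResidueField x)
  exact IsOpenImmersion.of_flat_of_mono _

/-- A flat homomorphism with trivial kernels in all fibres is an open immersion. -/
theorem isOpenImmersion_of_triv [IsMonHom u] [LocallyOfFinitePresentation G.hom] [LocallyOfFiniteType H.hom]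
    [Flat G.hom] [Flat u.left] (h : ∀ x, Triv u (S.fromSpecResidueField x)) : IsOpenImmersion u.left := by
  haveI := lfp_of_flat_lfp u
  haveI : LocallyOfFinitePresentation (u.left ≫ H.hom) := by rw [Over.w u]; infer_instance
  haveI : Flat (u.left ≫ H.hom) := by rw [Over.w u]; infer_instance
  refine FlatMisc.isOpenImmersion_of_fibres H.hom u.left fun x => ?_
  haveI : Flat (GrpSchLib.HomFibre.fib u x).left :=
    MorphismProperty.of_isPullback (P := @Flat) (map_isPullback u _) ‹_›
  haveI := isOpenImmersion_fib u x (h x)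
  have sq := map_isPullback u (S.fromSpecResidueField x)
  show IsOpenImmersion (pullback.snd u.left (pullback.fst H.hom (S.fromSpecResidueField x)))
  rw [← sq.isoPullback_inv_snd]
  infer_instance

/-- Degree one isogenies specialise to open immersions. -/
theorem isOpenImmersion_special [IsCommMonObj G] [Flat G.hom] [IsSeparated G.hom]
    [LocallyOfFinitePresentation G.hom] [QuasiCompact G.hom] [Smooth H.hom] [IsMonHom u]
    {s t : S} (hts : t ⤳ s) (hs : SGA7.FibreUnipotentRankZero s G)
    (hiso : SGA7.IsIsogenyOver (SGA7.fibreHom t u)) [Mono (SGA7.fibreHom t u)] :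
    IsOpenImmersion (SGA7.fibreHom s u).left := by
  obtain ⟨U, hU, hg⟩ := IsogSpec.exists_nhd' u hts hs hiso
  haveI := lfp_of_flat_lfp u
  haveI := (hg (S.fromSpecResidueField s) fun w => by rw [Scheme.fromSpecResidueField_apply]; exact hU).1
  exact isOpenImmersion_fib u s (triv_fibre u hts (triv_of_mono u _)
    fun g hgs => (hg g fun w => (hgs w).mem_open U.2 hU).1)

/-- Degree one isogenies on the generic fibre are open immersions near points without `G_a`. -/
theorem isOpenImmersion_nhd [IsCommMonObj G] [Flat G.hom] [IsSeparated G.hom]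
    [LocallyOfFinitePresentation G.hom] [QuasiCompact G.hom] [Smooth H.hom] [IsMonHom u]
    {s t : S} (ht : ∀ x : S, t ⤳ x) (hs : SGA7.FibreUnipotentRankZero s G)
    (hiso : SGA7.IsIsogenyOver (SGA7.fibreHom t u)) [Mono (SGA7.fibreHom t u)] :
    ∃ U : S.Opens, s ∈ U ∧ IsOpenImmersion ((Over.pullback U.ι).map u).left := by
  obtain ⟨U, hU, hg⟩ := IsogSpec.exists_nhd' u (ht s) hs hiso
  refine ⟨U, hU, ?_⟩
  haveI := (hg U.ι fun w => w.2).1
  haveI : LocallyOfFinitePresentation (Red.bc U.ι G).hom :=
    inferInstanceAs (LocallyOfFinitePresentation (pullback.snd G.hom U.ι))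
  haveI : LocallyOfFiniteType (Red.bc U.ι H).hom :=
    inferInstanceAs (LocallyOfFiniteType (pullback.snd H.hom U.ι))
  haveI : Flat (Red.bc U.ι G).hom := inferInstanceAs (Flat (pullback.snd G.hom U.ι))
  refine isOpenImmersion_of_triv ((Over.pullback U.ι).map u) fun x => Triv.bc u U.ι _ ?_
  rw [← Scheme.Hom.SpecMap_residueFieldMap_fromSpecResidueField]
  refine Triv.comp u ?_ _
  exact triv_fibre u (ht _) (triv_of_mono u _) fun g hgs => (hg g fun w => (hgs w).mem_open U.2 x.2).1

end

end Groth.Agent.NeronComp.IsogMono
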