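import Groth.Agent.NeronComp.FibreEndo
import Groth.Agent.NeronComp.GoodInertia
import Groth.Agent.GrpSchLib.HomFibre

/-!
# Flatness of multiplication over a DVR
-/

set_option autoImplicit false
set_option linter.style.haveILetI false
set_option backward.isDefEq.respectTransparency false

universe u

open CategoryTheory CategoryTheory.Limits MonoidalCategory CartesianMonoidalCategory MonObj GrpObj AlgebraicGeometry

attribute [local instance] CategoryTheory.Hom.monoid CategoryTheory.Hom.group

namespace Groth.Agent.NeronComp.PowFlat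

open GrpSchLib.HomFibre

noncomputable section

variable {S : Scheme.{u}} {G H : Over S} (u : G ⟶ H)

theorem flat_of_fibres [LocallyOfFinitePresentation G.hom] [Flat G.hom] [LocallyOfFiniteType H.hom]
    (h : ∀ s, Flat (fib u s).left) : Flat u.left := by
  refine Flat.of_stalkMap _ fun x => ?_
  obtain ⟨z, hz⟩ := exists_incl x
  haveI := h (G.hom x)
  have := flat_of_fibre_flat u.left H.hom G.hom (Over.w u) (G.hom x) z (fib u (G.hom x)).left
    (pullback.lift_fst _ _ _) (Over.w (fib u (G.hom x))) (Flat.stalkMap _ z)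
  erw [hz] at this
  exact this

theorem lqf_iff_fibres [LocallyOfFiniteType u.left] :
    LocallyQuasiFinite u.left ↔ ∀ s, LocallyQuasiFinite (fib u s).left := by
  refine ⟨fun h s => MorphismProperty.of_isPullback (P := @LocallyQuasiFinite)
    (map_isPullback u (S.fromSpecResidueField s)) h, fun h => ?_⟩
  rw [← Scheme.Hom.quasiFiniteLocus_eq_top_iff, eq_top_iff]
  intro x _
  obtain ⟨z, hz⟩ := exists_incl x
  haveI := h (G.hom x)
  haveI := fib_lft u (S.fromSpecResidueField (G.hom x))
  have h1 : z ∈ GrpSchLib.Loci.loc (@LocallyQuasiFinite ⊓ @LocallyOfFiniteType : MorphismProperty Scheme.{u})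
      (fib u (G.hom x)).left := (mem_loc_LQ_iff _ z).mpr ((fib u (G.hom x)).left.quasiFiniteAt z)
  have h2 := (mem_loc_LQ_iff u.left _).mp ((lqf_iff u (G.hom x) z).mp h1)
  rw [hz] at h2
  exact h2

theorem surjective_of_fibres (h : ∀ s, Surjective (fib u s).left) : Surjective u.left := by
  refine ⟨fun y => ?_⟩
  obtain ⟨w, hw⟩ := exists_incl y
  haveI := h (H.hom y)
  obtain ⟨z, hz⟩ := (fib u (H.hom y)).left.surjective w
  refine ⟨incl G (H.hom y) z, ?_⟩
  rw [← Scheme.Hom.comp_apply, (map_isPullback u (S.fromSpecResidueField (H.hom y))).w, Scheme.Hom.comp_apply]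
  exact (congrArg _ hz).trans hw

variable (R K : Type u) [CommRing R] [IsDomain R] [IsDiscreteValuationRing R] [Field K]
  [Algebra R K] [IsFractionRing R K]

theorem eq_closedPoint_or_eq (s : Spec (CommRingCat.of R)) :
    s = IsLocalRing.closedPoint R ∨
      s = Spec.map (CommRingCat.ofHom (algebraMap R K)) (IsLocalRing.closedPoint K) := by
  by_cases h : s.asIdeal = ⊥
  · refine Or.inr (PrimeSpectrum.ext ?_)
    show s.asIdeal = Ideal.comap (algebraMap R K) (IsLocalRing.maximalIdeal K)
    rw [IsLocalRing.maximalIdeal_eq_bot, ← RingHom.ker_eq_comap_bot,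
      (RingHom.injective_iff_ker_eq_bot _).1 (IsFractionRing.injective R K), h]
  · haveI := s.isPrime
    exact Or.inl (PrimeSpectrum.ext (IsLocalRing.eq_maximalIdeal (Ideal.IsPrime.isMaximal_of_ne_bot (I := s.asIdeal) s.isPrime h)))

theorem natCast_residueField_closedPoint (m : ℕ) :
    (m : (Spec (CommRingCat.of R)).residueField (IsLocalRing.closedPoint R)) = 0 ↔
      (m : IsLocalRing.ResidueField R) = 0 := by
  obtain ⟨φ, hφ⟩ := Spec.map_surjective ((Spec (CommRingCat.of R)).fromSpecResidueField (IsLocalRing.closedPoint R))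
  have hker : RingHom.ker φ.hom = IsLocalRing.maximalIdeal R := by
    have h := congrArg (fun f : _ ⟶ Spec (CommRingCat.of R) => f (IsLocalRing.closedPoint _)) hφ
    simp only [Scheme.fromSpecResidueField_apply] at h
    have h2 := congrArg PrimeSpectrum.asIdeal h
    rw [show (IsLocalRing.closedPoint R).asIdeal = IsLocalRing.maximalIdeal R from rfl] at h2
    rw [← h2, RingHom.ker_eq_comap_bot]
    show Ideal.comap φ.hom ⊥ = Ideal.comap φ.hom (IsLocalRing.maximalIdeal _)
    rw [IsLocalRing.maximalIdeal_eq_bot]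
  rw [← map_natCast φ.hom, ← map_natCast (IsLocalRing.residue R), ← RingHom.mem_ker, ← RingHom.mem_ker, hker,
    IsLocalRing.ker_residue]

end

end Groth.Agent.NeronComp.PowFlat
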