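import Groth.Prelude.Def_SGA7IX
import Groth.Agent.Deform.Extension
import Mathlib.AlgebraicGeometry.Morphisms.Flat

/-!
# Points of base changes of group schemes
-/

set_option autoImplicit false
set_option linter.style.haveILetI false
set_option backward.isDefEq.respectTransparency false

universe u

open CategoryTheory CategoryTheory.Limits MonoidalCategory CartesianMonoidalCategory MonObj GrpObj AlgebraicGeometry

attribute [local instance] CategoryTheory.Hom.monoid CategoryTheory.Hom.group

namespace Groth.Agent.NeronComp.PtAdj

noncomputable section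

variable {S T : Scheme.{u}} (g : T ⟶ S)

/-- The group of `g`-points of a group scheme is that of the base change. -/
def adjHom (Z : Over T) (G : Over S) [GrpObj G] : ((Over.map g).obj Z ⟶ G) ≃* (Z ⟶ Red.bc g G) :=
  { (Over.mapPullbackAdj g).homEquiv Z G with
    map_mul' := fun x y => by
      show (Over.mapPullbackAdj g).homEquiv Z G (x * y) = _
      rw [Adjunction.homEquiv_unit, Functor.map_mul, MonObj.comp_mul]
      rfl }

theorem adjHom_fst {Z : Over T} {G : Over S} [GrpObj G] (x : (Over.map g).obj Z ⟶ G) :
    (adjHom g Z G x).left ≫ pullback.fst G.hom g = x.left :=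
  by simp [adjHom, Over.mapPullbackAdj, Adjunction.homEquiv_unit]

theorem adjHom_comp {Z : Over T} {G H : Over S} [GrpObj G] [GrpObj H] (u : G ⟶ H) (x : (Over.map g).obj Z ⟶ G) :
    adjHom g Z H (x ≫ u) = adjHom g Z G x ≫ (Over.pullback g).map u :=
  (Over.mapPullbackAdj g).homEquiv_naturality_right x u

theorem adjHom_symm_comp {Z : Over T} {G H : Over S} [GrpObj G] [GrpObj H] (u : G ⟶ H) (z : Z ⟶ Red.bc g G) :
    (adjHom g Z H).symm (z ≫ (Over.pullback g).map u) = (adjHom g Z G).symm z ≫ u :=
  (Over.mapPullbackAdj g).homEquiv_naturality_right_symm z u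

/-- A morphism over `S` that is an epimorphism of schemes is injective on points. -/
theorem eq_one_of_epi {A B : Over S} (r : A ⟶ B) [Epi r.left] {G : Over S} [GrpObj G] (x : B ⟶ G)
    (h : r ≫ x = 1) : x = 1 := by
  ext1
  rw [← cancel_epi r.left, ← Over.comp_left, h, ← Over.comp_left, MonObj.comp_one]

end

end Groth.Agent.NeronComp.PtAdj
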