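import Groth.Agent.NeronComp.IsogFib
import Groth.Agent.NeronComp.PtAdj
import Groth.Agent.NeronComp.Comp
import Groth.Agent.NeronComp.PowFlat
import Groth.Agent.H0PBC.Conn
import Groth.Agent.AlgSpVal.ValThrough
import Groth.Agent.AlgSpVal.Basic
import Groth.Agent.GrpSchLib.FibreDimGrp
import Groth.Agent.Deform.PowTorus

/-!
# Specialisation of homomorphisms which are isogenies on a generic fibre
-/

set_option autoImplicit false
set_option linter.style.haveILetI false
set_option backward.isDefEq.respectTransparency false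

universe u

open CategoryTheory CategoryTheory.Limits MonoidalCategory CartesianMonoidalCategory MonObj GrpObj AlgebraicGeometry
open IsLocalRing

attribute [local instance] CategoryTheory.Hom.monoid CategoryTheory.Hom.group

namespace Groth.Agent.NeronComp.IsogSpec

open GrpSchLib.HomFibre GrpSchLib.Loci

noncomputable section

variable {S : Scheme.{u}}

/-- The closed point of the spectrum of a local ring. -/
abbrev rsd (R : Type u) [CommRing R] [IsLocalRing R] :
    Spec (CommRingCat.of (ResidueField R)) ⟶ Spec (CommRingCat.of R) :=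
  Spec.map (CommRingCat.ofHom (residue R))

theorem rsd_apply (R : Type u) [CommRing R] [IsLocalRing R] (w : Spec (CommRingCat.of (ResidueField R))) :
    rsd R w = closedPoint R := by
  apply PrimeSpectrum.ext
  show Ideal.comap (residue R) w.asIdeal = maximalIdeal R
  rw [show w.asIdeal = ⊥ from Ideal.eq_bot_of_prime w.asIdeal]
  exact ker_residue

/-- Two sections through the etale locus which agree at the closed point agree. -/
theorem eq_of_etale {R : Type u} [CommRing R] [IsLocalRing R] {X Y : Scheme.{u}} (d : X ⟶ Y)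
    (z e : Spec (CommRingCat.of R) ⟶ X) (hd : z ≫ d = e ≫ d) (hc : rsd R ≫ z = rsd R ≫ e)
    (hloc : z (closedPoint R) ∈ loc @Etale d) : z = e := by
  obtain ⟨U, hU, hE⟩ := hloc
  haveI := hE
  have hpt : e (closedPoint R) = z (closedPoint R) := by
    have h := congrArg (fun q : _ ⟶ X => q (closedPoint (ResidueField R))) hc
    simp only [Scheme.Hom.comp_apply, rsd_apply] at h
    exact h.symm
  have hmem : ∀ (q : Spec (CommRingCat.of R) ⟶ X), q (closedPoint R) ∈ U → Set.range q ⊆ Set.range U.ι := by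
    intro q hq
    rintro _ ⟨w, rfl⟩
    rw [Scheme.Opens.range_ι]
    exact ((IsLocalRing.specializes_closedPoint w).map q.continuous).mem_open U.2 hq
  let z' := IsOpenImmersion.lift U.ι z (hmem z hU)
  let e' := IsOpenImmersion.lift U.ι e (hmem e (hpt ▸ hU))
  have hz : z' ≫ U.ι = z := IsOpenImmersion.lift_fac _ _ _
  have he : e' ≫ U.ι = e := IsOpenImmersion.lift_fac _ _ _
  let f := U.ι ≫ d
  let m : Spec (CommRingCat.of R) ⟶ pullback f f := pullback.lift z' e' (by
    simp only [f, ← Category.assoc, hz, he, hd])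
  let q := pullback.snd (pullback.diagonal f) m
  have hq : closedPoint R ∈ Set.range q := by
    have h : (rsd R ≫ z') ≫ pullback.diagonal f = rsd R ≫ m := by
      apply pullback.hom_ext
      · simp [m]
      · simp only [Category.assoc, pullback.diagonal_snd, Category.comp_id, m, pullback.lift_snd]
        rw [← cancel_mono U.ι, Category.assoc, Category.assoc, hz, he, hc]
    refine ⟨pullback.lift _ _ h (closedPoint (ResidueField R)), ?_⟩
    rw [← Scheme.Hom.comp_apply, pullback.lift_snd, rsd_apply]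
  haveI : Surjective q := ⟨fun w => ((IsLocalRing.specializes_closedPoint w).mem_open
    q.isOpenEmbedding.isOpen_range hq)⟩
  haveI : IsIso q := (isIso_iff_isOpenImmersion_and_epi_base _).mpr
      ⟨inferInstance, (TopCat.epi_iff_surjective _).mpr q.surjective⟩
  have key : z' = e' := by
    have h := pullback.condition (f := pullback.diagonal f) (g := m)
    have h1 := congrArg (· ≫ pullback.fst f f) h
    have h2 := congrArg (· ≫ pullback.snd f f) h
    simp only [Category.assoc, pullback.diagonal_fst, pullback.diagonal_snd, Category.comp_id, m,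
      pullback.lift_fst, pullback.lift_snd] at h1 h2
    exact (cancel_epi q).mp (h1.symm.trans h2)
  rw [← hz, ← he, key]

/-- A torsion point of order prime to the residue characteristic extends over a henselian local ring. -/
theorem exists_torsion_lift (G : Over S) [GrpObj G] [IsCommMonObj G] [Flat G.hom] [LocallyOfFinitePresentation G.hom]
    [QuasiCompact G.hom] {R : Type u} [CommRing R] [HenselianLocalRing R] (i : Spec (CommRingCat.of R) ⟶ S)
    {s : S} (hi : i (closedPoint R) = s) {ℓ : ℕ} (hℓ : (ℓ : S.residueField s) ≠ 0)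
    (r : Over.mk (rsd R ≫ i) ⟶ Over.mk i) (hr : r.left = rsd R)
    (y : Over.mk (rsd R ≫ i) ⟶ G) (hy : y ^ ℓ = 1) :
    ∃ x : Over.mk i ⟶ G, x ^ ℓ = 1 ∧ r ≫ x = y := by
  let p₀ := y.left (closedPoint (ResidueField R))
  have hG : G.hom p₀ = s := by
    rw [← Scheme.Hom.comp_apply, Over.w y]
    show (rsd R ≫ i) _ = s
    rw [Scheme.Hom.comp_apply, rsd_apply, hi]
  obtain ⟨z, hz⟩ := exists_incl p₀
  let σ := S.fromSpecResidueField (G.hom p₀)
  haveI : IsCommMonObj (Red.bc σ G) := Deform.Extension.isCommMonObj_of fun T =>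
    Deform.Extension.comm_bc σ (fun T => Deform.Extension.mul_comm_of) T
  haveI : LocallyOfFiniteType (Red.bc σ G).hom := inferInstanceAs (LocallyOfFiniteType (pullback.snd G.hom σ))
  haveI : QuasiCompact (Red.bc σ G).hom := inferInstanceAs (QuasiCompact (pullback.snd G.hom σ))
  haveI : Etale (GrpSchLib.HomFibre.fib (𝟙 G ^ ℓ : G ⟶ G) (G.hom p₀)).left := by
    rw [show GrpSchLib.HomFibre.fib (𝟙 G ^ ℓ : G ⟶ G) (G.hom p₀) = (𝟙 (Red.bc σ G) ^ ℓ) from
      Deform.Extension.pow_bc σ G ℓ]
    exact S4112.result _ (Red.bc σ G) ℓ (by rw [hG]; exact hℓ)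
  have h1 : z ∈ loc @Etale (GrpSchLib.HomFibre.fib (𝟙 G ^ ℓ : G ⟶ G) (G.hom p₀)).left :=
    ⟨⊤, trivial, inferInstance⟩
  have h2 := (etale_iff (𝟙 G ^ ℓ : G ⟶ G) _ z).mp h1
  rw [hz] at h2
  obtain ⟨U, hU, hE⟩ := h2
  haveI := hE
  let f := U.ι ≫ (𝟙 G ^ ℓ : G ⟶ G).left
  let e := (1 : Over.mk i ⟶ G)
  let y' := IsOpenImmersion.lift U.ι y.left (by
    rintro _ ⟨w, rfl⟩
    rw [Scheme.Opens.range_ι, show w = closedPoint (ResidueField R) from Subsingleton.elim (α := PrimeSpectrum (ResidueField R)) _ _]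
    exact hU)
  have hy' : y' ≫ U.ι = y.left := IsOpenImmersion.lift_fac _ _ _
  haveI : Etale (pullback.snd f e.left) := MorphismProperty.pullback_snd (P := @Etale) _ _ ‹_›
  obtain ⟨τ, hτ, hτc⟩ := exists_section R (pullback.snd f e.left) (pullback.lift y' (rsd R) (by
    rw [← Category.assoc, hy', ← Over.comp_left, MonObj.comp_pow, Category.comp_id, hy]
    exact (congrArg Over.Hom.left (MonObj.comp_one r).symm).trans (congrArg (· ≫ e.left) hr))) (pullback.lift_snd _ _ _)
  have hxe : (τ ≫ pullback.fst f e.left ≫ U.ι) ≫ (𝟙 G ^ ℓ : G ⟶ G).left = e.left := by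
    simp only [Category.assoc]
    rw [show U.ι ≫ (𝟙 G ^ ℓ : G ⟶ G).left = f from rfl, pullback.condition, ← Category.assoc, hτ, Category.id_comp]
  let x : Over.mk i ⟶ G := Over.homMk (τ ≫ pullback.fst f e.left ≫ U.ι) (by
    show _ = i
    rw [← Over.w (𝟙 G ^ ℓ : G ⟶ G), ← Category.assoc, hxe]
    exact Over.w e)
  refine ⟨x, ?_, Over.OverMorphism.ext ?_⟩
  · have h : x ≫ (𝟙 G ^ ℓ : G ⟶ G) = e := Over.OverMorphism.ext hxe
    rwa [MonObj.comp_pow, Category.comp_id] at h
  · show r.left ≫ τ ≫ pullback.fst f e.left ≫ U.ι = y.left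
    rw [hr, reassoc_of% hτc, pullback.lift_fst_assoc, hy']

/-- A power of a point near the unit of a smooth group is trivial only if the point is. -/
theorem eq_one_of_pow (H : Over S) [GrpObj H] [Smooth H.hom] {R : Type u} [CommRing R] [IsLocalRing R]
    (i : Spec (CommRingCat.of R) ⟶ S) {ℓ : ℕ} (hℓ : (ℓ : S.residueField (i (closedPoint R))) ≠ 0)
    (r : Over.mk (rsd R ≫ i) ⟶ Over.mk i) (hr : r.left = rsd R)
    (x : Over.mk i ⟶ H) (hx : x ^ ℓ = 1) (hx' : r ≫ x = 1) : x = 1 := by
  ext1
  refine eq_of_etale (𝟙 H ^ ℓ : H ⟶ H).left _ _ ?_ ?_ ?_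
  · rw [← Over.comp_left, ← Over.comp_left, MonObj.comp_pow, Category.comp_id, hx, MonObj.comp_pow, Category.comp_id, _root_.one_pow]
  · rw [← hr, ← Over.comp_left, ← Over.comp_left, hx', MonObj.comp_one]
  · let σ := S.fromSpecResidueField (i (closedPoint R))
    haveI : LocallyOfFiniteType (Red.bc σ H).hom := inferInstanceAs (LocallyOfFiniteType (pullback.snd H.hom σ))
    have hz := GrpSchLib.PowEtale.loc_etale (X := Red.bc σ H) ℓ hℓ
    rw [← Deform.Extension.pow_bc σ H ℓ] at hz
    have h2 := (etale_iff (𝟙 H ^ ℓ : H ⟶ H) _ _).mp hz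
    have hcl := rsd_apply R (closedPoint (ResidueField R))
    have e1 : x.left (closedPoint R) = η[H].left (i (closedPoint R)) := by
      have h : (r ≫ x).left (closedPoint (ResidueField R)) =
          (1 : Over.mk (rsd R ≫ i) ⟶ H).left (closedPoint (ResidueField R)) := by rw [hx']
      rw [← hcl]
      refine ((congrArg x.left (congrArg (fun q : Spec (CommRingCat.of (ResidueField R)) ⟶ Spec (CommRingCat.of R) =>
        q (closedPoint (ResidueField R))) hr.symm)).trans h).trans ?_
      rfl
    have e2 : incl H (i (closedPoint R)) (η[Red.bc σ H].left (closedPoint (S.residueField (i (closedPoint R))))) =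
        η[H].left (i (closedPoint R)) := by
      have h := PtAdj.adjHom_fst σ ((PtAdj.adjHom σ (𝟙_ _) H).symm η[Red.bc σ H])
      rw [MulEquiv.apply_symm_apply] at h
      have h1 : η[Red.bc σ H] = 1 := by
        rw [Hom.one_def, toUnit_unique (toUnit (𝟙_ _)) (𝟙 _), Category.id_comp]
      rw [h1, map_one] at h
      show (η[Red.bc σ H].left ≫ pullback.fst H.hom σ) _ = _
      rw [h1, h]
      show η[H].left ((𝟙 _ ≫ σ) _) = _
      rw [Category.id_comp]
      exact congrArg _ (Scheme.fromSpecResidueField_apply _ _)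
    exact Set.mem_of_eq_of_mem (e1.trans e2.symm) h2

/-- Some positive power kills all points of the kernel of an isogeny of the fibres at `t`. -/
theorem exists_kill {G H : Over S} [GrpObj G] [GrpObj H] (u : G ⟶ H) [IsMonHom u] [LocallyOfFiniteType H.hom]
    (t : S) (hiso : SGA7.IsIsogenyOver (SGA7.fibreHom t u)) :
    ∃ n : ℕ, 0 < n ∧ ∀ w : Over.mk (Red.geomPt t) ⟶ G, w ≫ u = 1 → w ^ n = 1 := by
  let σ := S.fromSpecResidueField t
  let π : Spec (CommRingCat.of (AlgebraicClosure (S.residueField t))) ⟶ Spec (S.residueField t) :=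
    Spec.map (CommRingCat.ofHom (algebraMap (S.residueField t) (AlgebraicClosure (S.residueField t))))
  haveI : LocallyOfFiniteType (Red.bc σ H).hom := inferInstanceAs (LocallyOfFiniteType (pullback.snd H.hom σ))
  haveI := GrpSchLib.AntiAffine.isSeparated_grp (Red.bc σ H)
  obtain ⟨N, iN, m, hm, -, -, hk⟩ := GrpSchLib.exists_kernel (SGA7.fibreHom t u)
  letI := iN
  haveI := hm
  haveI := hiso.2 N m hk
  obtain ⟨n, hn, h1⟩ := Deform.PowTorus.exists_pow_eq_one N
  refine ⟨n, hn, fun w hw => ?_⟩
  let e := PtAdj.adjHom σ (Over.mk π) G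
  apply e.injective
  obtain ⟨l, hl⟩ := Deform.Chev.exists_lift_kernel m _ hk (e w) (by
    refine (PtAdj.adjHom_comp σ (Z := Over.mk π) u w).symm.trans ?_
    rw [hw]
    exact map_one (PtAdj.adjHom σ (Over.mk π) H))
  rw [map_pow, map_one, ← hl, ← Deform.Extension.pow_comp_hom m, ← Category.comp_id l, ← MonObj.comp_pow, h1,
    MonObj.comp_one, MonObj.one_comp]

/-- Torsion of the geometric kernel at a specialisation. -/
theorem torsion_trivial {G H : Over S} [GrpObj G] [IsCommMonObj G] [Flat G.hom] [IsSeparated G.hom]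
    [LocallyOfFinitePresentation G.hom] [QuasiCompact G.hom] [GrpObj H] [Smooth H.hom] (u : G ⟶ H) [IsMonHom u]
    {s t : S} (hts : t ⤳ s) {n ℓ : ℕ} (hnℓ : Nat.Coprime ℓ n) (hℓ : (ℓ : S.residueField s) ≠ 0)
    (hn : ∀ w : Over.mk (Red.geomPt t) ⟶ G, w ≫ u = 1 → w ^ n = 1)
    (y : Over.mk (Red.geomPt s) ⟶ G) (hy : y ^ ℓ = 1) (hyu : y ≫ u = 1) : y = 1 := by
  have ht : Red.geomPt t (closedPoint (AlgebraicClosure (S.residueField t))) = t := by
    rw [Scheme.Hom.comp_apply]
    exact Scheme.fromSpecResidueField_apply t _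
  obtain ⟨A, i, hi, hiK⟩ := AlgSpVal.exists_valuationRing_through (Red.geomPt t) s (by rw [ht]; exact hts)
  haveI := H0PBC.henselianLocalRing_valuationSubring A
  haveI := H0PBC.isAlgClosed_residueField A
  obtain ⟨⟨s', φ⟩, hφ⟩ := (Scheme.SpecToEquivOfField (ResidueField A) S).symm.surjective (rsd A ≫ i)
  replace hφ : Spec.map φ ≫ S.fromSpecResidueField s' = rsd A ≫ i := hφ
  obtain rfl : s' = s := by
    have h := congrArg (fun q : Spec (CommRingCat.of (ResidueField A)) ⟶ S => q (closedPoint (ResidueField A))) hφ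
    simp only [Scheme.Hom.comp_apply, Scheme.fromSpecResidueField_apply, rsd_apply] at h
    exact h.trans hi
  letI : Algebra (S.residueField s') (ResidueField A) := φ.hom.toAlgebra
  let j : AlgebraicClosure (S.residueField s') →ₐ[S.residueField s'] ResidueField A := IsAlgClosed.lift
  let jc := Spec.map (CommRingCat.ofHom j.toRingHom)
  have hj : jc ≫ Red.geomPt s' = rsd A ≫ i := by
    rw [← hφ, ← Category.assoc, ← Spec.map_comp]
    congr 2
    ext x
    exact j.commutes x
  haveI : Flat jc := by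
    rw [HasRingHomProperty.Spec_iff (P := @Flat)]
    exact RingHom.Flat.of_isField (Field.toIsField _) _
  haveI : Surjective jc := ⟨fun w => ⟨closedPoint (ResidueField A),
    Subsingleton.elim (α := PrimeSpectrum (AlgebraicClosure (S.residueField s'))) _ _⟩⟩
  let ρ : Over.mk (rsd A ≫ i) ⟶ Over.mk (Red.geomPt s') := Over.homMk jc hj
  haveI : Epi ρ.left := Flat.epi_of_flat_of_surjective jc
  refine PtAdj.eq_one_of_epi ρ y ?_
  let r : Over.mk (rsd A ≫ i) ⟶ Over.mk i := Over.homMk (rsd A) rfl
  obtain ⟨x, hx, hxy⟩ := exists_torsion_lift G i hi hℓ r rfl (ρ ≫ y) (by rw [← MonObj.comp_pow, hy, MonObj.comp_one])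
  have hxu : x ≫ u = 1 := eq_one_of_pow H i (by rw [hi]; exact hℓ) r rfl _
    (by rw [← Deform.Extension.pow_comp_hom u, hx, MonObj.one_comp])
    (by rw [reassoc_of% hxy, hyu, MonObj.comp_one])
  let g : Over.mk (Red.geomPt t) ⟶ Over.mk i :=
    Over.homMk (Spec.map (CommRingCat.ofHom (algebraMap A (AlgebraicClosure (S.residueField t))))) hiK
  have hgx : g ≫ x = 1 := by
    have h1 : (g ≫ x) ^ n = 1 := hn _ (by rw [Category.assoc, hxu, MonObj.comp_one])
    have h2 : (g ≫ x) ^ ℓ = 1 := by rw [← MonObj.comp_pow, hx, MonObj.comp_one]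
    have h := pow_gcd_eq_one.mpr ⟨h2, h1⟩
    rwa [hnℓ.gcd_eq_one, pow_one] at h
  haveI : IsDominant g.left := H0PBC.isDominant_generic A
  haveI : IsReduced (Over.mk i).left := inferInstanceAs (IsReduced (Spec (CommRingCat.of A)))
  have hx1 : x = 1 := by
    ext1
    refine ext_of_isDominant_of_isSeparated G.hom ((Over.w x).trans (Over.w (1 : Over.mk i ⟶ G)).symm) g.left ?_
    rw [← Over.comp_left, ← Over.comp_left, hgx, MonObj.comp_one]
  rw [← hxy, hx1, MonObj.comp_one]

/-- The homomorphism of fibres at a specialisation of an isogeny is finite. -/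
theorem isFinite_fib {G H : Over S} [GrpObj G] [IsCommMonObj G] [Flat G.hom] [IsSeparated G.hom]
    [LocallyOfFinitePresentation G.hom] [QuasiCompact G.hom] [GrpObj H] [Smooth H.hom] (u : G ⟶ H) [IsMonHom u]
    {s t : S} (hts : t ⤳ s) (hs : SGA7.FibreUnipotentRankZero s G)
    (hiso : SGA7.IsIsogenyOver (SGA7.fibreHom t u)) : IsFinite (SGA7.fibreHom s u).left := by
  obtain ⟨n, hn0, hn⟩ := exists_kill u t hiso
  obtain ⟨ℓ, hℓp, hℓn, hℓ⟩ : ∃ ℓ, ℓ.Prime ∧ Nat.Coprime ℓ n ∧ (ℓ : S.residueField s) ≠ 0 := by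
    obtain ⟨p, hp⟩ := CharP.exists (S.residueField s)
    obtain ⟨ℓ, hle, hℓ⟩ := Nat.exists_infinite_primes (n + p + 1)
    refine ⟨ℓ, hℓ, (Nat.Prime.coprime_iff_not_dvd hℓ).mpr fun h => absurd (Nat.le_of_dvd hn0 h) (by omega), ?_⟩
    intro h
    have h' := (CharP.cast_eq_zero_iff (S.residueField s) p ℓ).mp h
    rcases hℓ.eq_one_or_self_of_dvd p h' with rfl | rfl
    · exact one_ne_zero (CharP.cast_eq_zero (S.residueField s) 1 ▸ (Nat.cast_one).symm)
    · omega
  let σ := S.fromSpecResidueField s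
  let π : Spec (CommRingCat.of (AlgebraicClosure (S.residueField s))) ⟶ Spec (S.residueField s) :=
    Spec.map (CommRingCat.ofHom (algebraMap (S.residueField s) (AlgebraicClosure (S.residueField s))))
  haveI : LocallyOfFiniteType (Red.bc σ H).hom := inferInstanceAs (LocallyOfFiniteType (pullback.snd H.hom σ))
  haveI : LocallyOfFiniteType (Red.bc σ G).hom := inferInstanceAs (LocallyOfFiniteType (pullback.snd G.hom σ))
  haveI : QuasiCompact (Red.bc σ G).hom := inferInstanceAs (QuasiCompact (pullback.snd G.hom σ))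
  refine IsogFib.lqf_of_finite_kernel (SGA7.fibreHom s u) fun N₁ i₁ hk₁ => ?_
  haveI := GrpSchLib.AntiAffine.isSeparated_grp (Red.bc σ H)
  obtain ⟨N, iN, m, hm, hmc, -, hk⟩ := GrpSchLib.exists_kernel (SGA7.fibreHom s u)
  letI := iN
  haveI := hm; haveI := hmc
  haveI : Mono m := (Over.forget _).mono_of_mono_map (inferInstanceAs (Mono m.left))
  haveI : IsCommMonObj N := Deform.Extension.isCommMonObj_of fun Y x y => by
    rw [← cancel_mono m, MonObj.mul_comp, MonObj.mul_comp]
    exact Deform.Extension.comm_bc σ (fun T => Deform.Extension.mul_comm_of) _ _ _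
  haveI : LocallyOfFiniteType N.hom := by rw [← Over.w m]; infer_instance
  haveI : QuasiCompact N.hom := by rw [← Over.w m]; infer_instance
  haveI : IsCommMonObj (Red.bc π N) := Deform.Extension.isCommMonObj_of fun T =>
    Deform.Extension.comm_bc π (fun T => Deform.Extension.mul_comm_of) T
  haveI : LocallyOfFiniteType (Red.bc π N).hom := inferInstanceAs (LocallyOfFiniteType (pullback.snd N.hom π))
  haveI : QuasiCompact (Red.bc π N).hom := inferInstanceAs (QuasiCompact (pullback.snd N.hom π))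
  haveI : IsFinite (Red.bc π N).hom := by
    refine IsogFib.isFinite_of_torsion_trivial (Red.bc π N) ?_ hℓp.two_le (ℓ := ℓ) ?_ ?_
    · intro j hj hjc
      haveI := hj; haveI := hjc
      obtain ⟨e⟩ := GrpSchLib.MultTypeBC.bc_bc π σ G
      let b : Red.bc π (Red.bc σ G) ⟶ Red.geomFibre s G := e.hom.hom.hom
      haveI : IsMonHom b := e.hom.hom.isMonHom_hom
      haveI : IsIso b.left := ((Grp.forget _ ⋙ Over.forget _).mapIso e).isIso_hom
      haveI : IsClosedImmersion ((Over.pullback π).map m).left :=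
        MorphismProperty.of_isPullback (P := @IsClosedImmersion) (GrpSchLib.HomFibre.map_isPullback m π) hmc
      exact hs (j ≫ (Over.pullback π).map m ≫ b) inferInstance
        (inferInstanceAs (IsClosedImmersion (j.left ≫ ((Over.pullback π).map m).left ≫ b.left)))
    · rw [← map_natCast (algebraMap (S.residueField s) (AlgebraicClosure (S.residueField s)))]
      exact fun h => hℓ ((map_eq_zero _).mp h)
    · intro x hx
      let e₁ := PtAdj.adjHom π (𝟙_ (Over (Spec (CommRingCat.of (AlgebraicClosure (S.residueField s)))))) N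
      let Z := (Over.map π).obj (𝟙_ (Over (Spec (CommRingCat.of (AlgebraicClosure (S.residueField s))))))
      let e₂ := PtAdj.adjHom σ Z G
      let ι₀ : (Over.map σ).obj Z ≅ Over.mk (Red.geomPt s) := Over.isoMk (Iso.refl _) (by
        show 𝟙 _ ≫ π ≫ σ = (𝟙 _ ≫ π) ≫ σ
        simp)
      apply e₁.symm.injective
      rw [map_one, ← cancel_mono m, MonObj.one_comp]
      apply e₂.symm.injective
      rw [map_one, ← cancel_epi ι₀.inv, MonObj.comp_one]
      refine torsion_trivial u hts hℓn hℓ hn _ ?_ ?_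
      · rw [← MonObj.comp_pow, ← map_pow e₂.symm, ← Deform.Extension.pow_comp_hom m, ← map_pow e₁.symm, hx, map_one,
          MonObj.one_comp, map_one, MonObj.comp_one]
      · rw [Category.assoc, ← PtAdj.adjHom_symm_comp σ u, Category.assoc,
          show m ≫ (Over.pullback σ).map u = 1 from hk.w, MonObj.comp_one, map_one, MonObj.comp_one]
  haveI := EtFound.fpqc_isFinite.{u}
  have hπ : (@Surjective ⊓ @Flat ⊓ @QuasiCompact : MorphismProperty Scheme.{u}) π := by
    refine ⟨⟨⟨fun w => ⟨closedPoint (AlgebraicClosure (S.residueField s)),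
      Subsingleton.elim (α := PrimeSpectrum (S.residueField s)) _ _⟩⟩, ?_⟩, inferInstance⟩
    rw [HasRingHomProperty.Spec_iff (P := @Flat)]
    exact RingHom.Flat.of_isField (Field.toIsField _) _
  haveI : IsFinite N.hom := MorphismProperty.of_isPullback_of_descendsAlong (P := @IsFinite)
    (IsPullback.of_hasPullback N.hom π).flip hπ ‹IsFinite (Red.bc π N).hom›
  have sq₁ : IsPullback i₁.left N₁.hom (SGA7.fibreHom s u).left η[Red.bc σ H].left := hk₁.map (Over.forget _)
  have sq : IsPullback m.left N.hom (SGA7.fibreHom s u).left η[Red.bc σ H].left := hk.map (Over.forget _)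
  rw [← sq₁.isoIsPullback_hom_snd _ _ sq]
  infer_instance

/-- Being an isogeny on a generization forces flatness and quasi-finiteness nearby. -/
theorem exists_nhd' {G H : Over S} [GrpObj G] [IsCommMonObj G] [Flat G.hom] [IsSeparated G.hom]
    [LocallyOfFinitePresentation G.hom] [QuasiCompact G.hom] [GrpObj H] [Smooth H.hom] (u : G ⟶ H) [IsMonHom u]
    {s t : S} (hts : t ⤳ s) (hs : SGA7.FibreUnipotentRankZero s G)
    (hiso : SGA7.IsIsogenyOver (SGA7.fibreHom t u)) :
    ∃ U : S.Opens, s ∈ U ∧ ∀ {T : Scheme.{u}} (g : T ⟶ S), (∀ w, g w ∈ U) →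
      Flat ((Over.pullback g).map u).left ∧ LocallyQuasiFinite ((Over.pullback g).map u).left := by
  haveI : LocallyOfFiniteType (u.left ≫ H.hom) := by rw [Over.w u]; infer_instance
  haveI : LocallyOfFiniteType u.left := locallyOfFiniteType_of_comp u.left H.hom
  haveI := lfp_of_flat_lfp u
  have hdim : ∀ (X : Over S) [GrpObj X] [Flat X.hom] [LocallyOfFinitePresentation X.hom],
      topologicalKrullDim (Red.bc (S.fromSpecResidueField t) X).left =
        topologicalKrullDim (Red.bc (S.fromSpecResidueField s) X).left := fun X _ _ _ => by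
    show topologicalKrullDim ↥(X.hom.fiber t) = topologicalKrullDim ↥(X.hom.fiber s)
    rw [IsHomeomorph.topologicalKrullDim_eq _ (X.hom.fiberHomeo t).isHomeomorph,
      IsHomeomorph.topologicalKrullDim_eq _ (X.hom.fiberHomeo s).isHomeomorph]
    exact hts.mem_open ((GrpSchLib.FibreDimGrp.isLocallyConstant (G := X)).isOpen_fiber
      (topologicalKrullDim ↥(X.hom ⁻¹' {s}))) rfl
  let σt := S.fromSpecResidueField t
  let σs := S.fromSpecResidueField s
  haveI : LocallyOfFiniteType (Red.bc σt G).hom := inferInstanceAs (LocallyOfFiniteType (pullback.snd G.hom σt))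
  haveI : LocallyOfFiniteType (Red.bc σt H).hom := inferInstanceAs (LocallyOfFiniteType (pullback.snd H.hom σt))
  haveI : QuasiCompact (Red.bc σt G).hom := inferInstanceAs (QuasiCompact (pullback.snd G.hom σt))
  haveI : LocallyOfFiniteType (Red.bc σs G).hom := inferInstanceAs (LocallyOfFiniteType (pullback.snd G.hom σs))
  haveI : LocallyOfFiniteType (Red.bc σs H).hom := inferInstanceAs (LocallyOfFiniteType (pullback.snd H.hom σs))
  haveI : Smooth (Red.bc σs H).hom := inferInstanceAs (Smooth (pullback.snd H.hom σs))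
  haveI := IsogFib.lqf_of_finite_kernel (SGA7.fibreHom t u) hiso.2
  haveI := hiso.1
  haveI := isFinite_fib u hts hs hiso
  haveI : Flat (SGA7.fibreHom s u).left := IsogFib.flat_of_lqf (SGA7.fibreHom s u) (by
    rw [← hdim G, ← hdim H]; exact IsogFib.dim_eq_of_surjective (SGA7.fibreHom t u))
  haveI := fib_lfp u (S.fromSpecResidueField s)
  obtain ⟨hoF, heF⟩ := GrpSchLib.HomFibre.main u FL (P' := FL) GrpSchLib.Loci.compat_FL (flat_iff u)
    (fun x => MorphismProperty.pullback_snd (P := @LocallyOfFiniteType) _ _ inferInstance)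
    (fun x => ⟨fun h z => ⟨⊤, trivial, MorphismProperty.comp_mem FL _ _ ⟨inferInstance, inferInstance⟩ h⟩,
      of_forall_mem FL _⟩)
  obtain ⟨hoQ, heQ⟩ := GrpSchLib.HomFibre.main u LQ (P' := LQ) GrpSchLib.Loci.compat_LQ (lqf_iff u)
    (fun x => MorphismProperty.pullback_snd (P := @LocallyOfFiniteType) _ _ inferInstance)
    (fun x => ⟨fun h z => ⟨⊤, trivial, MorphismProperty.comp_mem LQ _ _ ⟨inferInstance, inferInstance⟩ h⟩,
      of_forall_mem LQ _⟩)
  refine ⟨⟨_, hoF.inter hoQ⟩, ⟨⟨inferInstance, inferInstance⟩, ⟨inferInstance, fib_lft u _⟩⟩, fun g hg => ⟨?_, ?_⟩⟩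
  · refine (of_forall_mem FL _ fun a => ?_).1
    have hx : G.hom (pullback.fst G.hom _ a) ∈ {x | FL (GrpSchLib.HomFibre.fib u x).left} := by
      rw [← Scheme.Hom.comp_apply, pullback.condition, Scheme.Hom.comp_apply]
      exact (hg (pullback.snd G.hom g a)).1
    obtain ⟨V, hV, hV'⟩ := heF.symm.subset hx
    exact ⟨_, hV, MorphismProperty.of_isPullback (P := FL) (isPullback_restrict (map_isPullback u _) V) hV'⟩
  · refine (of_forall_mem LQ _ fun a => ?_).1
    have hx : G.hom (pullback.fst G.hom _ a) ∈ {x | LQ (GrpSchLib.HomFibre.fib u x).left} := by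
      rw [← Scheme.Hom.comp_apply, pullback.condition, Scheme.Hom.comp_apply]
      exact (hg (pullback.snd G.hom g a)).2
    obtain ⟨V, hV, hV'⟩ := heQ.symm.subset hx
    exact ⟨_, hV, MorphismProperty.of_isPullback (P := LQ) (isPullback_restrict (map_isPullback u _) V) hV'⟩

/-- Flatness and quasi-finiteness on the neighbourhood itself. -/
theorem exists_nhd {G H : Over S} [GrpObj G] [IsCommMonObj G] [Flat G.hom] [IsSeparated G.hom]
    [LocallyOfFinitePresentation G.hom] [QuasiCompact G.hom] [GrpObj H] [Smooth H.hom] (u : G ⟶ H) [IsMonHom u]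
    {s t : S} (hts : t ⤳ s) (hs : SGA7.FibreUnipotentRankZero s G)
    (hiso : SGA7.IsIsogenyOver (SGA7.fibreHom t u)) :
    ∃ U : S.Opens, s ∈ U ∧ Flat ((Over.pullback U.ι).map u).left ∧
      LocallyQuasiFinite ((Over.pullback U.ι).map u).left := by
  obtain ⟨U, hU, h⟩ := exists_nhd' u hts hs hiso
  exact ⟨U, hU, h U.ι fun w => w.2⟩

end

end Groth.Agent.NeronComp.IsogSpec
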