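import Groth.Agent.NeronComp.IsogFib
import Groth.Agent.Deform.Chev.SemiAbField
import Mathlib.RingTheory.MvPolynomial.Homogeneous

/-!
# Unipotent rank zero is stable under extensions of algebraically closed fields
-/

set_option autoImplicit false
set_option linter.style.haveILetI false
set_option backward.isDefEq.respectTransparency false

universe u

open CategoryTheory CategoryTheory.Limits MonoidalCategory CartesianMonoidalCategory MonObj GrpObj AlgebraicGeometry

attribute [local instance] CategoryTheory.Hom.monoid CategoryTheory.Hom.group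

namespace Groth.Agent.NeronComp.NoGaBc

open GrpSchLib.AffineHopf

noncomputable section

variable {K : Type u} [Field K]

theorem exists_eq_const_of_isUnit {a : SymmetricAlgebra K K} (ha : IsUnit a) :
    ∃ c : K, a = algebraMap K _ c := by
  let e := SymmetricAlgebra.equivMvPolynomial (Module.Basis.singleton PUnit.{u + 1} K)
  have h := (MvPolynomial.isUnit_iff_totalDegree_of_isReduced.mp (ha.map e)).2
  refine ⟨MvPolynomial.coeff 0 (e a), e.injective ?_⟩
  rw [e.commutes]
  exact (MvPolynomial.totalDegree_eq_zero_iff_eq_C.mp h)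

/-- The additive group has only trivial homomorphisms to diagonalisable groups. -/
theorem hom_ga_diag {M : Type} [AddCommGroup M]
    (f : sp K (SymmetricAlgebra K K) ⟶ sp K (MonoidAlgebra K (Multiplicative M))) [IsMonHom f] : f = 1 := by
  obtain ⟨φ, rfl⟩ := exists_bialgHom f
  rw [← pow_zero (spMap (φ : MonoidAlgebra K (Multiplicative M) →ₐ[K] SymmetricAlgebra K K)), EndSep.pow_spMap,
    pow_zero]
  congr 1
  refine MonoidAlgebra.algHom_ext ?_ ?_
  on_goal 2 => exact AlgHom.ext fun c => by rw [show c = algebraMap K K c from rfl, AlgHom.commutes, AlgHom.commutes]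
  intro m
  have hgl : IsGroupLikeElem K (MonoidAlgebra.single m (1 : K) : MonoidAlgebra K (Multiplicative M)) :=
    MonoidAlgebra.isGroupLikeElem_iff_mem_range_single_one.mpr ⟨m, rfl⟩
  have hgl' := hgl.map φ
  obtain ⟨c, hc⟩ := exists_eq_const_of_isUnit (K := K) (hgl'.isUnit)
  have hc1 : c = 1 := by
    have h := hgl'.counit_eq_one
    rw [hc, ← Bialgebra.counitAlgHom_apply, AlgHom.commutes] at h
    exact h
  show φ (MonoidAlgebra.single m 1) = _
  rw [AlgHom.convOne_apply, hgl.counit_eq_one, map_one, hc, hc1, map_one]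

variable [IsAlgClosed K]

/-- The additive group has only trivial homomorphisms to tori. -/
theorem hom_ga_torus {T : Over (Spec (CommRingCat.of K))} [GrpObj T] (hT : Red.IsTorus T)
    (f : Red.Ga (Spec (CommRingCat.of K)) ⟶ T) [IsMonHom f] : f = 1 := by
  obtain ⟨hTa, hTl, hTs, hTc⟩ := Deform.TorusBasic.props hT
  haveI := hTa; haveI := hTs; haveI := hTc
  obtain ⟨r, ⟨e⟩⟩ := Deform.Chev.SemiAbExt.split_of_multType (Deform.isMultTypeFT_of_isTorus hT)

  obtain ⟨e'⟩ := nonempty_DS_iso K (Fin r → ℤ)
  obtain ⟨g⟩ := NoGa.ga_iso K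
  let a := (e ≪≫ e'.symm)
  let b : T ⟶ sp K (MonoidAlgebra K (Multiplicative (Fin r → ℤ))) := a.hom.hom.hom
  let c : sp K (SymmetricAlgebra K K) ⟶ Red.Ga (Spec (CommRingCat.of K)) := g.inv.hom.hom
  haveI : IsMonHom b := a.hom.hom.isMonHom_hom
  haveI : IsMonHom c := g.inv.hom.isMonHom_hom
  haveI : IsIso b := ((Grp.forget _).mapIso a).isIso_hom
  haveI : IsIso c := ((Grp.forget _).mapIso g).isIso_inv
  rw [← cancel_epi c, ← cancel_mono b, MonObj.comp_one, MonObj.one_comp, Category.assoc]
  exact hom_ga_diag _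

theorem id_ne_one : (𝟙 (Red.Ga (Spec (CommRingCat.of K))) : Red.Ga (Spec (CommRingCat.of K)) ⟶ _) ≠ 1 := by
  intro h
  obtain ⟨g⟩ := NoGa.ga_iso K
  let c : sp K (SymmetricAlgebra K K) ⟶ Red.Ga (Spec (CommRingCat.of K)) := g.inv.hom.hom
  let b : Red.Ga (Spec (CommRingCat.of K)) ⟶ sp K (SymmetricAlgebra K K) := g.hom.hom.hom
  haveI : IsMonHom b := g.hom.hom.isMonHom_hom
  have hcb : c ≫ b = 𝟙 _ :=
    congrArg (fun f : Grp.mk (sp K (SymmetricAlgebra K K)) ⟶ Grp.mk (sp K (SymmetricAlgebra K K)) => f.hom.hom)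
      g.inv_hom_id
  have h1 : spMap (AlgHom.id K (SymmetricAlgebra K K)) = 1 := by
    rw [spMap_id, ← hcb, ← Category.id_comp b, h, MonObj.one_comp, MonObj.comp_one]
  rw [← pow_zero (spMap (AlgHom.id K (SymmetricAlgebra K K))), EndSep.pow_spMap, pow_zero] at h1
  have h2 := AlgHom.congr_fun (spMap_injective h1) (SymmetricAlgebra.ι K K 1)
  rw [AlgHom.convOne_apply] at h2
  let e := SymmetricAlgebra.equivMvPolynomial (Module.Basis.singleton PUnit.{u + 1} K)
  have h3 := congrArg e h2
  rw [AlgHom.id_apply, e.commutes] at h3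
  have h4 : e (SymmetricAlgebra.ι K K 1) = MvPolynomial.X PUnit.unit := by
    simp [e, SymmetricAlgebra.equivMvPolynomial, Module.Basis.constr_apply]
  rw [h4] at h3
  have := congrArg MvPolynomial.totalDegree h3
  simp at this

/-- A semi-abelian variety contains no additive group. -/
theorem noGa_semiAb {G : Over (Spec (CommRingCat.of K))} [GrpObj G]
    (h : Deform.Chev.SemiAbExt.IsSemiAb G) (j : Red.Ga (Spec (CommRingCat.of K)) ⟶ G) (hj : IsMonHom j)
    (hjc : IsClosedImmersion j.left) : False := by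
  obtain ⟨T, iT, t, A, iA, q, ht, htc, hT, hq, hqs, hqf, hk, hA, hAs, hAc⟩ := h
  letI := iT; letI := iA
  haveI := hj; haveI := hjc; haveI := ht; haveI := htc; haveI := hq; haveI := hA; haveI := hAs; haveI := hAc
  haveI : Mono t := (Over.forget _).mono_of_mono_map (inferInstanceAs (Mono t.left))
  haveI : Mono j := (Over.forget _).mono_of_mono_map (inferInstanceAs (Mono j.left))
  obtain ⟨g⟩ := NoGa.ga_iso K
  let c : sp K (SymmetricAlgebra K K) ⟶ Red.Ga (Spec (CommRingCat.of K)) := g.inv.hom.hom
  haveI : IsMonHom c := g.inv.hom.isMonHom_hom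
  haveI : IsIso c := ((Grp.forget _).mapIso g).isIso_inv
  haveI : IsAffine (sp K (SymmetricAlgebra K K)).left :=
    inferInstanceAs (IsAffine (Spec (CommRingCat.of (SymmetricAlgebra K K))))
  let eP : SymmetricAlgebra K K ≃ₐ[K] MvPolynomial PUnit.{u + 1} K :=
    SymmetricAlgebra.equivMvPolynomial (Module.Basis.singleton PUnit.{u + 1} K)
  haveI : IsDomain (SymmetricAlgebra K K) := eP.toMulEquiv.isDomain _
  haveI : ConnectedSpace (sp K (SymmetricAlgebra K K)).left :=
    inferInstanceAs (ConnectedSpace (PrimeSpectrum (SymmetricAlgebra K K)))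
  haveI : Algebra.FiniteType K (SymmetricAlgebra K K) := Algebra.FiniteType.equiv inferInstance eP.symm
  haveI : LocallyOfFiniteType (sp K (SymmetricAlgebra K K)).hom := by
    show LocallyOfFiniteType (Spec.map (CommRingCat.ofHom (algebraMap K (SymmetricAlgebra K K))))
    rw [HasRingHomProperty.Spec_iff (P := @LocallyOfFiniteType)]
    exact RingHom.finiteType_algebraMap.mpr inferInstance
  haveI : IsReduced (sp K (SymmetricAlgebra K K)).left :=
    inferInstanceAs (IsReduced (Spec (CommRingCat.of (SymmetricAlgebra K K))))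
  haveI : Smooth (sp K (SymmetricAlgebra K K)).hom := GrpSchLib.smooth_of_perfectField_of_isReduced _
  have h1 : c ≫ j ≫ q = 1 := Deform.AVFactor.eq_one_of_affine _
  obtain ⟨l, hl⟩ := Deform.Chev.exists_lift_kernel t q hk (c ≫ j) (by rw [Category.assoc, h1])
  haveI : IsMonHom l := WittEndoLib.isMonHom_of_mul l fun Y x y => by
    rw [← cancel_mono t]
    simp only [MonObj.mul_comp, Category.assoc, hl]
  have h2 : inv c ≫ l = 1 := @hom_ga_torus _ _ _ _ _ hT _ (WittEndoLib.isMonHom_of_mul (inv c ≫ l) fun Y x y => by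
    simp only [← Category.assoc]
    rw [show (x * y) ≫ inv c = (x ≫ inv c) * (y ≫ inv c) by
      rw [← cancel_mono c, Category.assoc, IsIso.inv_hom_id, Category.comp_id, MonObj.mul_comp]; simp, MonObj.mul_comp])
  have h3 : j = 1 := by
    rw [← IsIso.inv_hom_id_assoc c j, ← hl, ← Category.assoc, h2, MonObj.one_comp]
  refine id_ne_one (K := K) ?_
  rw [← cancel_mono j, Category.id_comp, MonObj.one_comp, h3]

/-- A morphism from a reduced scheme factors through a closed immersion containing its image. -/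
theorem exists_lift_closed {X Y Z : Scheme.{u}} [IsReduced X] (f : X ⟶ Z) (m : Y ⟶ Z) [IsClosedImmersion m]
    (h : Set.range f ⊆ Set.range m) : ∃ l : X ⟶ Y, l ≫ m = f := by
  haveI : IsClosedImmersion (pullback.fst f m) := inferInstance
  haveI : Surjective (pullback.fst f m) := by
    refine ⟨fun x => ?_⟩
    obtain ⟨y, hy⟩ := h ⟨x, rfl⟩
    obtain ⟨w, hw, -⟩ := Scheme.Pullback.exists_preimage_pullback x y hy.symm
    exact ⟨w, hw⟩
  haveI := isIso_of_isClosedImmersion_of_surjective (pullback.fst f m)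
  exact ⟨inv (pullback.fst f m) ≫ pullback.snd f m, by
    rw [Category.assoc, ← pullback.condition, IsIso.inv_hom_id_assoc]⟩

/-- Having no closed `G_a` is stable under extensions of algebraically closed fields. -/
theorem noGa_bc {k : Type u} [Field k] [IsAlgClosed k] (G : Over (Spec (CommRingCat.of k))) [GrpObj G]
    [IsCommMonObj G] [LocallyOfFiniteType G.hom] [QuasiCompact G.hom]
    (hG : ∀ j : Red.Ga (Spec (CommRingCat.of k)) ⟶ G, IsMonHom j → IsClosedImmersion j.left → False)
    (π : Spec (CommRingCat.of K) ⟶ Spec (CommRingCat.of k))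
    (j : Red.Ga (Spec (CommRingCat.of K)) ⟶ Red.bc π G) (hj : IsMonHom j) (hjc : IsClosedImmersion j.left) :
    False := by
  obtain ⟨ψ, rfl⟩ := Spec.map_surjective π
  letI : Algebra k K := ψ.hom.toAlgebra
  haveI := hj; haveI := hjc
  obtain ⟨R, iR, r, hr, hrc, hRr, hrs, hRl, hRq⟩ := GrpSchLib.RedSubgroup.exists_redSubgroup G
  letI := iR
  haveI := hr; haveI := hrc; haveI := hRr; haveI := hrs; haveI := hRl; haveI := hRq
  obtain ⟨T, iT, c, hc, hcc, hco, hcr, hci, hcl, hcq, -⟩ := IsogFib.exists_open_component R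
  letI := iT
  haveI := hc; haveI := hcc; haveI := hco; haveI := hci; haveI := hcl; haveI := hcq
  haveI : IsReduced T.left := isReduced_of_isOpenImmersion c.left
  haveI : Smooth T.hom := GrpSchLib.smooth_of_perfectField_of_isReduced T
  haveI : ConnectedSpace T.left := inferInstance
  let i : T ⟶ G := c ≫ r
  haveI : IsClosedImmersion i.left := inferInstanceAs (IsClosedImmersion (c.left ≫ r.left))
  haveI : Mono i := (Over.forget _).mono_of_mono_map (inferInstanceAs (Mono i.left))
  haveI : IsCommMonObj T := Deform.Extension.isCommMonObj_of fun Y x y => by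
    rw [← cancel_mono i, MonObj.mul_comp, MonObj.mul_comp, Deform.Extension.mul_comm_of (x ≫ i)]
  have hsab := NoGa.isSemiAb T fun j hj hjc => by
    haveI := hj; haveI := hjc
    exact hG (j ≫ i) inferInstance (inferInstanceAs (IsClosedImmersion (j.left ≫ i.left)))
  have hK : Deform.Chev.SemiAbExt.IsSemiAb (Red.bc (Spec.map ψ) T) := hsab.bc (K := K)
  let F := Over.pullback (Spec.map ψ)
  haveI : IsClosedImmersion (F.map r).left :=
    MorphismProperty.overPullbackMap (P := @IsClosedImmersion) _ r inferInstance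
  haveI : Surjective (F.map r).left := MorphismProperty.overPullbackMap (P := @Surjective) _ r inferInstance
  haveI : IsClosedImmersion (F.map c).left :=
    MorphismProperty.overPullbackMap (P := @IsClosedImmersion) _ c inferInstance
  haveI : IsOpenImmersion (F.map c).left :=
    MorphismProperty.overPullbackMap (P := @IsOpenImmersion) _ c inferInstance
  obtain ⟨g⟩ := NoGa.ga_iso K
  let b : Red.Ga (Spec (CommRingCat.of K)) ⟶ sp K (SymmetricAlgebra K K) := g.hom.hom.hom
  haveI : IsIso b.left := ((Grp.forget _ ⋙ Over.forget _).mapIso g).isIso_hom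
  haveI : IsDomain (SymmetricAlgebra K K) :=
    (SymmetricAlgebra.equivMvPolynomial (Module.Basis.singleton PUnit.{u + 1} K)).toMulEquiv.isDomain _
  haveI : IsIntegral (sp K (SymmetricAlgebra K K)).left :=
    inferInstanceAs (IsIntegral (Spec (CommRingCat.of (SymmetricAlgebra K K))))
  haveI : IsReduced (Red.Ga (Spec (CommRingCat.of K))).left := isReduced_of_isOpenImmersion b.left
  haveI : PreconnectedSpace (Red.Ga (Spec (CommRingCat.of K))).left :=
    (Scheme.homeoOfIso (asIso b.left)).symm.surjective.denseRange.preconnectedSpace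
      (Scheme.homeoOfIso (asIso b.left)).symm.continuous
  obtain ⟨l₁, hl₁⟩ := exists_lift_closed j.left (F.map r).left (fun x _ => (F.map r).left.surjective x)
  obtain ⟨l₂, hl₂⟩ := exists_lift_closed l₁ (F.map c).left (by
    have hclopen : IsClopen (Set.range (F.map c).left) :=
      ⟨(F.map c).left.isClosedEmbedding.isClosed_range, (F.map c).left.isOpenEmbedding.isOpen_range⟩
    refine (isPreconnected_range l₁.continuous).subset_isClopen hclopen ?_
    let x₀ := η[Red.Ga (Spec (CommRingCat.of K))].left (IsLocalRing.closedPoint K)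
    refine ⟨l₁ x₀, ⟨x₀, rfl⟩, η[Red.bc (Spec.map ψ) T].left (IsLocalRing.closedPoint K), ?_⟩
    apply (F.map r).left.isClosedEmbedding.injective
    rw [← Scheme.Hom.comp_apply l₁, hl₁, ← Scheme.Hom.comp_apply _ (F.map r).left]
    exact (congrArg (fun f : 𝟙_ _ ⟶ Red.bc (Spec.map ψ) G => f.left (IsLocalRing.closedPoint K))
      ((IsMonHom.one_hom (F.map c ≫ F.map r)).trans (IsMonHom.one_hom j).symm)))
  let i' := F.map c ≫ F.map r
  haveI : IsClosedImmersion i'.left := inferInstanceAs (IsClosedImmersion ((F.map c).left ≫ (F.map r).left))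
  haveI : Mono i' := (Over.forget _).mono_of_mono_map (inferInstanceAs (Mono i'.left))
  let l : Red.Ga (Spec (CommRingCat.of K)) ⟶ Red.bc (Spec.map ψ) T := Over.homMk l₂ (by
    rw [← Over.w i', Over.comp_left, Category.assoc, ← Category.assoc l₂, hl₂, ← Category.assoc l₁, hl₁, Over.w j])
  have hl : l ≫ i' = j := Over.OverMorphism.ext (by
    show l₂ ≫ (F.map c).left ≫ (F.map r).left = j.left
    rw [reassoc_of% hl₂, hl₁])
  haveI : IsMonHom l := WittEndoLib.isMonHom_of_mul l fun Y x y => by
    rw [← cancel_mono i']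
    simp only [MonObj.mul_comp, Category.assoc, hl]
  haveI : IsClosedImmersion (l.left ≫ i'.left) := by rw [← Over.comp_left, hl]; infer_instance
  exact noGa_semiAb hK l inferInstance (IsClosedImmersion.of_comp l.left i'.left)

end

end Groth.Agent.NeronComp.NoGaBc

namespace Groth.Agent.NeronComp.NoGaBc

noncomputable section

/-- Unipotent rank zero of the fibres is stable under base change. -/
theorem fibresUnipotentRankZero_bc {S S' : Scheme.{u}} (g : S' ⟶ S) (G : Over S) [GrpObj G] [IsCommMonObj G]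
    [LocallyOfFiniteType G.hom] [QuasiCompact G.hom] (hG : SGA7.FibresUnipotentRankZero G) :
    SGA7.FibresUnipotentRankZero (Red.bc g G) := by
  intro s' j hj hjc
  let k' : Type u := AlgebraicClosure (S'.residueField s')
  obtain ⟨⟨s, φ⟩, hφ⟩ := (Scheme.SpecToEquivOfField k' S).symm.surjective (Red.geomPt s' ≫ g)
  replace hφ : Spec.map φ ≫ S.fromSpecResidueField s = Red.geomPt s' ≫ g := hφ
  letI : Algebra (S.residueField s) k' := φ.hom.toAlgebra
  let l : AlgebraicClosure (S.residueField s) →ₐ[S.residueField s] k' := IsAlgClosed.lift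
  let π : Spec (CommRingCat.of k') ⟶ Spec (CommRingCat.of (AlgebraicClosure (S.residueField s))) :=
    Spec.map (CommRingCat.ofHom l.toRingHom)
  have hπ : π ≫ Red.geomPt s = Red.geomPt s' ≫ g := by
    rw [← hφ, ← Category.assoc, ← Spec.map_comp]
    congr 2
    ext x
    exact l.commutes x
  obtain ⟨e₁⟩ := GrpSchLib.MultTypeBC.bc_bc (Red.geomPt s') g G
  obtain ⟨e₂⟩ := GrpSchLib.MultTypeBC.bc_congr hπ.symm G
  obtain ⟨e₃⟩ := GrpSchLib.MultTypeBC.bc_bc π (Red.geomPt s) G
  let e := e₁ ≪≫ e₂ ≪≫ e₃.symm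
  let b : Red.geomFibre s' (Red.bc g G) ⟶ Red.bc π (Red.geomFibre s G) := e.hom.hom.hom
  haveI : IsMonHom b := e.hom.hom.isMonHom_hom
  haveI : IsIso b.left := ((Grp.forget _ ⋙ Over.forget _).mapIso e).isIso_hom
  haveI : IsCommMonObj (Red.geomFibre s G) := Deform.Extension.isCommMonObj_of fun T =>
    Deform.Extension.comm_bc (Red.geomPt s) (fun T => Deform.Extension.mul_comm_of) T
  haveI : LocallyOfFiniteType (Red.geomFibre s G).hom :=
    inferInstanceAs (LocallyOfFiniteType (pullback.snd G.hom (Red.geomPt s)))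
  haveI : QuasiCompact (Red.geomFibre s G).hom := inferInstanceAs (QuasiCompact (pullback.snd G.hom (Red.geomPt s)))
  haveI := hj; haveI := hjc
  exact noGa_bc (Red.geomFibre s G) (hG s) π (j ≫ b) inferInstance
    (inferInstanceAs (IsClosedImmersion (j.left ≫ b.left)))

end

end Groth.Agent.NeronComp.NoGaBc
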