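import Groth.Agent.NeronComp.IsogMono
import Groth.Agent.NeronComp.GoodInertia
import Groth.Agent.NeronComp.NoGaBc

/-!
# Homomorphisms of unipotent rank zero groups which are isomorphisms on the generic fibre
-/

set_option autoImplicit false
set_option linter.style.haveILetI false
set_option backward.isDefEq.respectTransparency false

universe u

open CategoryTheory CategoryTheory.Limits MonoidalCategory CartesianMonoidalCategory MonObj GrpObj AlgebraicGeometry

attribute [local instance] CategoryTheory.Hom.monoid CategoryTheory.Hom.group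

namespace Groth.Agent.NeronComp.NeronOpen

noncomputable section

theorem exists_factor (R K : Type u) [CommRing R] [IsDomain R] [Field K] [Algebra R K] [IsFractionRing R K]
    {L : Type u} [Field L] (φ : R →+* L) (hφ : Function.Injective φ) :
    ∃ ψ : K →+* L, ψ.comp (algebraMap R K) = φ :=
  ⟨IsFractionRing.lift hφ, RingHom.ext fun x => IsFractionRing.lift_algebraMap hφ x⟩

/-- A homomorphism from a separated group without `G_a` in the fibres is an open immersion if it is an isomorphism
on the generic fibre. -/
theorem isOpenImmersion_of_genFib (R K : Type u) [CommRing R] [IsDomain R] [Field K] [Algebra R K] [IsFractionRing R K]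
    (G N : Over (Spec (CommRingCat.of R))) [GrpObj G] [GrpObj N] [IsCommMonObj G] [Smooth G.hom]
    [IsSeparated G.hom] [QuasiCompact G.hom] [Smooth N.hom] (hG : SGA7.FibresUnipotentRankZero G)
    (u : G ⟶ N) [IsMonHom u] [IsIso ((SGA7.genFib R K).map u)] : IsOpenImmersion u.left := by
  let S := Spec (CommRingCat.of R)
  let j := Spec.map (CommRingCat.ofHom (algebraMap R K))
  let t : S := j (IsLocalRing.closedPoint K)
  have htbot : t.asIdeal = ⊥ := by
    show Ideal.comap (algebraMap R K) (IsLocalRing.maximalIdeal K) = ⊥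
    rw [IsLocalRing.maximalIdeal_eq_bot, ← RingHom.ker_eq_comap_bot,
      (RingHom.injective_iff_ker_eq_bot _).1 (IsFractionRing.injective R K)]
  have ht : ∀ x : S, t ⤳ x := fun x =>
    (PrimeSpectrum.le_iff_specializes t x).1 (show t.asIdeal ≤ x.asIdeal by rw [htbot]; exact bot_le)
  obtain ⟨φ, hφ⟩ := Spec.map_surjective (S.fromSpecResidueField t)
  have hinj : Function.Injective φ.hom := by
    rw [RingHom.injective_iff_ker_eq_bot]
    have h := congrArg (fun f : Spec (S.residueField t) ⟶ S => f (IsLocalRing.closedPoint _)) hφ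
    simp only [Scheme.fromSpecResidueField_apply] at h
    have h2 := congrArg PrimeSpectrum.asIdeal h
    rw [htbot] at h2
    rw [← h2, RingHom.ker_eq_comap_bot]
    show Ideal.comap φ.hom ⊥ = Ideal.comap φ.hom (IsLocalRing.maximalIdeal _)
    rw [IsLocalRing.maximalIdeal_eq_bot]
  obtain ⟨ψ₀, hψ₀⟩ := exists_factor R K φ.hom hinj
  let ψ : CommRingCat.of K ⟶ S.residueField t := CommRingCat.ofHom ψ₀
  have hσ : Spec.map ψ ≫ j = S.fromSpecResidueField t := by
    rw [← hφ, ← Spec.map_comp]
    exact congrArg Spec.map (CommRingCat.hom_ext hψ₀)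
  haveI hiso : IsIso (SGA7.fibreHom t u) := by
    show IsIso ((Over.pullback (S.fromSpecResidueField t)).map u)
    rw [← hσ]
    exact (NatIso.isIso_map_iff (Over.pullbackComp (Spec.map ψ) j) u).mpr
      (inferInstanceAs (IsIso ((Over.pullback (Spec.map ψ)).map ((SGA7.genFib R K).map u))))
  haveI : IsIso (SGA7.fibreHom t u).left := inferInstanceAs (IsIso ((Over.forget _).map (SGA7.fibreHom t u)))
  have his : SGA7.IsIsogenyOver (SGA7.fibreHom t u) := by
    refine ⟨inferInstance, fun P i hk => ?_⟩
    have sq : IsPullback i.left P.hom (SGA7.fibreHom t u).left η[Red.bc (S.fromSpecResidueField t) N].left :=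
      hk.map (Over.forget _)
    exact MorphismProperty.of_isPullback (P := @IsFinite) sq inferInstance
  haveI hfib : ∀ s : S, IsOpenImmersion (GrpSchLib.HomFibre.fib u s).left := fun s =>
    IsogMono.isOpenImmersion_special u (ht s) (hG s) his
  haveI : Flat u.left := PowFlat.flat_of_fibres u fun s => inferInstance
  refine IsogMono.isOpenImmersion_of_triv u fun s => ?_
  haveI : Mono (GrpSchLib.HomFibre.fib u s) :=
    (Over.forget _).mono_of_mono_map (inferInstanceAs (Mono (GrpSchLib.HomFibre.fib u s).left))
  exact IsogMono.triv_of_mono u _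

/-- Commutativity passes from the target along a homomorphism which is an isomorphism generically. -/
theorem isCommMonObj_source (R K : Type u) [CommRing R] [IsDedekindDomain R] [Field K] [Algebra R K]
    [IsFractionRing R K] (G N : Over (Spec (CommRingCat.of R))) [GrpObj G] [GrpObj N] [Smooth G.hom]
    [IsSeparated G.hom] [IsCommMonObj ((SGA7.genFib R K).obj N)] (u : G ⟶ N) [IsMonHom u]
    [IsIso ((SGA7.genFib R K).map u)] : IsCommMonObj G := by
  let F := SGA7.genFib R K
  letI : GrpObj (F.obj G) := Functor.grpObjObj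
  letI : GrpObj (F.obj N) := Functor.grpObjObj
  haveI : IsCommMonObj (F.obj N) := ‹_›
  haveI : IsCommMonObj (F.obj G) := Deform.Extension.isCommMonObj_of fun T x y => by
    rw [← cancel_mono (F.map u), MonObj.mul_comp, MonObj.mul_comp, Deform.Extension.mul_comm_of (x ≫ F.map u)]
  exact isCommMonObj_of_genericFibre (R := R) (K := K) G

/-- A morphism into a group with the mapping property is a homomorphism when its generic fibre is one. -/
theorem isMonHom_to_neron (R K : Type u) [CommRing R] [IsDomain R] [Field K] [Algebra R K] [IsFractionRing R K]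
    {G N : Over (Spec (CommRingCat.of R))} [GrpObj G] [GrpObj N] [Smooth G.hom] (hN : SGA7.IsNeron R K N)
    (f : G ⟶ N) [IsMonHom ((SGA7.genFib R K).map f)] : IsMonHom f := by
  let F := SGA7.genFib R K
  letI : GrpObj (F.obj G) := Functor.grpObjObj
  letI : GrpObj (F.obj N) := Functor.grpObjObj
  refine WittEndoLib.isMonHom_of_mul f fun Y x y => ?_
  haveI : Smooth (G ⊗ G).hom := inferInstanceAs (Smooth (pullback.fst G.hom G.hom ≫ G.hom))
  have key : (fst G G * snd G G) ≫ f = (fst G G ≫ f) * (snd G G ≫ f) := by
    refine (hN.2.2.2 (G ⊗ G) ‹_›).1 ?_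
    show F.map _ = F.map _
    rw [F.map_comp, show F.map ((fst G G ≫ f) * (snd G G ≫ f)) = F.map (fst G G ≫ f) * F.map (snd G G ≫ f) from
      map_mul F.homMonoidHom _ _, show F.map (fst G G * snd G G) = F.map (fst G G) * F.map (snd G G) from
      map_mul F.homMonoidHom _ _, F.map_comp, F.map_comp, MonObj.mul_comp]
  have h := congrArg (lift x y ≫ ·) key
  simpa [MonObj.comp_mul, ← Category.assoc] using h

/-- An open subgroup with no `G_a` in the fibres forces the same for the whole group. -/
theorem fibresUnipotentRankZero_of_open {S : Scheme.{u}} {G N : Over S} [GrpObj G] [GrpObj N]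
    [LocallyOfFiniteType G.hom] [QuasiCompact G.hom] [LocallyOfFiniteType N.hom]
    (u : G ⟶ N) [IsMonHom u] [IsOpenImmersion u.left] (hG : SGA7.FibresUnipotentRankZero G) :
    SGA7.FibresUnipotentRankZero N := by
  intro s j hj hjc
  haveI := hj; haveI := hjc
  let k : Type u := AlgebraicClosure (S.residueField s)
  haveI : LocallyOfFiniteType (Red.geomFibre s G).hom :=
    inferInstanceAs (LocallyOfFiniteType (pullback.snd G.hom (Red.geomPt s)))
  haveI : LocallyOfFiniteType (Red.geomFibre s N).hom :=
    inferInstanceAs (LocallyOfFiniteType (pullback.snd N.hom (Red.geomPt s)))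
  haveI : QuasiCompact (Red.geomFibre s G).hom :=
    inferInstanceAs (QuasiCompact (pullback.snd G.hom (Red.geomPt s)))
  let w := (Over.pullback (Red.geomPt s)).map u
  haveI : IsOpenImmersion w.left :=
    MorphismProperty.of_isPullback (P := @IsOpenImmersion) (GrpSchLib.HomFibre.map_isPullback u _) ‹_›
  haveI : Mono w := (Over.forget _).mono_of_mono_map (inferInstanceAs (Mono w.left))
  haveI := GrpSchLib.AntiAffine.isSeparated_grp (Red.geomFibre s N)
  haveI := GrpSchLib.AntiAffine.isSeparated_grp (Red.geomFibre s G)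
  haveI := Deform.Chev.quasiCompact_of_grp w
  obtain ⟨g⟩ := NoGa.ga_iso k
  let b : Red.Ga (Spec (CommRingCat.of k)) ⟶ GrpSchLib.AffineHopf.sp k (SymmetricAlgebra k k) := g.hom.hom.hom
  haveI : IsIso b.left := ((Grp.forget _ ⋙ Over.forget _).mapIso g).isIso_hom
  haveI : IsDomain (SymmetricAlgebra k k) :=
    (SymmetricAlgebra.equivMvPolynomial (Module.Basis.singleton PUnit.{u + 1} k)).toMulEquiv.isDomain _
  haveI : IsIntegral (GrpSchLib.AffineHopf.sp k (SymmetricAlgebra k k)).left :=
    inferInstanceAs (IsIntegral (Spec (CommRingCat.of (SymmetricAlgebra k k))))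
  haveI : PreconnectedSpace (Red.Ga (Spec (CommRingCat.of k))).left :=
    (Scheme.homeoOfIso (asIso b.left)).symm.surjective.denseRange.preconnectedSpace
      (Scheme.homeoOfIso (asIso b.left)).symm.continuous
  have hsub : Set.range j.left ⊆ Set.range w.left := by
    refine (isPreconnected_range j.left.continuous).subset_isClopen
      ⟨GrpSchLib.HomClosedRange.isClosed_range w, w.left.isOpenEmbedding.isOpen_range⟩ ?_
    let x₀ := η[Red.Ga (Spec (CommRingCat.of k))].left (IsLocalRing.closedPoint k)
    refine ⟨j.left x₀, ⟨x₀, rfl⟩, η[Red.geomFibre s G].left (IsLocalRing.closedPoint k), ?_⟩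
    exact congrArg (fun f : 𝟙_ _ ⟶ Red.geomFibre s N => f.left (IsLocalRing.closedPoint k))
      ((IsMonHom.one_hom w).trans (IsMonHom.one_hom j).symm)
  let l : Red.Ga (Spec (CommRingCat.of k)) ⟶ Red.geomFibre s G :=
    Over.homMk (IsOpenImmersion.lift w.left j.left hsub) (by
      rw [← Over.w w, IsOpenImmersion.lift_fac_assoc, Over.w j])
  have hl : l ≫ w = j := Over.OverMorphism.ext (IsOpenImmersion.lift_fac _ _ _)
  haveI : IsMonHom l := WittEndoLib.isMonHom_of_mul l fun Y x y => by
    rw [← cancel_mono w]
    simp only [MonObj.mul_comp, Category.assoc, hl]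
  haveI : IsClosedImmersion (l.left ≫ w.left) := by rw [← Over.comp_left, hl]; infer_instance
  exact hG s l inferInstance (IsClosedImmersion.of_comp l.left w.left)

end

end Groth.Agent.NeronComp.NeronOpen
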