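import Groth.Agent.UnipOne.Main
import Groth.Agent.MultByUnip.Component
import Groth.Agent.ComodLib.Rosenlicht
import Mathlib.RingTheory.Ideal.KrullsHeightTheorem

/-!
# A nontrivial connected unipotent group contains `G_a`
-/

set_option autoImplicit false

universe u

open TensorProduct WithConv

namespace Groth.Agent.NeronComp.UnipGa

open Groth.Agent.ComodLib

variable {k : Type u} [Field k] [IsAlgClosed k] {A : Type u} [CommRing A] [HopfAlgebra k A]
  [Algebra.FiniteType k A] [IsDomain A]

theorem tr_tr_inv (g : WithConv (A →ₐ[k] k)) (a : A) : UnipOne.tr g (UnipOne.tr g⁻¹ a) = a :=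
  UnipOne.pt_ext (k := k) fun x => by rw [UnipOne.eval_tr, UnipOne.eval_tr, mul_inv_cancel_right]

/-- The translation by a point, as an automorphism of the functions. -/
noncomputable def trEquiv (g : WithConv (A →ₐ[k] k)) : A ≃+* A :=
  { (UnipOne.tr g).toRingHom with
    invFun := UnipOne.tr g⁻¹
    left_inv := fun a => by
      show UnipOne.tr g⁻¹ (UnipOne.tr g a) = a
      have := tr_tr_inv g⁻¹ a
      rwa [inv_inv] at this
    right_inv := tr_tr_inv g }

/-- All maximal ideals of a connected group have the height of the ideal of the unit. -/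
theorem ringKrullDim_le_height :
    ringKrullDim A ≤ (RingHom.ker (Bialgebra.counitAlgHom k A)).height := by
  refine (ringKrullDim_le_iff_isMaximal_height_le _).mpr fun M hM => ?_
  obtain ⟨g, hg⟩ := exists_point (k := k) M hM.ne_top
  have hMg : M = RingHom.ker g := hM.eq_of_le (RingHom.ker_ne_top _) hg
  have h : Ideal.comap (trEquiv (toConv g)) (RingHom.ker (Bialgebra.counitAlgHom k A)) = M := by
    rw [hMg]
    ext a
    show (1 : WithConv (A →ₐ[k] k)).ofConv (UnipOne.tr (toConv g) a) = 0 ↔ g a = 0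
    rw [UnipOne.eval_tr, one_mul]
  rw [← h, RingEquiv.height_comap]

/-- The identity component of the kernel of an additive function with nonzero differential is a
connected group of the next smaller dimension; it is trivial only for groups of dimension one. -/
theorem exists_smaller (hU : HopfRep.IsUnipotent k A) {x : A}
    (hx : Coalgebra.comul (R := k) x = x ⊗ₜ[k] (1 : A) + (1 : A) ⊗ₜ[k] x)
    (hx2 : x ∉ RingHom.ker (Bialgebra.counitAlgHom k A) ^ 2) :
    ringKrullDim A ≤ 1 ∨ ∃ (B : Type u) (_ : CommRing B) (_ : IsDomain B) (_ : HopfAlgebra k B)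
      (π : A →ₐc[k] B), Function.Surjective π ∧ π x = 0 ∧ ¬ IsField B := by
  obtain ⟨hx0, -, hI⟩ := UnipCrit.isHopfIdeal_span_primitive (k := k) hx
  haveI := hI
  let I : Ideal A := Ideal.span {x}
  haveI hred : _root_.IsReduced (A ⧸ I) := UnipExt.isReduced_quotient hx0 (Or.inl hx2)
  haveI : IsNoetherianRing A := Algebra.FiniteType.isNoetherianRing k A
  haveI : Algebra.FiniteType k (A ⧸ I) := inferInstance
  haveI : IsNoetherianRing (A ⧸ I) := Algebra.FiniteType.isNoetherianRing k _
  obtain ⟨e, he, hε, hconn⟩ := UnipExt.exists_connected_idem (Bialgebra.counitAlgHom k (A ⧸ I))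
  haveI := MultByUnip.isHopfIdeal_component he hε hconn
  haveI : _root_.IsReduced ((A ⧸ I) ⧸ Ideal.span ({1 - e} : Set (A ⧸ I))) := MultByUnip.isReduced_component he
  haveI : Algebra.FiniteType k ((A ⧸ I) ⧸ Ideal.span ({1 - e} : Set (A ⧸ I))) := inferInstance
  let B := (A ⧸ I) ⧸ Ideal.span ({1 - e} : Set (A ⧸ I))
  haveI hBd : IsDomain B := isDomain_of_connected k hconn
  let π₁ : A →ₐc[k] A ⧸ I := Bialgebra.Quotient.mkBialgHom I
  let π₂ : A ⧸ I →ₐc[k] B := Bialgebra.Quotient.mkBialgHom _
  by_cases hB : IsField B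
  swap
  · refine Or.inr ⟨B, inferInstance, hBd, inferInstance, π₂.comp π₁,
      Ideal.Quotient.mk_surjective.comp Ideal.Quotient.mk_surjective, ?_, hB⟩
    show π₂ (Ideal.Quotient.mk I x) = 0
    rw [Ideal.Quotient.eq_zero_iff_mem.mpr (Ideal.mem_span_singleton_self x), map_zero]
  left
  let m := RingHom.ker (Bialgebra.counitAlgHom k A)
  haveI hm : m.IsMaximal :=
    RingHom.ker_isMaximal_of_surjective _ fun c => ⟨algebraMap k A c, by simp⟩
  -- the unit is the only point of the component
  have hker : ∀ a ∈ m, π₂ (π₁ a) = 0 := by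
    intro a ha
    haveI : (RingHom.ker (Bialgebra.counitAlgHom k B)).IsPrime := RingHom.ker_isPrime _
    letI := hB.toField
    by_contra h
    obtain ⟨c, hc⟩ := hB.mul_inv_cancel h
    have h2 := congrArg (Bialgebra.counitAlgHom k B) hc
    rw [map_mul, map_one] at h2
    have h3 : Bialgebra.counitAlgHom k B (π₂ (π₁ a)) = Bialgebra.counitAlgHom k A a :=
      CoalgHomClass.counit_comp_apply (π₂.comp π₁) a
    rw [h3, show Bialgebra.counitAlgHom k A a = 0 from ha, zero_mul] at h2
    exact zero_ne_one h2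
  obtain ⟨et, het⟩ := Ideal.Quotient.mk_surjective e
  have hmin : m ∈ I.minimalPrimes := by
    refine ⟨⟨inferInstance, (Ideal.span_singleton_le_iff_mem _).mpr hx0⟩, fun q hq hle a ha => ?_⟩
    haveI := hq.1
    have het' : et ∉ q := fun h => by
      have h1 : Bialgebra.counitAlgHom k A et = 0 := hle h
      have h2 : Bialgebra.counitAlgHom k (A ⧸ I) (π₁ et) = Bialgebra.counitAlgHom k A et :=
        CoalgHomClass.counit_comp_apply π₁ et
      rw [h1, show π₁ et = e from het, hε] at h2
      exact one_ne_zero h2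
    obtain ⟨c, hc⟩ := Ideal.mem_span_singleton'.mp (Ideal.Quotient.eq_zero_iff_mem.mp (hker a ha))
    have h4 : et * a ∈ q := hq.2 (Ideal.Quotient.eq_zero_iff_mem.mp (by
      rw [map_mul, het, show Ideal.Quotient.mk I a = π₁ a from rfl, ← hc, mul_left_comm, mul_sub, mul_one,
        he.eq, sub_self, mul_zero]))
    exact (hq.1.mem_or_mem h4).resolve_left het'
  refine le_trans (ringKrullDim_le_height (k := k)) ?_
  haveI : I.IsPrincipal := ⟨x, rfl⟩
  exact_mod_cast Ideal.height_le_one_of_isPrincipal_of_mem_minimalPrimes I m hmin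

/-- A unipotent connected reduced group which is not trivial contains a closed `G_a`. -/
theorem exists_surjective_ga (hU : HopfRep.IsUnipotent k A) (hne : ¬ IsField A) :
    ∃ φ : A →ₐc[k] SymmetricAlgebra k k, Function.Surjective φ := by
  haveI : IsNoetherianRing A := Algebra.FiniteType.isNoetherianRing k A
  suffices H : ∀ (J : Ideal A) (B : Type u) [CommRing B] [IsDomain B] [HopfAlgebra k B] (π : A →ₐc[k] B),
      Function.Surjective π → RingHom.ker (π : A →+* B) = J → ¬ IsField B →
      ∃ φ : B →ₐc[k] SymmetricAlgebra k k, Function.Surjective φ from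
    H ⊥ A (BialgHom.id k A) Function.surjective_id
      ((RingHom.injective_iff_ker_eq_bot _).mp fun _ _ h => h) hne
  intro J
  induction J using (wellFounded_gt (α := Ideal A)).induction with
  | _ J ih =>
    intro B _ _ _ π hπ hJ hB
    haveI : Algebra.FiniteType k B := Algebra.FiniteType.of_surjective (π : A →ₐ[k] B) hπ
    haveI : IsNoetherianRing B := Algebra.FiniteType.isNoetherianRing k B
    have hUB : HopfRep.IsUnipotent k B := UnipCrit.isUnipotent_of_surjective π hπ hU
    by_cases hdim : ringKrullDim B ≤ 1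
    · obtain ⟨e⟩ := UnipOne.nonempty_equiv_ga hdim hUB hB
      exact ⟨(e : B →ₐc[k] SymmetricAlgebra k k), e.surjective⟩
    obtain ⟨b, hb⟩ : ∃ b : B, b ∉ Submodule.span k {(1 : B)} := by
      by_contra hcon
      push Not at hcon
      refine hB (MulEquiv.isField (Field.toIsField k)
        ((RingEquiv.ofBijective (algebraMap k B) ⟨(algebraMap k B).injective, fun a => ?_⟩).symm.toMulEquiv))
      obtain ⟨c, hc⟩ := Submodule.mem_span_singleton.mp (hcon a)
      exact ⟨c, by rw [Algebra.algebraMap_eq_smul_one, hc]⟩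
    obtain ⟨x₀, hx₀, hx₀p⟩ := UnipCrit.exists_primitive_of_isUnipotent hUB hb
    obtain ⟨N, hN⟩ : ∃ N, x₀ ∉ RingHom.ker (Bialgebra.counitAlgHom k B) ^ N := by
      by_contra hcon
      push Not at hcon
      refine hx₀ ?_
      have := (Submodule.mem_iInf _).mpr hcon
      rwa [Ideal.iInf_pow_eq_bot_of_isDomain _ (RingHom.ker_ne_top _), Ideal.mem_bot] at this
    obtain ⟨x, hx, hx2⟩ := UnipOne.exists_prim_not_sq N x₀ hx₀p hN
    obtain ⟨C, _, _, _, ρ, hρ, hρx, hC⟩ := (exists_smaller hUB hx hx2).resolve_left hdim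
    have hlt : J < RingHom.ker ((ρ.comp π : A →ₐc[k] C) : A →+* C) := by
      refine lt_of_le_of_ne (fun a ha => ?_) fun h => ?_
      · show ρ (π a) = 0
        rw [← hJ] at ha
        rw [show π a = 0 from ha, map_zero]
      · obtain ⟨a, ha⟩ := hπ x
        refine hx2 ?_
        have : a ∈ J := h ▸ (show ρ (π a) = 0 by rw [ha, hρx])
        rw [← hJ] at this
        rw [← ha, show π a = 0 from this]
        exact zero_mem _
    obtain ⟨φ, hφ⟩ := ih _ hlt C (ρ.comp π) (hρ.comp hπ) rfl hC
    exact ⟨φ.comp ρ, hφ.comp hρ⟩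

end Groth.Agent.NeronComp.UnipGa
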