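import Groth.Agent.GrpSchLib.AffineHopf
import Groth.Agent.GrpSchLib.GaPts
import Groth.Agent.UnipOne.Ga
import Groth.Agent.NeronComp.UnipGa
import Groth.Agent.Deform.Chev.SemiAbExp
import Groth.Agent.Deform.Chev.AlgClosed
import Groth.Agent.Deform.GenSub.CommField
import Groth.Agent.S5433

set_option autoImplicit false
set_option linter.style.haveILetI false
set_option backward.isDefEq.respectTransparency false
universe u
open CategoryTheory CategoryTheory.Limits MonoidalCategory CartesianMonoidalCategory AlgebraicGeometry TensorProduct MonObj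

namespace Groth.Agent.NeronComp.NoGa
open GrpSchLib.AffineHopf
noncomputable section
variable (K : Type u) [Field K]

attribute [-instance] ULift.module ULift.module' ULift.smulLeft


def algZ : Algebra (ULift.{u} ℤ) K := ((algebraMap ℤ K).comp ULift.ringEquiv.toRingHom).toAlgebra

theorem ga_bialgEquiv : letI := algZ K
    Nonempty (SymmetricAlgebra K K ≃ₐc[K] K ⊗[(ULift.{u} ℤ)] SymmetricAlgebra (ULift.{u} ℤ) (ULift.{u} ℤ)) := by
  letI := algZ K
  letI : Algebra (ULift.{u} ℤ) (SymmetricAlgebra K K) := ((algebraMap K (SymmetricAlgebra K K)).comp (algebraMap (ULift.{u} ℤ) K)).toAlgebra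
  haveI : IsScalarTower (ULift.{u} ℤ) K (SymmetricAlgebra K K) := IsScalarTower.of_algebraMap_eq' rfl
  let g : K ⊗[(ULift.{u} ℤ)] SymmetricAlgebra (ULift.{u} ℤ) (ULift.{u} ℤ) := 1 ⊗ₜ SymmetricAlgebra.ι (ULift.{u} ℤ) (ULift.{u} ℤ) 1
  let f : SymmetricAlgebra K K →ₐ[K] K ⊗[(ULift.{u} ℤ)] SymmetricAlgebra (ULift.{u} ℤ) (ULift.{u} ℤ) :=
    SymmetricAlgebra.lift (LinearMap.toSpanSingleton K _ g)
  let h : K ⊗[(ULift.{u} ℤ)] SymmetricAlgebra (ULift.{u} ℤ) (ULift.{u} ℤ) →ₐ[K] SymmetricAlgebra K K :=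
    Algebra.TensorProduct.lift (Algebra.ofId K _)
      (SymmetricAlgebra.lift (LinearMap.toSpanSingleton (ULift.{u} ℤ) _ (SymmetricAlgebra.ι K K 1))) fun _ _ => Commute.all _ _
  let e : SymmetricAlgebra K K ≃ₐ[K] K ⊗[(ULift.{u} ℤ)] SymmetricAlgebra (ULift.{u} ℤ) (ULift.{u} ℤ) := AlgEquiv.ofAlgHom f h
    (Algebra.TensorProduct.ext (Subsingleton.elim _ _)
      (SymmetricAlgebra.algHom_ext (LinearMap.ext_ring (by simp [f, h, g]))))
    (SymmetricAlgebra.algHom_ext (LinearMap.ext_ring (by simp [f, h, g])))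
  have hg : Coalgebra.comul (R := K) g = g ⊗ₜ[K] (1 : K ⊗[(ULift.{u} ℤ)] SymmetricAlgebra (ULift.{u} ℤ) (ULift.{u} ℤ)) +
      (1 : K ⊗[(ULift.{u} ℤ)] SymmetricAlgebra (ULift.{u} ℤ) (ULift.{u} ℤ)) ⊗ₜ[K] g := by
    simp only [g]
    rw [TensorProduct.comul_tmul, show Coalgebra.comul (R := K) (1 : K) = (1 : K) ⊗ₜ[K] (1 : K) from Bialgebra.comul_one]
    simp [TensorProduct.tmul_add, Algebra.TensorProduct.one_def]
  have hfe : ∀ a, UnipOne.toGa hg a = e a := fun a => rfl
  let F : SymmetricAlgebra K K →ₐc[K] K ⊗[(ULift.{u} ℤ)] SymmetricAlgebra (ULift.{u} ℤ) (ULift.{u} ℤ) := UnipOne.toGa (k := K) (A := K ⊗[(ULift.{u} ℤ)] SymmetricAlgebra (ULift.{u} ℤ) (ULift.{u} ℤ)) hg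
  have hfe : ∀ a, F a = e a := hfe
  exact ⟨BialgEquiv.ofBijective F ⟨fun a b h => e.injective (by rwa [hfe, hfe] at h),
    fun c => ⟨e.symm c, (hfe _).trans (e.apply_symm_apply c)⟩⟩⟩

/-- The additive group over a field as the spectrum of the symmetric algebra. -/
theorem ga_iso : Nonempty (Grp.mk (Red.Ga (Spec (CommRingCat.of K))) ≅ Grp.mk (sp K (SymmetricAlgebra K K))) := by
  letI := algZ K
  obtain ⟨e₁⟩ := nonempty_bc_iso (Limits.IsTerminal.from specULiftZIsTerminal (Spec (CommRingCat.of K)))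
    (Spec.map (CommRingCat.ofHom (algebraMap (ULift.{u} ℤ) K))) (specULiftZIsTerminal.hom_ext _ _) Red.GaZ
  obtain ⟨e₂⟩ := nonempty_bc_sp (R := (ULift.{u} ℤ)) K (SymmetricAlgebra (ULift.{u} ℤ) (ULift.{u} ℤ))
  obtain ⟨e₃⟩ := ga_bialgEquiv K
  exact ⟨e₁ ≪≫ e₂ ≪≫ spIso e₃⟩

end
end Groth.Agent.NeronComp.NoGa

namespace Groth.Agent.NeronComp.NoGa
open GrpSchLib.AffineHopf Deform.Chev MonObj GrpObj
attribute [local instance] CategoryTheory.Hom.monoid CategoryTheory.Hom.group
noncomputable section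
variable {K : Type u} [Field K] [IsAlgClosed K]

/-- A commutative affine connected smooth group without `G_a` is of multiplicative type. -/
theorem maxMultType_eq_bot {A : Type u} [CommRing A] [HopfAlgebra K A] [Algebra.FiniteType K A] [IsDomain A]
    [Coalgebra.IsCocomm K A] (hA : ∀ φ : A →ₐc[K] SymmetricAlgebra K K, ¬ Function.Surjective φ)
    (J : Ideal A) [J.IsHopfIdeal K] (hJ : SGA3b.IsMultTypeConst K (A ⧸ J))
    (hJmax : ∀ (I : Ideal A) [I.IsHopfIdeal K], SGA3b.IsMultTypeConst K (A ⧸ I) → J ≤ I) : J = ⊥ := by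
  obtain ⟨I, ⟨iI, hU, hbij⟩, -⟩ := S5433.result K A J hJ hJmax
  haveI := iI
  let Ψ := (Algebra.TensorProduct.map (Ideal.Quotient.mkₐ K J) (Ideal.Quotient.mkₐ K I)).comp
    (Bialgebra.comulAlgHom K A)
  let ev : (A ⧸ J) ⊗[K] (A ⧸ I) →ₐ[K] A ⧸ J :=
    Algebra.TensorProduct.lift (AlgHom.id K (A ⧸ J))
      ((Algebra.ofId K (A ⧸ J)).comp (Bialgebra.counitAlgHom K (A ⧸ I))) fun _ _ => Commute.all _ _
  haveI : Nontrivial (A ⧸ J) := (Bialgebra.counitAlgHom K (A ⧸ J)).toRingHom.domain_nontrivial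
  haveI : Nontrivial (A ⧸ I) := (Bialgebra.counitAlgHom K (A ⧸ I)).toRingHom.domain_nontrivial
  haveI hId : IsDomain (A ⧸ I) := by
    let eΨ := AlgEquiv.ofBijective Ψ hbij
    exact (Function.Injective.isDomain (eΨ.symm.toAlgHom.comp
      (Algebra.TensorProduct.includeRight : (A ⧸ I) →ₐ[K] _)).toRingHom
      (eΨ.symm.injective.comp (Algebra.TensorProduct.includeRight_injective (algebraMap K (A ⧸ J)).injective)))
  have hfield : IsField (A ⧸ I) := by
    by_contra hne
    obtain ⟨φ, hφ⟩ := UnipGa.exists_surjective_ga hU hne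
    exact hA (φ.comp (Bialgebra.Quotient.mkBialgHom I)) (hφ.comp Ideal.Quotient.mk_surjective)
  have hinj : Function.Injective (Bialgebra.counitAlgHom K (A ⧸ I)) :=
    letI := hfield.toField
    RingHom.injective (Bialgebra.counitAlgHom K (A ⧸ I)).toRingHom
  have hev : Function.Injective ev := by
    refine Function.LeftInverse.injective (g := Algebra.TensorProduct.includeLeft (S := K)) fun t => ?_
    induction t using TensorProduct.induction_on with
    | zero => simp
    | tmul x y =>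
      have hy : y = algebraMap K (A ⧸ I) (Bialgebra.counitAlgHom K (A ⧸ I) y) := hinj (by simp)
      rw [hy]
      simp [ev, Algebra.algebraMap_eq_smul_one, TensorProduct.tmul_smul, TensorProduct.smul_tmul']
    | add x y hx hy => simp only [map_add, hx, hy]
  rw [eq_bot_iff]
  intro a ha
  refine Ideal.mem_bot.mpr (hbij.1 (hev ?_))
  rw [map_zero, map_zero]
  have hcomp : ∀ z : A ⊗[K] A, ev (Algebra.TensorProduct.map (Ideal.Quotient.mkₐ K J) (Ideal.Quotient.mkₐ K I) z)
      = Ideal.Quotient.mkₐ K J (TensorProduct.rid K A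
          (LinearMap.lTensor A (Coalgebra.counit (R := K) (A := A)) z)) := fun z => by
    induction z using TensorProduct.induction_on with
    | zero => simp
    | tmul x y =>
      simp [ev, Algebra.smul_def, mul_comm]
    | add x y hx hy => simp only [map_add, hx, hy]
  show ev (Algebra.TensorProduct.map _ _ (Coalgebra.comul (R := K) a)) = 0
  rw [hcomp, Coalgebra.lTensor_counit_comul, TensorProduct.rid_tmul, one_smul]
  exact Ideal.Quotient.eq_zero_iff_mem.mpr ha

theorem isIntegral_of_smooth_connected (G : Over (Spec (CommRingCat.of K))) [GrpObj G] [Smooth G.hom]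
    [QuasiCompact G.hom] [ConnectedSpace G.left] : IsIntegral G.left := by
  haveI : GeometricallyIntegral G.hom := Deform.AVFactor.geometricallyIntegral_smooth G
  exact GrpSchLib.Kunneth.isIntegral_grp G

/-- A connected smooth commutative group without closed `G_a` is semi-abelian. -/
theorem isSemiAb (G : Over (Spec (CommRingCat.of K))) [GrpObj G] [IsCommMonObj G] [Smooth G.hom]
    [ConnectedSpace G.left]
    (hG : ∀ j : Red.Ga (Spec (CommRingCat.of K)) ⟶ G, IsMonHom j → IsClosedImmersion j.left → False) :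
    SemiAbExt.IsSemiAb G := by
  haveI := Deform.GenSub.quasiCompact_of_connected G
  obtain ⟨N, iN, i, Q, iQ, q, hi, hic, hNs, hNq, hNc, hNa, -, hq, hqf, hqs, hk, hQ, hQs, hQc⟩ := exists_decomp G
  letI := iN; letI := iQ
  haveI := hi; haveI := hic; haveI := hNs; haveI := hNq; haveI := hNc; haveI := hNa
  haveI : Mono i := (Over.forget _).mono_of_mono_map (inferInstanceAs (Mono i.left))
  haveI : IsCommMonObj N := Deform.Extension.isCommMonObj_of fun T x y => by
    rw [← cancel_mono i, MonObj.mul_comp, MonObj.mul_comp, Deform.Extension.mul_comm_of (x ≫ i)]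
  obtain ⟨A, _, _, ⟨eA⟩⟩ := exists_hopf N
  let a : sp K A ⟶ N := eA.hom.hom.hom
  haveI : IsMonHom a := eA.hom.hom.isMonHom_hom
  haveI : IsIso a := ((Grp.forget _).mapIso eA).isIso_hom
  haveI : IsIso a.left := ((Grp.forget _ ⋙ Over.forget _).mapIso eA).isIso_hom
  haveI : Coalgebra.IsCocomm K A := S14691.isCocomm_of_iso a
  haveI : Algebra.FiniteType K A := Deform.QuasiIsotrivial.finiteType_sp eA
  haveI : IsIntegral N.left := isIntegral_of_smooth_connected N
  haveI : Nonempty ↥(Spec (CommRingCat.of A)) := ⟨(Scheme.homeoOfIso (asIso a.left)).symm (η[N].left (IsLocalRing.closedPoint K))⟩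
  haveI : IsIntegral (Spec (CommRingCat.of A)) := isIntegral_of_isOpenImmersion a.left
  haveI : IsDomain A := (affine_isIntegral_iff (CommRingCat.of A)).mp inferInstance
  obtain ⟨J, hJi, hJm, hJmax, -⟩ := UnipComp.exists_max_multType K A
  haveI := hJi
  have hJ : J = ⊥ := maxMultType_eq_bot (fun φ hφ => by
    obtain ⟨eGa⟩ := ga_iso K
    let b : Red.Ga (Spec (CommRingCat.of K)) ⟶ sp K (SymmetricAlgebra K K) := eGa.hom.hom.hom
    haveI : IsMonHom b := eGa.hom.hom.isMonHom_hom
    haveI : IsIso b.left := ((Grp.forget _ ⋙ Over.forget _).mapIso eGa).isIso_hom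
    haveI : IsClosedImmersion (spMap (φ : A →ₐ[K] SymmetricAlgebra K K)).left :=
      IsClosedImmersion.spec_of_surjective _ hφ
    refine hG (b ≫ spMap (φ : A →ₐ[K] SymmetricAlgebra K K) ≫ a ≫ i) inferInstance ?_
    exact inferInstanceAs (IsClosedImmersion
      (b.left ≫ (spMap (φ : A →ₐ[K] SymmetricAlgebra K K)).left ≫ a.left ≫ i.left))) J hJm hJmax
  let π : A →ₐc[K] A ⧸ J := Bialgebra.Quotient.mkBialgHom J
  have hπ : Function.Bijective π := ⟨fun x y h => by
    have := Ideal.Quotient.eq.mp h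
    rwa [hJ, Ideal.mem_bot, sub_eq_zero] at this, Ideal.Quotient.mk_surjective⟩
  let eπ := spIso (BialgEquiv.ofBijective π hπ)
  let T := sp K (A ⧸ J)
  let t : T ⟶ N := spMap (π : A →ₐ[K] A ⧸ J) ≫ a
  haveI : IsIso (spMap (π : A →ₐ[K] A ⧸ J)) := ((Grp.forget _).mapIso eπ).isIso_hom
  haveI : IsIso t := inferInstanceAs (IsIso (spMap (π : A →ₐ[K] A ⧸ J) ≫ a))
  haveI : IsIso t.left := ((Over.forget _).mapIso (asIso t)).isIso_hom
  haveI : IsMonHom t := inferInstanceAs (IsMonHom (spMap (π : A →ₐ[K] A ⧸ J) ≫ a))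
  haveI : Smooth T.hom := by rw [← Over.w t]; infer_instance
  haveI : ConnectedSpace T.left := (Scheme.homeoOfIso (asIso t.left)).symm.surjective.connectedSpace
    (Scheme.homeoOfIso (asIso t.left)).symm.continuous
  haveI : IsAffine T.left := inferInstanceAs (IsAffine (Spec (CommRingCat.of (A ⧸ J))))
  have hT : Red.IsTorus T := SemiAbExt.isTorus_of_multType (by
    obtain ⟨R', iR', iA', hff, hd⟩ := hJm
    exact Deform.isMultTypeFT_sp (MultTypeLib.isMultType_of_ff R' hd))
  refine ⟨T, inferInstance, t ≫ i, Q, iQ, q, inferInstance, ?_, hT, hq, hqs, hqf, ?_, hQ, hQs, hQc⟩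
  · exact inferInstanceAs (IsClosedImmersion (t.left ≫ i.left))
  · exact hk.of_iso (asIso t).symm (Iso.refl _) (Iso.refl _) (Iso.refl _) (by simp) (by simp) (by simp) (by simp)

end
end Groth.Agent.NeronComp.NoGa
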