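import Groth.Agent.NeronComp.NoGa
import Groth.Agent.GrpSchLib.MultTypeBC
import Groth.Agent.EtFound.Descent
import Groth.Prelude.Def_SGA7IX

/-!
# Multiplication by an integer on a group of unipotent rank zero
-/

set_option autoImplicit false
set_option linter.style.haveILetI false
set_option backward.isDefEq.respectTransparency false

universe u

open CategoryTheory CategoryTheory.Limits MonoidalCategory CartesianMonoidalCategory MonObj GrpObj AlgebraicGeometry

attribute [local instance] CategoryTheory.Hom.monoid CategoryTheory.Hom.group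

namespace Groth.Agent.NeronComp.NoGa

noncomputable section

variable {k : Type u} [Field k]

/-- Multiplication by a positive integer is flat, surjective and finite when some geometric base
change contains no closed `G_a`. -/
theorem pow_props_of_bc (G : Over (Spec (CommRingCat.of k))) [GrpObj G] [IsCommMonObj G] [Smooth G.hom]
    [ConnectedSpace G.left] {K : Type u} [Field K] [IsAlgClosed K]
    (π : Spec (CommRingCat.of K) ⟶ Spec (CommRingCat.of k))
    (hG : ∀ j : Red.Ga (Spec (CommRingCat.of K)) ⟶ Red.bc π G, IsMonHom j → IsClosedImmersion j.left → False)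
    {n : ℕ} (hn : 0 < n) :
    Flat (𝟙 G ^ n : G ⟶ G).left ∧ Surjective (𝟙 G ^ n : G ⟶ G).left ∧ IsFinite (𝟙 G ^ n : G ⟶ G).left := by
  haveI := Deform.GenSub.quasiCompact_of_connected G
  obtain ⟨φ, rfl⟩ := Spec.map_surjective π
  let g := Spec.map φ
  letI : Algebra k K := φ.hom.toAlgebra
  haveI : ConnectedSpace (Red.bc g G).left := GrpSchLib.AntiAffine.connectedSpace_bc G φ.hom
  haveI : Smooth (Red.bc g G).hom := inferInstanceAs (Smooth (pullback.snd G.hom g))
  haveI : QuasiCompact (Red.bc g G).hom := inferInstanceAs (QuasiCompact (pullback.snd G.hom g))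
  haveI : IsCommMonObj (Red.bc g G) := Deform.Extension.isCommMonObj_of fun T =>
    Deform.Extension.comm_bc g (fun T => Deform.Extension.mul_comm_of) T
  obtain ⟨-, hsurj, hfin⟩ := Deform.Chev.SemiAbExt.pow_props (isSemiAb (Red.bc g G) hG) hn
  rw [← Deform.Extension.pow_bc g G n] at hsurj hfin
  have sq := Deform.Extension.isPullback_map_left g (𝟙 G ^ n : G ⟶ G)
  haveI : Surjective g := inferInstanceAs (Surjective (Spec.map φ))
  haveI : Surjective (pullback.fst G.hom g) := MorphismProperty.pullback_fst (P := @Surjective) _ _ ‹_›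
  haveI hs : Surjective (𝟙 G ^ n : G ⟶ G).left := by
    haveI : Surjective (pullback.fst G.hom g ≫ (𝟙 G ^ n : G ⟶ G).left) := by
      rw [← sq.w]
      haveI := hsurj
      infer_instance
    exact Surjective.of_comp (pullback.fst G.hom g) _
  haveI : IsMonHom (𝟙 G ^ n : G ⟶ G) := Deform.Chev.SemiAb.isMonHom_pow (𝟙 G) n
  haveI := Deform.Chev.quasiCompact_of_grp (𝟙 G ^ n : G ⟶ G)
  haveI : IsReduced G.left := GrpSchLib.isReduced_of_smooth_field G.hom
  refine ⟨GrpSchLib.flat_of_surjective_hom _, hs, ?_⟩
  have hπ : (@Surjective ⊓ @Flat ⊓ @QuasiCompact : MorphismProperty Scheme.{u}) (pullback.fst G.hom g) :=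
    ⟨⟨inferInstance, inferInstance⟩, inferInstance⟩
  haveI := EtFound.fpqc_isFinite.{u}
  exact MorphismProperty.of_isPullback_of_descendsAlong (P := @IsFinite) sq hπ hfin

/-- A smooth connected commutative group of unipotent rank zero has flat, surjective and finite
multiplication by every positive integer. -/
theorem pow_props (G : Over (Spec (CommRingCat.of k))) [GrpObj G] [IsCommMonObj G] [Smooth G.hom]
    [ConnectedSpace G.left] (hG : SGA7.FibresUnipotentRankZero G) {n : ℕ} (hn : 0 < n) :
    Flat (𝟙 G ^ n : G ⟶ G).left ∧ Surjective (𝟙 G ^ n : G ⟶ G).left ∧ IsFinite (𝟙 G ^ n : G ⟶ G).left :=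
  let s : Spec (CommRingCat.of k) := IsLocalRing.closedPoint k
  pow_props_of_bc (K := AlgebraicClosure ((Spec (CommRingCat.of k)).residueField s)) G (Red.geomPt s) (hG s) hn

end

end Groth.Agent.NeronComp.NoGa
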