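import Groth.Agent.NeronComp.PowFlat
import Groth.Agent.NeronComp.Isogeny
import Groth.Agent.AVRosati.QuasiSection
import Groth.Agent.AVRosati.Factor

/-!
# Endomorphisms of semistable groups which are trivial on the connected special fibre
-/

set_option autoImplicit false
set_option linter.style.haveILetI false
set_option backward.isDefEq.respectTransparency false

universe u

open CategoryTheory CategoryTheory.Limits MonoidalCategory CartesianMonoidalCategory MonObj GrpObj AlgebraicGeometry

attribute [local instance] CategoryTheory.Hom.monoid CategoryTheory.Hom.group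

namespace Groth.Agent.NeronComp.SemistableFaithful

noncomputable section

variable (R K : Type u) [CommRing R] [IsDomain R] [IsDiscreteValuationRing R] [Field K] [Algebra R K]
  [IsFractionRing R K]

/-- A morphism into a Néron model is a homomorphism when its generic fibre is one. -/
theorem isMonHom_of_genFib {N N' : Over (Spec (CommRingCat.of R))} [GrpObj N] [GrpObj N'] (hN : SGA7.IsNeron R K N)
    (hN' : SGA7.IsNeron R K N') (f : N ⟶ N') [IsMonHom ((SGA7.genFib R K).map f)] : IsMonHom f := by
  let G := SGA7.genFib R K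
  haveI := hN.1
  letI : GrpObj (G.obj N) := Functor.grpObjObj
  letI : GrpObj (G.obj N') := Functor.grpObjObj
  refine WittEndoLib.isMonHom_of_mul f fun Y x y => ?_
  haveI : Smooth (N ⊗ N).hom := inferInstanceAs (Smooth (pullback.fst N.hom N.hom ≫ N.hom))
  have key : (fst N N * snd N N) ≫ f = (fst N N ≫ f) * (snd N N ≫ f) := by
    refine (hN'.2.2.2 (N ⊗ N) ‹_›).1 ?_
    show G.map _ = G.map _
    rw [G.map_comp, show G.map ((fst N N ≫ f) * (snd N N ≫ f)) = G.map (fst N N ≫ f) * G.map (snd N N ≫ f) from
      map_mul G.homMonoidHom _ _, show G.map (fst N N * snd N N) = G.map (fst N N) * G.map (snd N N) from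
      map_mul G.homMonoidHom _ _, G.map_comp, G.map_comp, MonObj.mul_comp]
  have h := congrArg (lift x y ≫ ·) key
  simpa [MonObj.comp_mul, ← Category.assoc] using h

/-- An endomorphism of a semistable group model which agrees with multiplication by a positive integer
on the connected special fibre is quasi-finite on the special fibre. -/
theorem lqf_special {N : Over (Spec (CommRingCat.of R))} [GrpObj N] [IsCommMonObj N] [Smooth N.hom]
    [IsSeparated N.hom] [QuasiCompact N.hom]
    (hss : SGA7.FibreUnipotentRankZero (IsLocalRing.closedPoint R) N) (e : N ⟶ N) [IsMonHom e] {M : ℕ} (hM : 0 < M)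
    (he : ∀ x ∈ SGA7.secComp R N η[N], ∀ y ∈ SGA7.secComp R N η[N], e.left x = e.left y)
    (g : N ⟶ N) [IsMonHom g] (hg : g * e = 𝟙 N ^ M) :
    LocallyQuasiFinite (SGA7.fibreHom (IsLocalRing.closedPoint R) g).left := by
  let S := Spec (CommRingCat.of R)
  let s : S := IsLocalRing.closedPoint R
  let σ := S.fromSpecResidueField s
  let P := Over.pullback σ
  let F := Red.bc σ N
  haveI : Smooth F.hom := inferInstanceAs (Smooth (pullback.snd N.hom σ))
  haveI : IsCommMonObj F := Deform.Extension.isCommMonObj_of fun T =>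
    Deform.Extension.comm_bc σ (fun T => Deform.Extension.mul_comm_of) T
  haveI : QuasiCompact F.hom := inferInstanceAs (QuasiCompact (pullback.snd N.hom σ))
  haveI := GrpSchLib.AntiAffine.isSeparated_grp F
  obtain ⟨G₀, iG₀, c, hc, hcc, hcf, hcr, hgi, hcp⟩ :=
    GrpSchLib.exists_identityComponent (K := S.residueField s) (G := F)
  letI := iG₀
  haveI := hc; haveI := hcc; haveI := hcf; haveI := hgi; haveI := hcp
  haveI : IsLocallyNoetherian F.left := LocallyOfFiniteType.isLocallyNoetherian F.hom
  haveI : IsOpenImmersion c.left := IsOpenImmersion.of_flat_of_mono c.left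
  haveI : Mono c := (Over.forget _).mono_of_mono_map (inferInstanceAs (Mono c.left))
  haveI : Smooth G₀.hom := by rw [← Over.w c]; infer_instance
  haveI : IrreducibleSpace G₀.left := GeometricallyIrreducible.irreducibleSpace G₀.hom G₀.hom.isOpenMap
  haveI : ConnectedSpace G₀.left := inferInstance
  haveI : IsCommMonObj G₀ := Deform.Extension.isCommMonObj_of fun T x y => by
    rw [← cancel_mono c, MonObj.mul_comp, MonObj.mul_comp, Deform.Extension.mul_comm_of (x ≫ c)]
  -- the endomorphism is trivial on the connected special fibre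
  haveI : IsMonHom (P.map e) := inferInstance
  haveI : IsMonHom (P.map g) := inferInstance
  let o := η[F].left (IsLocalRing.closedPoint (S.residueField s))
  have hincl : ∀ w : F.left, N.hom (pullback.fst N.hom σ w) = s := fun w => GrpSchLib.HomFibre.hom_incl w
  have ho : pullback.fst N.hom σ o = η[N].left s := by
    have h := congrArg (fun f : Spec (CommRingCat.of (S.residueField s)) ⟶ N.left =>
      f (IsLocalRing.closedPoint _)) (unit_fst σ N)
    exact h.trans ((Scheme.Hom.comp_apply _ _ _).trans (congrArg η[N].left (Scheme.fromSpecResidueField_apply _ _)))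
  have hsub : ∀ w ∈ connectedComponent o, pullback.fst N.hom σ w ∈ SGA7.secComp R N η[N] := by
    intro w hw
    refine (isPreconnected_connectedComponent.image _ (pullback.fst N.hom σ).continuous.continuousOn
      ).subset_connectedComponentIn ⟨o, mem_connectedComponent, ?_⟩ ?_ ⟨w, hw, rfl⟩
    · exact ho
    · rintro _ ⟨z, -, rfl⟩
      exact hincl z
  have hsq := GrpSchLib.HomFibre.map_isPullback e σ
  have hcomm : ∀ w, pullback.fst N.hom σ ((P.map e).left w) = e.left (pullback.fst N.hom σ w) := fun w =>
    ((Scheme.Hom.comp_apply _ _ w).symm.trans ((congrArg (fun f : _ ⟶ N.left => f w) hsq.w).symm.trans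
      (Scheme.Hom.comp_apply _ _ w)))
  have heo : (P.map e).left o = o := congrArg
    (fun f : 𝟙_ _ ⟶ F => f.left (IsLocalRing.closedPoint (S.residueField s))) (IsMonHom.one_hom (P.map e))
  have hpt : ∀ z : G₀.left, (c ≫ P.map e).left z = o := fun z => by
    apply (pullback.fst N.hom σ).isEmbedding.injective
    refine (congrArg (pullback.fst N.hom σ) (Scheme.Hom.comp_apply c.left (P.map e).left z)).trans ?_
    exact (hcomm _).trans ((he _ (hsub _ (hcr ▸ ⟨z, rfl⟩)) _ (hsub o mem_connectedComponent)).trans
      ((hcomm o).symm.trans (congrArg (pullback.fst N.hom σ) heo)))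
  haveI : IsReduced G₀.left := GrpSchLib.isReduced_of_smooth_field G₀.hom
  haveI : IsClosedImmersion η[F].left := by
    haveI : IsClosedImmersion (η[F].left ≫ F.hom) := by
      rw [Over.w]; exact inferInstanceAs (IsClosedImmersion (𝟙 (Spec (S.residueField s))))
    exact IsClosedImmersion.of_comp η[F].left F.hom
  obtain ⟨l, hl⟩ := AVRosati.SubAV.exists_lift_over (c ≫ P.map e) η[F]
    (fun y ⟨z, hz⟩ => ⟨IsLocalRing.closedPoint _, (hpt z).symm.trans hz⟩)
  have hce : c ≫ P.map e = 1 := by rw [← hl, toUnit_unique l (toUnit G₀), Hom.one_def]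
  have hcg : c ≫ P.map g = (𝟙 G₀ ^ M : G₀ ⟶ G₀) ≫ c := by
    have h1 : P.map g * P.map e = (𝟙 F ^ M : F ⟶ F) := by
      rw [← show P.map (g * e) = P.map g * P.map e from map_mul P.homMonoidHom g e, hg]
      exact Deform.Extension.pow_bc σ N M
    have h2 := congrArg (c ≫ ·) h1
    simp only [MonObj.comp_mul, hce, _root_.mul_one, MonObj.comp_pow, Category.comp_id] at h2
    rw [h2, Deform.Extension.pow_comp_hom c (𝟙 G₀) M, Category.id_comp]
  let π : Spec (CommRingCat.of (AlgebraicClosure (S.residueField s))) ⟶ Spec (S.residueField s) :=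
    Spec.map (CommRingCat.ofHom (algebraMap (S.residueField s) (AlgebraicClosure (S.residueField s))))
  obtain ⟨-, -, hfin⟩ := NoGa.pow_props_of_bc G₀ π (fun j hj hjc => by
    obtain ⟨e'⟩ := GrpSchLib.MultTypeBC.bc_bc π σ N
    let b : Red.bc π F ⟶ Red.geomFibre s N := e'.hom.hom.hom
    haveI : IsMonHom b := e'.hom.hom.isMonHom_hom
    haveI : IsIso b.left := ((Grp.forget _ ⋙ Over.forget _).mapIso e').isIso_hom
    haveI := hj; haveI := hjc
    haveI : IsClosedImmersion ((Over.pullback π).map c).left :=
      MorphismProperty.overPullbackMap (P := @IsClosedImmersion) π c hcc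
    exact hss (j ≫ (Over.pullback π).map c ≫ b) inferInstance
      (inferInstanceAs (IsClosedImmersion (j.left ≫ ((Over.pullback π).map c).left ≫ b.left)))) hM
  haveI := hfin
  haveI hlq : LocallyQuasiFinite (c.left ≫ (P.map g).left) := by
    rw [← Over.comp_left, hcg, Over.comp_left]; infer_instance
  haveI : LocallyOfFiniteType g.left := by
    haveI : LocallyOfFiniteType (g.left ≫ N.hom) := by rw [Over.w g]; infer_instance
    exact locallyOfFiniteType_of_comp g.left N.hom
  haveI := GrpSchLib.HomFibre.fib_lft g σ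
  let z₀ := η[G₀].left (IsLocalRing.closedPoint (S.residueField s))
  have h0 : c.left z₀ ∈ GrpSchLib.Loci.loc (@LocallyQuasiFinite ⊓ @LocallyOfFiniteType : MorphismProperty Scheme.{u})
      (P.map g).left :=
    (GrpSchLib.HomFibre.mem_loc_LQ_iff _ _).mpr (Scheme.Hom.quasiFiniteAt_comp_iff_of_isOpenImmersion.mp
      ((c.left ≫ (P.map g).left).quasiFiniteAt z₀))
  rw [← Scheme.Hom.quasiFiniteLocus_eq_top_iff, eq_top_iff]
  intro x _
  exact (GrpSchLib.HomFibre.mem_loc_LQ_iff _ x).mp (GrpSchLib.HomFibre.fib_sat g GrpSchLib.Loci.compat_LQ s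
    (inferInstanceAs (LocallyOfFiniteType (pullback.snd N.hom σ))) (c.left z₀) x h0)

theorem hom_eq_one {N N' : Over (Spec (CommRingCat.of R))} [GrpObj N] [GrpObj N'] (hN : SGA7.IsNeron R K N)
    (hN' : SGA7.IsNeron R K N')
    [IsProper ((SGA7.genFib R K).obj N).hom] [GeometricallyIntegral ((SGA7.genFib R K).obj N).hom]
    [IsProper ((SGA7.genFib R K).obj N').hom] [GeometricallyIntegral ((SGA7.genFib R K).obj N').hom]
    (hss : SGA7.FibreUnipotentRankZero (IsLocalRing.closedPoint R) N) (u : N ⟶ N') [IsMonHom u]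
    (hu : ∀ x ∈ SGA7.secComp R N η[N], ∀ y ∈ SGA7.secComp R N η[N], u.left x = u.left y) : u = 1 := by
  haveI := hN.1; haveI := hN.2.1; haveI := hN.2.2.1; haveI := hN'.1
  let G := SGA7.genFib R K
  let A := G.obj N
  let B := G.obj N'
  letI iA : GrpObj A := Functor.grpObjObj
  letI iB : GrpObj B := Functor.grpObjObj
  haveI : IsProper A.hom := ‹IsProper ((SGA7.genFib R K).obj N).hom›
  haveI : GeometricallyIntegral A.hom := ‹GeometricallyIntegral ((SGA7.genFib R K).obj N).hom›
  haveI : IsProper B.hom := ‹IsProper ((SGA7.genFib R K).obj N').hom›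
  haveI : GeometricallyIntegral B.hom := ‹GeometricallyIntegral ((SGA7.genFib R K).obj N').hom›
  haveI : IsCommMonObj A := isCommMonObj_of_isProper_of_geometricallyIntegral A
  haveI : IsCommMonObj ((SGA7.genFib R K).obj N) := ‹IsCommMonObj A›
  haveI : IsCommMonObj N := isCommMonObj_of_genericFibre (R := R) (K := K) N
  obtain ⟨y, M, hM, hy, hfy⟩ := AVRosati.QuasiSection.exists_regular (G.map u)
  haveI := hy
  -- extend the quasi-inverse
  obtain ⟨Y, hY⟩ := (hN.2.2.2 N' hN'.1).2 y
  haveI : IsMonHom ((SGA7.genFib R K).map Y) := by rw [show G.map Y = y from hY]; exact hy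
  haveI : IsMonHom Y := isMonHom_of_genFib R K hN' hN Y
  let e := u ≫ Y
  haveI : IsMonHom e := inferInstanceAs (IsMonHom (u ≫ Y))
  haveI : IsMonHom e⁻¹ := WittEndoLib.isMonHom_of_mul _ fun T a b => by
    rw [GrpObj.comp_inv, GrpObj.comp_inv, GrpObj.comp_inv, MonObj.mul_comp, _root_.mul_inv]
  let g : N ⟶ N := 𝟙 N ^ M * e⁻¹
  haveI : IsMonHom g := WittEndoLib.isMonHom_of_mul g fun T a b => by
    show (a * b) ≫ (𝟙 N ^ M * e⁻¹) = _
    rw [MonObj.comp_mul, MonObj.comp_mul, MonObj.comp_mul, MonObj.comp_pow, MonObj.comp_pow, MonObj.comp_pow,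
      Category.comp_id, Category.comp_id, Category.comp_id, GrpObj.comp_inv, GrpObj.comp_inv, GrpObj.comp_inv,
      MonObj.mul_comp, _root_.mul_pow, _root_.mul_inv]
    exact _root_.mul_mul_mul_comm _ _ _ _
  haveI := lqf_special R hss e hM (fun a ha b hb => by
    show (u.left ≫ Y.left) a = (u.left ≫ Y.left) b
    rw [Scheme.Hom.comp_apply, Scheme.Hom.comp_apply, hu a ha b hb]) g (inv_mul_cancel_right _ _)
  haveI : IsPreimmersion (Spec.map (CommRingCat.ofHom (algebraMap R K))) :=
    IsPreimmersion.of_isLocalization (nonZeroDivisors R)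
  haveI : IsFinite (G.map g).left := isFinite_map g K
  haveI hA : GeometricallyIntegral A.hom := ‹_›
  haveI : IsIntegral A.left := hA.geometrically_isIntegral (K := K) (𝟙 _) (𝟙 _) A.hom IsPullback.of_id_fst
  haveI : Surjective (G.map g).left := surjective_of_finite_of_dim_eq (G.map g) rfl
  haveI : IsReduced A.left := inferInstance
  have hge : G.map g ≫ G.map e = 1 := by
    rw [show G.map g = G.map (𝟙 N ^ M) * (G.map e)⁻¹ from
      (map_mul G.homMonoidHom _ _).trans (congrArg (G.map (𝟙 N ^ M) * ·) (map_inv G.homMonoidHom e)),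
      show G.map (𝟙 N ^ M) = (𝟙 A ^ M : A ⟶ A) from Deform.Extension.pow_bc _ N M,
      show G.map e = G.map u ≫ y from (G.map_comp u Y).trans (congrArg (G.map u ≫ ·) hY),
      MonObj.mul_comp, GrpObj.inv_comp, Category.assoc, reassoc_of% hfy,
      Deform.Extension.pow_comp_hom (G.map u ≫ y), Category.id_comp, Deform.Extension.pow_comp_hom y,
      mul_inv_cancel]
  have he1 : G.map e = 1 :=
    AVRosati.Factor.cancel_surjective (G.map g) (f := G.map e) (g := 1) (by rw [hge, MonObj.comp_one])
  have hu1 : G.map u = 1 := by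
    have h := congrArg (· ≫ G.map u) he1
    simp only [MonObj.one_comp] at h
    rw [show G.map e = G.map u ≫ y from (G.map_comp u Y).trans (congrArg (G.map u ≫ ·) hY), Category.assoc, hfy] at h
    haveI := AVMulN.surjective_pow (A := A) M hM
    refine AVRosati.Factor.cancel_surjective (𝟙 A ^ M : A ⟶ A) (f := G.map u) (g := 1) ?_
    rw [MonObj.comp_one, Deform.Extension.pow_comp_hom (G.map u), Category.id_comp, h]
  exact (hN'.2.2.2 N hN.1).1 (hu1.trans (map_one G.homMonoidHom).symm)

end

end Groth.Agent.NeronComp.SemistableFaithful
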